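/-
helper3 library (J2 icosian family): verification of the action of ten reflections on the `315`
lines.
-/
import Cfsg.Agent.Lib.H3.J2.TabData

set_option autoImplicit false
set_option maxRecDepth 100000

namespace Cfsg.Agent.Lib.H3.J2

open Quaternion Cfsg.Spor
open Cfsg.Agent.Lib.H17.CosetCert (force force_eq lk)

theorem repsN_eq : repsN = reps.map encV := by decide

/-- residues of `(2, 0, 0)` -/
def twoVN : V3N := ⟨⟨4, 0, 0, 0, 0, 0, 0, 0⟩, ⟨0, 0, 0, 0, 0, 0, 0, 0⟩, ⟨0, 0, 0, 0, 0, 0, 0, 0⟩⟩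

/-- the `i`-th entry of a list of vectors -/
def getV (l : List V3N) (i : ℕ) : V3N :=
  List.rec (motive := fun _ => ℕ → V3N) (fun _ => twoVN)
    (fun a _ ih i => Nat.rec (motive := fun _ => V3N) a (fun m _ => ih m) i) l i

theorem getV_map : ∀ (l : List V3) (i : ℕ), getV (l.map encV) i = encV (l.getD i twoV)
  | [], _ => rfl
  | _ :: _, 0 => rfl
  | _ :: l, i + 1 => getV_map l i

theorem getV_repsN (i : ℕ) : getV repsN i = encV (repV i) := by
  rw [repsN_eq, getV_map]
  rfl

theorem getL_map : ∀ (l : List Q) (i : ℕ), getL oneN (l.map enc) i = enc (l.getD i oneM)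
  | [], _ => rfl
  | _ :: _, 0 => rfl
  | _ :: l, i + 1 => getL_map l i

/-- evaluate the coordinates before continuing -/
def forceV {β : Type} (v : V3N) (k : V3N → β) : β :=
  match v with
  | ⟨x, y, z⟩ => k ⟨x, y, z⟩

@[simp] theorem forceV_eq {β : Type} (v : V3N) (k : V3N → β) : forceV v k = k v := by
  cases v
  rfl

/-- the Hermitian product on residues -/
def qipN (R G : V3N) : QN :=
  QN.addF (QN.addF (QN.mulF R.x (QN.conjF G.x)) (QN.mulF R.y (QN.conjF G.y))) (QN.mulF R.z (QN.conjF G.z))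

theorem qipN_enc (R G : V3) : qipN (encV R) (encV G) = enc (qipM R G) := by
  simp only [qipN, encV, qipM, QN.addF_eq, QN.mulF_eq, QN.conjF_eq, enc_add, enc_mul, enc_conj]

/-- the test for one coordinate -/
def chkCoord (c r g u r' : QN) : Bool :=
  QN.beqF (QN.subF (QN.smulF 8 r) (QN.mulF c g)) (QN.smulF 4 (QN.mulF u r'))

/-- the test for one entry: the reflection in `G` maps `R` to `U R'` -/
def chkEntry (G R R' : V3N) (U : QN) : Bool :=
  forceQ (qipN R G) fun c =>
    chkCoord c R.x G.x U R'.x && (chkCoord c R.y G.y U R'.y && chkCoord c R.z G.z U R'.z)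

/-- the test for the `i`-th entry -/
def entryOK (G : V3N) (tj tu i : ℕ) : Bool :=
  force (lk 9 512 tj i) fun j => force (lk 7 128 tu i) fun k =>
    Nat.blt j 315 && forceV (getV repsN i) fun R => forceV (getV repsN j) fun R' =>
      forceQ (getL oneN unitNL k) fun U => chkEntry G R R' U

/-- a loop -/
def allBelow (p : ℕ → Bool) (n : ℕ) : Bool :=
  Nat.rec (motive := fun _ => Bool) true (fun i ih => cond (p i) ih false) n

theorem allBelow_sound (p : ℕ → Bool) : ∀ n, allBelow p n = true → ∀ i < n, p i = true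
  | 0, _, i, hi => by omega
  | n + 1, h, i, hi => by
    have h' : cond (p n) (allBelow p n) false = true := h
    cases hb : p n with
    | false => rw [hb] at h'; exact absurd h' (by simp)
    | true =>
      rw [hb] at h'
      rcases Nat.lt_succ_iff_lt_or_eq.mp hi with hlt | rfl
      · exact allBelow_sound p n h' i hlt
      · exact hb

/-- the test for the table of the reflection in the `g`-th representative -/
def chkTab (g tj tu : ℕ) : Bool :=
  forceV (getV repsN g) fun G => allBelow (entryOK G tj tu) 315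

/-! ### soundness -/

namespace Q

theorem smul8_bd {x : Q} {B : ℤ} (hx : x.bd B) : (Q.smul 8 x).bd (8 * B) := by
  unfold bd at *
  simp only [smul]
  omega

theorem smul4_bd {x : Q} {B : ℤ} (hx : x.bd B) : (Q.smul 4 x).bd (4 * B) := by
  unfold bd at *
  simp only [smul]
  omega

theorem dbl_of_smul {x y : Q} (h : Q.smul 8 x = Q.smul 4 y) : y = x.dbl := by
  cases x; cases y
  simp only [smul, Q.mk.injEq] at h
  simp only [dbl, add, Q.mk.injEq]
  omega

end Q

theorem enc_smul8 (x : Q) : enc (Q.smul 8 x) = QN.smulF 8 (enc x) := by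
  rw [QN.smulF_eq]
  exact enc_smul 8 x

theorem enc_smul4 (x : Q) : enc (Q.smul 4 x) = QN.smulF 4 (enc x) := by
  rw [QN.smulF_eq]
  exact enc_smul 4 x

/-- one coordinate of the reflection, in the model -/
theorem coord_eq {c r g v' : Q} (h : val v' = val r - ((1 / 2 : ℝ) • ((1 / 4 : ℝ) • φ c)) * val g) :
    Q.smul 8 v' = (Q.smul 8 r).sub (c.mul g) := by
  apply φ_injective
  rw [φ_sub, φ_smul, φ_smul, φ_mul]
  unfold val at h
  have := congrArg (fun q => (16 : ℝ) • q) h
  simp only [smul_sub, smul_smul, smul_mul_smul_comm] at this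
  norm_num at this
  push_cast
  exact this

theorem valid_bd {V : V3} (hV : Valid V) : V.x.bd 4 ∧ V.y.bd 4 ∧ V.z.bd 4 := by
  obtain ⟨-, hP, -⟩ := hV
  have hx0 := Q.nP_nonneg V.x
  have hy0 := Q.nP_nonneg V.y
  have hz0 := Q.nP_nonneg V.z
  unfold V3.nP at hP
  exact ⟨bd_of_nP (by omega), bd_of_nP (by omega), bd_of_nP (by omega)⟩

theorem coord_sound {c r g U r' v' : Q} (hU : U ∈ unitL) (hr' : r'.bd 4) (hv' : v'.bd 4)
    (h : val v' = val r - ((1 / 2 : ℝ) • ((1 / 4 : ℝ) • φ c)) * val g)
    (hc : chkCoord (enc c) (enc r) (enc g) (enc U) (enc r') = true) : val v' = val U * val r' := by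
  have e1 := coord_eq h
  unfold chkCoord at hc
  rw [QN.beqF_iff, QN.mulF_eq, QN.mulF_eq, QN.subF_eq, ← enc_mul, ← enc_mul, ← enc_smul8, ← enc_smul4,
    ← enc_sub, ← e1] at hc
  have b1 : (Q.smul 8 v').bd 512 := Q.bd_mono (by norm_num) (Q.smul8_bd hv')
  have b2 : (Q.smul 4 (U.mul r')).bd 512 :=
    Q.bd_mono (by norm_num) (Q.smul4_bd (Q.mul_bd (unitL_bd U hU) hr'))
  have e2 := enc_inj (by norm_num) b1 b2 hc
  exact (val_mul (Q.dbl_of_smul e2)).symm

/-- soundness of the test for one entry -/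
theorem entry_sound {G R R' : V3} {U : Q} (hG : Valid G) (hR : Valid R) (hR' : Valid R') (hU : U ∈ unitL)
    (h : chkEntry (encV G) (encV R) (encV R') (enc U) = true) :
    qrefl (valV G) (valV R) = lsm (val U) (valV R') := by
  have hG' := (valid_iff G).mp hG
  have hR2 := (valid_iff R).mp hR
  have hmem : qrefl (valV G) (valV R) ∈ icoLeech := qrefl_mem hG'.1 hR2.1
  have h4 : qip (qrefl (valV G) (valV R)) (qrefl (valV G) (valV R)) = 4 := by
    rw [qip_qrefl hG'.2, hR2.2]
  obtain ⟨V', hV', e⟩ := exists_valid hmem h4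
  obtain ⟨bx, bY, bz⟩ := valid_bd hV'
  obtain ⟨bx', bY', bz'⟩ := valid_bd hR'
  unfold chkEntry at h
  rw [forceQ_eq, qipN_enc, Bool.and_eq_true, Bool.and_eq_true] at h
  obtain ⟨h0, h1, h2⟩ := h
  have e0 := congrFun e 0
  have e1 := congrFun e 1
  have e2 := congrFun e 2
  simp only [qrefl, qip_valV, valV_zero, valV_one, valV_two] at e0 e1 e2
  rw [e]
  funext t
  fin_cases t
  · exact coord_sound hU bx' bx e0.symm h0
  · exact coord_sound hU bY' bY e1.symm h1
  · exact coord_sound hU bz' bz e2.symm h2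

theorem unit_getD_mem' (k : ℕ) : unitL.getD k oneM ∈ unitL := by
  by_cases hk : k < unitL.length
  · rw [List.getD_eq_getElem _ _ hk]
    exact List.getElem_mem _
  · rw [List.getD_eq_default _ _ (by omega)]
    decide

/-- **soundness of the test of a table** -/
theorem chkTab_sound {g tj tu : ℕ} (h : chkTab g tj tu = true) :
    ∀ i < 315, lk 9 512 tj i < 315 ∧
      ∃ U ∈ unitL, qrefl (rv g : Fin 3 → ℍ[ℝ]) (rv i) = lsm (val U) (rv (lk 9 512 tj i)) := by
  unfold chkTab at h
  rw [forceV_eq] at h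
  intro i hi
  have hi' := allBelow_sound _ _ h i hi
  unfold entryOK at hi'
  rw [force_eq, force_eq, Bool.and_eq_true, forceV_eq, forceV_eq, forceQ_eq, getV_repsN, getV_repsN,
    getV_repsN, unitNL_eq, getL_map] at hi'
  obtain ⟨hj, hc⟩ := hi'
  refine ⟨?_, unitL.getD (lk 7 128 tu i) oneM, unit_getD_mem' _, ?_⟩
  · simpa [Nat.blt] using hj
  exact entry_sound (repV_valid g) (repV_valid i) (repV_valid _) (unit_getD_mem' _) hc

end Cfsg.Agent.Lib.H3.J2
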