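/-
helper3 library (J2 icosian family): words in ten reflections and their conjugation action on the
`315` reflections.
-/
import Cfsg.Agent.Lib.H3.J2.Tabs

set_option autoImplicit false
set_option maxRecDepth 100000

namespace Cfsg.Agent.Lib.H3.J2

open Quaternion Cfsg.Spor
open Cfsg.Agent.Lib.H17.CosetCert (force force_eq lk applyT applyT_nil applyT_cons applyT_append
  checkWord checkWord_sound)

theorem tab_chk0 : chkTab 305 (tabJ.getD 0 0) (tabU.getD 0 0) = true := by decide +kernel
theorem tab_chk1 : chkTab 52 (tabJ.getD 1 0) (tabU.getD 1 0) = true := by decide +kernel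
theorem tab_chk2 : chkTab 304 (tabJ.getD 2 0) (tabU.getD 2 0) = true := by decide +kernel
theorem tab_chk3 : chkTab 66 (tabJ.getD 3 0) (tabU.getD 3 0) = true := by decide +kernel
theorem tab_chk4 : chkTab 203 (tabJ.getD 4 0) (tabU.getD 4 0) = true := by decide +kernel
theorem tab_chk5 : chkTab 175 (tabJ.getD 5 0) (tabU.getD 5 0) = true := by decide +kernel
theorem tab_chk6 : chkTab 18 (tabJ.getD 6 0) (tabU.getD 6 0) = true := by decide +kernel
theorem tab_chk7 : chkTab 244 (tabJ.getD 7 0) (tabU.getD 7 0) = true := by decide +kernel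
theorem tab_chk8 : chkTab 222 (tabJ.getD 8 0) (tabU.getD 8 0) = true := by decide +kernel
theorem tab_chk9 : chkTab 132 (tabJ.getD 9 0) (tabU.getD 9 0) = true := by decide +kernel

theorem tab_chk : ∀ m < 10, chkTab (basicL.getD m 0) (tabJ.getD m 0) (tabU.getD m 0) = true := by
  intro m hm
  interval_cases m
  · exact tab_chk0
  · exact tab_chk1
  · exact tab_chk2
  · exact tab_chk3
  · exact tab_chk4
  · exact tab_chk5
  · exact tab_chk6
  · exact tab_chk7
  · exact tab_chk8
  · exact tab_chk9

/-- the packed tables describe the conjugation action of `g` on the reflections -/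
structure Sem (ts : List ℕ) (g : Equiv.Perm icoLeech) : Prop where
  /-- the element is in the group -/
  mem : g ∈ twoJ2
  /-- the tables map lines to lines -/
  lt : ∀ i < 315, applyT 9 512 ts i < 315
  /-- the conjugation action -/
  conj : ∀ i < 315, g⁻¹ * ρ i * g = ρ (applyT 9 512 ts i)

theorem sem_nil : Sem [] 1 :=
  ⟨Subgroup.one_mem _, fun _ hi => hi, fun i _ => by rw [applyT_nil]; simp⟩

theorem Sem.append {ts us : List ℕ} {g h : Equiv.Perm icoLeech} (hg : Sem ts g) (hh : Sem us h) :
    Sem (ts ++ us) (g * h) := by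
  refine ⟨Subgroup.mul_mem _ hg.mem hh.mem, fun i hi => ?_, fun i hi => ?_⟩
  · rw [applyT_append]
    exact hh.lt _ (hg.lt i hi)
  · rw [applyT_append, ← hh.conj _ (hg.lt i hi), ← hg.conj i hi]
    simp only [mul_inv_rev, mul_assoc]

/-- the basic case: a verified table -/
theorem sem_of_chk {g tj tu : ℕ} (h : chkTab g tj tu = true) : Sem [tj] (ρ g) := by
  have hs := chkTab_sound h
  refine ⟨ρ_mem g, fun i hi => ?_, fun i hi => ?_⟩
  · rw [applyT_cons, applyT_nil]
    exact (hs i hi).1
  · rw [applyT_cons, applyT_nil]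
    obtain ⟨-, U, hU, e⟩ := hs i hi
    have := conj_ρ (isLin_of_mem (ρ_mem g)) hU (i := i) (j := lk 9 512 tj i) e
    rw [ρ_inv] at this ⊢
    exact this

/-- the packed tables of a word in the ten reflections -/
def tw (w : List ℕ) : List ℕ := w.map fun m => tabJ.getD m 0

/-- the element of a word in the ten reflections -/
noncomputable def gw (w : List ℕ) : Equiv.Perm icoLeech := (w.map fun m => ρ (basicL.getD m 0)).prod

theorem gw_nil : gw [] = 1 := rfl

theorem gw_cons (m : ℕ) (w : List ℕ) : gw (m :: w) = ρ (basicL.getD m 0) * gw w := by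
  simp [gw]

theorem gw_append (w w' : List ℕ) : gw (w ++ w') = gw w * gw w' := by
  simp [gw]

theorem gw_reverse (w : List ℕ) : gw w.reverse = (gw w)⁻¹ := by
  induction w with
  | nil => simp [gw]
  | cons m w ih =>
    rw [List.reverse_cons, gw_append, ih, gw_cons m w, mul_inv_rev, gw_cons, gw_nil, mul_one, ρ_inv]

theorem sem_word : ∀ w : List ℕ, (∀ m ∈ w, m < 10) → Sem (tw w) (gw w)
  | [], _ => sem_nil
  | m :: w, h => by
    rw [gw_cons]
    have h1 : Sem [tabJ.getD m 0] (ρ (basicL.getD m 0)) :=
      sem_of_chk (tab_chk m (h m List.mem_cons_self))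
    exact h1.append (sem_word w fun m' hm' => h m' (List.mem_cons_of_mem _ hm'))

theorem gw_mem (w : List ℕ) : gw w ∈ twoJ2 := by
  unfold gw
  apply Subgroup.list_prod_mem
  intro x hx
  obtain ⟨m, -, rfl⟩ := List.mem_map.mp hx
  exact ρ_mem _

/-- an element whose conjugation action is trivial is central -/
theorem central_of_sem {ts : List ℕ} {g : Equiv.Perm icoLeech} (hs : Sem ts g)
    (h : ∀ i < 315, applyT 9 512 ts i = i) : (⟨g, hs.mem⟩ : twoJ2) ∈ Subgroup.center twoJ2 := by
  rw [Subgroup.mem_center_iff]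
  rintro ⟨k, hk⟩
  apply Subtype.ext
  show k * g = g * k
  have hcomm : ∀ k' ∈ twoJ2, k' * g = g * k' := by
    intro k' hk'
    rw [twoJ2_eq_closure'] at hk'
    induction hk' using Subgroup.closure_induction with
    | mem x hx =>
      obtain ⟨i, hi, rfl⟩ := hx
      have := hs.conj i hi
      rw [h i hi] at this
      calc ρ i * g = g * (g⁻¹ * ρ i * g) := by simp only [mul_assoc, mul_inv_cancel_left]
        _ = g * ρ i := by rw [this]
    | one => simp
    | mul x y _ _ hx hy => rw [mul_assoc, hy, ← mul_assoc, hx, mul_assoc]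
    | inv x _ hx =>
      have : x⁻¹ * (x * g) * x⁻¹ = x⁻¹ * (g * x) * x⁻¹ := by rw [hx]
      simpa [mul_assoc] using this.symm
  exact hcomm k hk

end Cfsg.Agent.Lib.H3.J2
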