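/-
helper3 library (J2 icosian family): the Hall-Janko group of the icosian Leech lattice is isomorphic
to the group presented by `a5b3c8d3e`, `a = (cd)^4`, `((bcdcd)^5 e)^3 = 1`.
-/
import Cfsg.Agent.Lib.H3.J2.Words
import Cfsg.Agent.Lib.H17.J2Ord.Simple

set_option autoImplicit false
set_option maxRecDepth 100000

namespace Cfsg.Agent.Lib.H3.J2

open Quaternion Cfsg.Spor
open Cfsg.Agent.Lib.H17.CosetCert (force force_eq lk applyT applyT_nil applyT_cons applyT_append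
  checkWord checkWord_sound)
open Cfsg.Agent.Lib.H17.J2PGlue (Gen gen idx gen_idx relW lift_rels rels)

/-! ### distinct lines give distinct reflections -/

theorem φ_int (n : ℤ) : φ ⟨n, 0, 0, 0, 0, 0, 0, 0⟩ = ((n : ℝ) : ℍ[ℝ]) := by
  ext <;> simp [φ]

theorem qrefl_self {r : Fin 3 → ℍ[ℝ]} (h4 : qip r r = 4) : qrefl r r = -r := by
  funext t
  unfold qrefl
  rw [h4]
  have : ((1 / 2 : ℝ) • (4 : ℍ[ℝ])) = 2 := by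
    have e4 : (4 : ℍ[ℝ]) = ((4 : ℝ) : ℍ[ℝ]) := by norm_cast
    have e2 : (2 : ℍ[ℝ]) = ((2 : ℝ) : ℍ[ℝ]) := by norm_cast
    rw [e4, e2, ← Quaternion.coe_smul]
    norm_num
  rw [this, two_mul]
  simp

theorem ρ_eq_imp {j k : ℕ} (h : ρ j = ρ k) :
    (qipM (repV j) (repV k)).nP = 256 ∧ (qipM (repV j) (repV k)).nT = 0 := by
  have h1 : qrefl (rv k : Fin 3 → ℍ[ℝ]) (rv j) = qrefl (rv j : Fin 3 → ℍ[ℝ]) (rv j) := by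
    have := congrArg (fun f : Equiv.Perm icoLeech => ((f (rv j) : icoLeech) : Fin 3 → ℍ[ℝ])) h
    simp only [ρ, reflPerm_apply] at this
    exact this.symm
  rw [qrefl_self (rv_four j), qrefl_eq] at h1
  set c := qip (rv j : Fin 3 → ℍ[ℝ]) (rv k) with hc
  have h2 : lsm ((1 / 2 : ℝ) • c) (rv k : Fin 3 → ℍ[ℝ]) = lsm 2 (rv j : Fin 3 → ℍ[ℝ]) := by
    funext t
    have := congrFun h1 t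
    simp only [Pi.sub_apply, Pi.neg_apply, lsm] at this ⊢
    rw [two_mul]
    have e : ((1 / 2 : ℝ) • c) * (rv k : Fin 3 → ℍ[ℝ]) t =
        (rv j : Fin 3 → ℍ[ℝ]) t - ((rv j : Fin 3 → ℍ[ℝ]) t - ((1 / 2 : ℝ) • c) * (rv k : Fin 3 → ℍ[ℝ]) t) := by
      abel
    rw [e, this]
    abel
  have h3 := congrArg (fun v => qip v (rv j : Fin 3 → ℍ[ℝ])) h2
  simp only [qip_lsm_left, rv_four, ← star_qip (rv j : Fin 3 → ℍ[ℝ]) (rv k)] at h3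
  rw [← hc] at h3
  -- c * star c = 16
  have h4 : c * star c = 16 := by
    have h3' : ((1 / 2 : ℝ) • (c * star c)) = 2 * 4 := by rw [← smul_mul_assoc, h3]
    calc c * star c = (2 : ℝ) • ((1 / 2 : ℝ) • (c * star c)) := by
          rw [smul_smul]
          norm_num
      _ = (2 : ℝ) • ((2 : ℍ[ℝ]) * 4) := by rw [h3']
      _ = 16 := by
        have e4 : (4 : ℍ[ℝ]) = ((4 : ℝ) : ℍ[ℝ]) := by norm_cast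
        have e2 : (2 : ℍ[ℝ]) = ((2 : ℝ) : ℍ[ℝ]) := by norm_cast
        have e16 : (16 : ℍ[ℝ]) = ((16 : ℝ) : ℍ[ℝ]) := by norm_cast
        rw [e4, e2, e16, ← Quaternion.coe_mul, ← Quaternion.coe_smul]
        norm_num
  have h5 : c = (1 / 4 : ℝ) • φ (qipM (repV j) (repV k)) := qip_valV _ _
  rw [h5, Quaternion.star_smul, smul_mul_smul_comm, ← φ_conj, ← φ_mul, Q.mul_conj_self] at h4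
  have h6 : φ ⟨(qipM (repV j) (repV k)).nP, (qipM (repV j) (repV k)).nT, 0, 0, 0, 0, 0, 0⟩ =
      φ ⟨256, 0, 0, 0, 0, 0, 0, 0⟩ := by
    rw [φ_int 256]
    have e16 : (16 : ℍ[ℝ]) = ((16 : ℝ) : ℍ[ℝ]) := by norm_cast
    rw [e16] at h4
    calc φ ⟨(qipM (repV j) (repV k)).nP, (qipM (repV j) (repV k)).nT, 0, 0, 0, 0, 0, 0⟩
        = (16 : ℝ) • ((1 / 4 * (1 / 4) : ℝ) •
            φ ⟨(qipM (repV j) (repV k)).nP, (qipM (repV j) (repV k)).nT, 0, 0, 0, 0, 0, 0⟩) := by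
          rw [smul_smul]
          norm_num
      _ = (16 : ℝ) • ((16 : ℝ) : ℍ[ℝ]) := by rw [h4]
      _ = (((256 : ℤ) : ℝ) : ℍ[ℝ]) := by
          rw [← Quaternion.coe_smul]
          norm_num
  have h7 := φ_injective h6
  simp only [Q.mk.injEq] at h7
  exact ⟨h7.1, h7.2.1⟩

/-! ### the generators -/

/-- the fourth generator as a word in the reflections -/
def wD : List ℕ := [3, 4, 5, 6, 3, 4, 5, 6, 3, 4, 5, 6]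

/-- the generators as words in the reflections -/
def wordOf : ℕ → List ℕ
  | 0 => [0]
  | 1 => [1]
  | 2 => [2]
  | 3 => wD
  | _ => [7, 8, 9, 7] ++ wD ++ [7, 9, 8, 7]

/-- a word in the generators as a word in the reflections -/
def expand (w : List ℕ) : List ℕ := (w.map wordOf).flatten

theorem wordOf_lt (m : ℕ) : ∀ x ∈ wordOf m, x < 10 := by
  match m with
  | 0 => decide
  | 1 => decide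
  | 2 => decide
  | 3 => decide
  | _ + 4 =>
    show ∀ x ∈ [7, 8, 9, 7] ++ wD ++ [7, 9, 8, 7], x < 10
    decide

theorem expand_lt (w : List ℕ) : ∀ x ∈ expand w, x < 10 := by
  intro x hx
  unfold expand at hx
  rw [List.mem_flatten] at hx
  obtain ⟨l, hl, hxl⟩ := hx
  obtain ⟨m, -, rfl⟩ := List.mem_map.mp hl
  exact wordOf_lt m x hxl

theorem expand_append (w w' : List ℕ) : expand (w ++ w') = expand w ++ expand w' := by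
  simp [expand]

theorem expand_cons (m : ℕ) (w : List ℕ) : expand (m :: w) = wordOf m ++ expand w := by
  simp [expand]

/-- the element of the double cover of a word in the reflections -/
noncomputable def gT (w : List ℕ) : twoJ2 := ⟨gw w, gw_mem w⟩

/-- the element of the group of a word in the reflections -/
noncomputable def gJ (w : List ℕ) : J2 := QuotientGroup.mk (gT w)

theorem gT_append (w w' : List ℕ) : gT (w ++ w') = gT w * gT w' := by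
  apply Subtype.ext
  exact gw_append w w'

theorem gJ_append (w w' : List ℕ) : gJ (w ++ w') = gJ w * gJ w' := by
  unfold gJ
  rw [gT_append]
  rfl

theorem gJ_nil : gJ [] = 1 := by
  unfold gJ
  have : gT [] = 1 := Subtype.ext gw_nil
  rw [this]
  rfl

theorem gJ_eq_one {w : List ℕ} (hw : ∀ m ∈ w, m < 10) (h : checkWord 9 512 (tw w) 315 = true) :
    gJ w = 1 := by
  unfold gJ
  rw [QuotientGroup.eq_one_iff]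
  exact central_of_sem (sem_word w hw) (checkWord_sound 9 512 _ 315 h)

/-- the images of the generators -/
noncomputable def fJ (u : Gen) : J2 := gJ (wordOf (idx u))

theorem wordOf_idx_gen (m : ℕ) : wordOf (idx (gen m)) = wordOf m := by
  match m with
  | 0 => rfl
  | 1 => rfl
  | 2 => rfl
  | 3 => rfl
  | _ + 4 => rfl

theorem prod_fJ (w : List ℕ) : ((w.map gen).map fJ).prod = gJ (expand w) := by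
  induction w with
  | nil => exact gJ_nil.symm
  | cons m w ih =>
    rw [List.map_cons, List.map_cons, List.prod_cons, ih, expand_cons, gJ_append]
    unfold fJ
    rw [wordOf_idx_gen]

theorem rel_chk : ∀ w ∈ relW, checkWord 9 512 (tw (expand w)) 315 = true := by decide +kernel

theorem prod_fJ_rel : ∀ w ∈ relW, ((w.map gen).map fJ).prod = 1 := by
  intro w hw
  rw [prod_fJ]
  exact gJ_eq_one (expand_lt w) (rel_chk w hw)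

theorem fJ_invol (u : Gen) : fJ u * fJ u = 1 := by
  have h := prod_fJ_rel [idx u, idx u] (by cases u <;> decide)
  simpa [gen_idx] using h

/-- the homomorphism from the presented group -/
noncomputable def toJ2 : Cfsg.Agent.Lib.H17.J2Pres.Grp →* J2 :=
  PresentedGroup.toGroup (f := fJ) (lift_rels fJ fJ_invol prod_fJ_rel)

theorem toJ2_of (u : Gen) : toJ2 (PresentedGroup.of u) = fJ u := PresentedGroup.toGroup.of _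

/-- the element of the presented group of a word in the generators -/
noncomputable def eP (w : List ℕ) : Cfsg.Agent.Lib.H17.J2Pres.Grp :=
  (w.map fun m => PresentedGroup.of (gen m)).prod

theorem eP_cons (m : ℕ) (w : List ℕ) : eP (m :: w) = PresentedGroup.of (gen m) * eP w := by
  simp [eP]

theorem toJ2_eP (w : List ℕ) : toJ2 (eP w) = gJ (expand w) := by
  rw [← prod_fJ]
  induction w with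
  | nil => simp [eP]
  | cons m w ih =>
    rw [eP_cons, map_mul, ih, toJ2_of, List.map_cons, List.map_cons, List.prod_cons]

/-! ### surjectivity -/

/-- for each line a word in the generators mapping the first generating reflection to it -/
def orbW : List (List ℕ) := [[1, 2, 3, 2, 1, 0, 1, 4, 3], [1, 2, 3, 2, 1, 0, 4, 3, 2], [1, 2, 3, 2, 1, 4, 3, 2, 1, 0, 3, 2, 1], [1, 0, 1, 0, 2, 3, 2, 4, 3, 2], [1, 0, 2, 1, 0, 3], [1, 2, 3, 2, 4, 3, 2, 1], [1, 2, 3, 2, 1, 4, 3, 2, 1, 0, 1, 0, 3, 2], [1, 0, 2, 3, 2, 1, 4, 3, 2, 3, 2, 4], [1, 2, 3, 2, 4, 3, 2, 1, 0, 1, 2], [1, 0, 2, 1, 3, 2, 1, 4, 3], [1, 2, 3, 4], [1, 0, 1, 0, 2], [1, 0, 2, 1, 3, 2, 1, 4, 3, 2, 1, 3, 4], [1, 0, 2, 3, 2, 1, 0, 4, 3], [1, 0, 2, 1, 3, 2, 1, 4, 3, 2, 3], [1, 0, 2, 1, 0, 3, 2, 4, 3, 2, 1, 0, 1,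 2], [1, 2, 3, 2, 1, 4, 3, 2, 1, 0, 1, 3, 2, 1, 3], [1, 0, 2, 3, 2, 1, 0, 4, 3, 2, 1, 0, 1], [1, 0, 1, 2, 3, 2, 1, 4, 3, 2, 1, 3], [1, 2, 3, 2, 1, 4, 3, 2, 1, 3, 4], [1, 0, 1, 2, 3, 2, 4, 3, 2, 1, 0, 1, 2], [1, 0, 1, 2, 3, 2, 1, 4, 3, 2, 1, 0, 1], [1, 0, 2, 1, 3, 2, 1, 0], [1, 0, 2, 1, 3, 2, 4, 3, 2, 1, 0], [1, 2, 3, 2, 1, 4, 3, 2, 1, 3, 2], [1, 0, 1, 2, 1, 3, 2, 1, 4, 3], [1, 2, 3, 2, 1, 4, 3, 2, 1, 0, 3, 2, 4, 3], [1, 2, 3, 2, 1, 4, 3, 2, 1, 0, 1, 0, 3, 2, 3], [1, 2, 3, 2, 1, 4, 3, 2, 1, 3, 2, 3, 4], [1, 0, 1, 2, 3, 2, 1, 4, 3, 2, 3, 2, 1, 0], [1, 0, 2, 3], [1, 0, 2, 3, 2, 1, 0, 4, 3, 2, 1, 0, 1, 3], [1, 0, 2, 3, 2, 1, 0, 4, 3, 2, 1, 0, 1, 3, 2], [1, 0, 2, 3, 2], [1, 2, 3, 2, 1, 0, 4, 3, 2, 1, 3, 2, 3, 4], [1, 0, 2, 3, 2, 1, 4, 3, 2, 1, 0, 3, 4], [1, 2, 3, 2,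 1, 4, 3, 2, 1, 0, 1, 0, 3, 4], [1, 0, 1, 0, 2, 3, 2, 4, 3, 2, 1, 0, 1, 0], [1, 0, 1, 2, 1, 3, 2, 1, 4, 3, 2], [1, 2, 3, 2, 1, 4, 3, 2, 1, 3], [1, 0, 2, 1, 3, 2, 1, 4, 3, 2, 1, 0], [1, 0, 2, 3, 2, 1, 0], [1, 0, 1, 2, 3, 2, 1, 4, 3, 2, 1, 0, 1, 2], [1, 0, 1, 2, 3, 2, 4, 3, 2, 1, 0, 1], [1, 2, 3, 2, 1, 4, 3, 2, 1, 3, 2, 4], [1, 0, 1, 2, 3, 2, 1, 4, 3, 2, 1, 3, 2], [1, 2, 3, 2, 1, 0, 4, 3, 2, 1, 0, 1, 0], [1, 2, 3, 2, 1, 4, 3, 2, 1, 0, 3, 2, 1, 4], [1, 0, 2, 1, 0, 3, 2, 4, 3, 2, 1, 0, 1], [1, 0, 2, 3, 2, 1, 0, 4, 3, 2, 3], [1, 0, 2, 3, 2, 1, 0, 4, 3, 2], [1, 0, 2, 1, 3, 2, 3, 4, 3, 2, 1, 0, 3], [1, 0, 1, 0], [1, 2, 3, 2, 4], [1, 0, 2, 1, 3, 2, 1, 4, 3, 2], [1, 2, 3, 2, 4, 3, 2, 1, 0, 1], [1, 0, 2, 3, 2, 1, 4, 3, 2, 3, 4], [1, 2, 3, 2, 1, 4, 3, 2, 1, 0, 1, 0, 3], [1,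 2, 3, 2, 1, 4, 3, 2, 1], [1, 0, 2, 1, 0, 3, 2], [1, 0, 1, 0, 2, 3, 2, 4, 3], [1, 2, 3, 2, 1, 4, 3, 2, 1, 0, 1, 3, 2, 1], [1, 2, 3, 2, 1, 0, 4, 3], [1, 2, 3, 2, 1, 0, 1, 4, 3, 2], [1, 0, 2, 1, 3, 2, 3, 4, 3, 2, 1], [1, 0, 2, 3, 2, 4, 3, 2, 1], [1, 0, 2, 3, 2, 1, 4, 3, 2, 1, 3, 2], [1, 0, 2, 3, 2, 4, 3, 2, 1, 0, 1, 2], [1, 0, 2, 1, 3, 2, 1, 0, 1, 4, 3], [1, 2, 3, 2, 1, 0, 4, 3, 2, 1, 3, 2, 3], [1, 0, 2, 3, 2, 1, 0, 4], [1, 0, 2, 1, 3, 4], [1, 0, 2, 1, 3, 2, 4], [1, 0, 2, 1, 3, 2, 1, 0, 4], [1, 0, 1, 2, 1, 3, 2, 1, 4, 3, 2, 1, 0, 3], [1, 0, 2, 1, 3, 2, 1, 0, 1, 4, 3, 2], [1, 0, 2, 3, 2, 4, 3, 2, 1, 0, 1], [1, 0, 2, 3, 2, 1, 4, 3, 2, 1, 3], [1, 0, 2, 3, 2, 1, 4, 3, 2, 1], [1, 0, 2, 1, 3, 2, 1, 3, 4, 3, 2, 1], [1, 2, 3, 2, 1, 4, 3, 2, 1, 0, 1, 3, 2], [1, 2, 3, 2, 4,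 3, 2, 1, 0, 1, 0, 2], [1, 0, 1, 2, 3, 2, 1, 4, 3, 2, 1, 0, 3], [1, 2, 3], [1, 2, 3, 2, 1, 0, 4, 3, 2, 1, 0, 1, 2, 3, 2], [1, 2, 3, 2, 1, 4, 3, 2, 1, 0, 3, 2, 4], [1, 0, 2, 1, 3, 2, 1, 0, 4, 3, 2], [1, 0, 2, 3, 2, 1, 0, 4, 3, 2, 3, 4], [1, 0, 1, 2, 1, 3, 2, 4, 3], [1, 0, 2, 3, 4], [1, 0, 1, 2, 3, 2, 4, 3, 2, 1, 0, 1, 0, 2], [1, 0, 2, 3, 2, 1, 4, 3, 2, 1, 3, 2, 4], [1, 0, 1, 2, 3, 2, 1, 4, 3, 2, 1, 3, 2, 1], [1, 0, 2, 1, 3, 2, 1, 4, 3, 2, 1, 0, 1], [1, 0, 1], [1, 2, 3, 2, 1, 4, 3], [1, 0, 2, 3, 2, 1, 4, 3, 2, 3, 2, 1, 4, 3], [1, 0, 2, 1, 3, 2, 3, 4, 3, 2, 1, 3, 2], [1, 0, 2, 1, 3, 2, 1], [1, 2, 3, 2, 1, 4, 3, 2, 1, 3, 2, 4, 3], [1, 2, 3, 2, 1, 4, 3, 2, 1, 0, 1, 3, 4], [1, 0, 2, 1, 3, 2, 1, 4, 3, 2, 1], [1, 0, 2, 3, 2, 1, 4, 3, 2], [1, 0, 1, 2, 3, 2, 4, 3], [1, 0,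 2, 1, 3], [1, 0, 2, 3, 2, 1, 4, 3, 2, 3, 2], [1, 0, 2, 1, 3, 2, 1, 0, 1, 4, 3, 2, 1, 3, 2], [1, 2, 3, 2, 1, 4, 3, 2, 1, 0, 3, 2], [1, 0, 2, 1, 3, 2, 3, 2, 4, 3, 2], [1, 2, 3, 2, 1, 0, 4, 3, 2, 1, 0, 1], [1, 0, 2, 1, 0, 3, 2, 4, 3, 2, 1, 0, 1, 0], [1, 2, 3, 2, 1, 4, 3, 2, 1, 0], [1, 2, 3, 2, 4, 3, 2, 1, 0], [1, 0, 2, 1, 3, 2, 1, 3, 4, 3, 2, 1, 0, 1], [1, 2, 3, 2, 1, 0, 4, 3, 2, 1, 0, 1, 2], [1, 0, 2, 1, 3, 2, 3, 2, 4, 3], [1, 2, 3, 2, 1, 4, 3, 2, 1, 0, 3], [1, 0, 2, 1, 3, 2, 1, 0, 1, 4, 3, 2, 1, 3], [1, 0, 2, 3, 2, 1, 4, 3, 2, 3], [1, 0, 2, 1, 3, 2], [1, 0, 1, 2, 3, 2, 4, 3, 2], [1, 0, 2, 3, 2, 1, 4, 3], [1, 0, 2, 1, 3, 2, 4, 3, 2, 1], [1, 2, 3, 2, 1, 4, 3, 2, 1, 0, 1, 3, 2, 3], [1, 0, 1, 0, 2, 3, 2, 4, 3, 2, 1, 0, 1], [1, 0, 2, 3, 2, 1], [1, 0, 2, 1, 3, 2, 3,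 4, 3, 2, 1, 3], [1, 0, 2, 3, 2, 1, 4, 3, 2, 3, 2, 1, 4, 3, 2], [1, 2, 3, 2, 1, 4, 3, 2], [1, 0, 1, 2], [1, 0, 1, 2, 3, 2, 1, 4, 3, 2, 1, 0, 1, 0], [1, 0, 1, 2, 3, 2, 1, 4, 3, 2, 3, 2, 1], [1, 0, 2, 3, 2, 1, 4, 3, 2, 1, 3, 4], [1, 0, 1, 2, 3, 2, 4, 3, 2, 1, 0, 1, 0], [1, 0, 2, 3, 2, 4], [1, 0, 1, 2, 1, 3, 2, 4, 3, 2], [1, 0, 2, 1, 3, 2, 1, 4, 3, 2, 3, 4], [1, 0, 2, 1, 3, 2, 1, 0, 4, 3], [1, 2, 3, 2, 1, 4, 3, 2, 1, 0, 3, 4], [1, 2, 3, 2, 1, 0, 4, 3, 2, 1, 0, 1, 2, 3], [1, 2, 3, 2], [1, 0, 2, 1, 3, 2, 1, 4, 3, 2, 1, 3], [1, 2, 3, 2, 4, 3, 2, 1, 0, 1, 0], [1, 2, 3, 2, 1, 4, 3, 2, 1, 0, 1, 3], [1, 2, 3, 2, 1, 4, 3, 2, 1, 3, 2, 3], [1, 0, 2, 3, 2, 4, 3, 2, 1, 0, 1, 0], [1, 0, 2, 3, 2, 1, 4], [1, 0, 2, 1, 0, 3, 2, 4], [1, 0, 2, 1, 3, 2, 1, 3, 4, 3], [1, 0, 1, 2, 1, 3,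 2, 1, 4, 3, 2, 1, 3], [1, 0, 2, 1, 3, 2, 3, 4, 3, 2, 1, 0], [1, 0, 2, 3, 2, 1, 4, 3, 2, 1, 0], [1, 0, 2, 3, 2, 4, 3, 2, 1, 0], [1, 0, 2, 1, 3, 2, 1, 3, 4, 3, 2, 1, 0], [1, 0, 1, 2, 1, 3, 2, 1, 4, 3, 2, 1, 3, 2], [1, 0, 2, 1, 3, 2, 1, 3, 4, 3, 2], [1, 0, 2, 1, 0, 3, 4], [1, 0, 2, 1, 3, 2, 1, 4], [1, 0, 1, 2, 1, 3, 2, 4, 3, 2, 1, 0, 1], [1, 0, 2, 3, 2, 1, 4, 3, 2, 1, 0, 3], [1, 2, 3, 2, 1, 0, 4, 3, 2, 1, 0, 1, 3], [1, 0, 2, 1, 3, 2, 3, 4, 3, 2, 3], [1, 0, 1, 2, 1, 3, 2, 1, 4, 3, 2, 3], [1, 2, 3, 2, 1, 0, 4, 3, 2, 1, 0, 1, 3, 2], [1, 0, 2, 1, 3, 2, 3, 4, 3, 2, 1, 0, 1], [1, 2, 3, 2, 1, 0, 4, 3, 2, 1, 0, 1, 3, 2, 3], [1, 2, 3, 2, 1, 0, 4, 3, 2, 1, 0, 1, 3, 4], [1, 0, 2, 1, 3, 2, 4, 3, 2, 1, 0, 1, 0], [1, 0, 1, 2, 1, 3, 2, 4, 3, 2, 1, 0], [1, 0, 1, 2, 3], [1, 0, 1,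 2, 3, 2], [1, 0, 1, 2, 1, 3, 2, 1, 4, 3, 2, 1, 0], [1, 0, 1, 2, 1], [1, 0, 1, 0, 2, 3, 2, 4], [1, 0, 1, 0, 2, 3, 4], [1, 0, 2, 1], [1, 0, 1, 2, 1, 3, 2, 4, 3, 2, 1], [1, 0, 1, 0, 2, 3, 2], [1, 0, 1, 0, 2, 3], [1, 0, 1, 2, 1, 3, 2, 1, 4, 3, 2, 1], [1, 0, 1, 2, 1, 0], [1, 0, 1, 2, 3, 4], [1, 0, 1, 2, 3, 2, 4], [1, 0, 2, 1, 0], [1, 2, 3, 2, 1, 0, 4, 3, 2, 1, 0, 1, 0, 3], [1, 0, 1, 2, 3, 2, 1, 4, 3, 2, 3, 2], [1, 0, 1, 2, 3, 2, 1, 4, 3, 2, 3], [1, 2, 3, 2, 1, 0, 4, 3, 2, 1, 0, 1, 0, 3, 2], [1, 0, 2, 1, 3, 2, 4, 3, 2, 1, 0, 1, 2], [1, 2, 3, 2, 1, 0, 4, 3, 2, 1, 0, 1, 0, 3, 4], [1, 2, 3, 2, 1, 0, 4, 3, 2, 1, 0, 1, 0, 3, 2, 3], [1, 0, 2, 1, 3, 2, 4, 3, 2, 1, 0, 1], [1, 2, 3, 2, 1, 4, 3, 2, 1, 0, 1, 2, 3], [1, 0, 1, 2, 1, 3, 4], [1, 0, 1, 2, 3, 2, 4, 3, 2, 1], [1, 2,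 3, 2, 1, 0, 4, 3, 2, 1, 0], [1, 2, 3, 2, 1, 0, 1, 4, 3, 2, 1, 0], [1, 0, 1, 2, 3, 2, 1, 4, 3, 2, 1], [1, 0, 1, 2, 1, 3, 2, 4], [1, 2, 3, 2, 1, 4, 3, 2, 1, 0, 1, 2, 3, 2], [1, 2, 3, 2, 1, 4, 3, 2, 1, 0, 1, 0, 2, 3], [1, 0, 1, 2, 1, 0, 3, 4], [1, 0, 1, 2, 3, 2, 4, 3, 2, 1, 0], [1, 2, 3, 2, 1, 0, 4, 3, 2, 1], [1, 2, 3, 2, 1, 0, 1, 4, 3, 2, 1], [1, 0, 1, 2, 3, 2, 1, 4, 3, 2, 1, 0], [1, 2, 3, 2, 1, 0, 1, 4], [1, 0, 2, 3, 2, 1, 4, 3, 2, 1, 0, 1, 3, 4], [1, 0, 2, 1, 0, 1, 3], [1, 2, 3, 2, 1, 0, 4, 3, 2, 3], [1, 2, 3, 2, 1, 4, 3, 2, 3], [1, 0, 1, 0, 2, 1, 3], [1, 2, 3, 2, 1, 0, 4, 3, 2, 1, 0, 1, 0, 3, 2, 1], [1, 2, 3, 2, 1, 4, 3, 2, 3, 4], [1, 2, 3, 2, 1, 0, 4, 3, 2, 3, 4], [1, 2, 3, 2, 1, 4, 3, 2, 1, 0, 1, 0, 3, 2, 1], [1, 2, 3, 2, 1, 4, 3, 2, 1, 0, 1, 0, 3, 2, 1, 3],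 [1, 0, 2, 1, 3, 2, 1, 3], [1, 0, 2, 1, 3, 2, 1, 0, 1], [1, 2, 3, 2, 1, 0, 4, 3, 2, 1, 0, 1, 0, 3, 2, 1, 3], [1, 0, 2, 1, 0, 1, 3, 4], [1, 0, 2, 1, 3, 2, 1, 0, 1, 4], [1, 0, 2, 1, 3, 2, 1, 3, 4], [1, 0, 1, 0, 2, 1, 3, 4], [1, 0, 2, 1, 3, 2, 3, 4, 3, 2], [1, 0, 2, 1, 3, 2, 3, 4, 3, 2, 1, 3, 2, 3], [1, 0, 2, 1, 3, 2, 3, 4, 3, 2, 1, 3, 2, 3, 2], [1, 0, 2, 1, 3, 2, 3, 4, 3], [1, 0, 1, 2, 3, 2, 1, 4, 3, 2], [1, 0, 2, 1, 3, 2, 1, 3, 4, 3, 2, 1, 3, 2, 3], [1, 0, 2, 1, 3, 2, 1, 3, 4, 3, 2, 1, 3, 4], [1, 0, 1, 2, 3, 2, 1, 4, 3], [1, 2, 3, 2, 1, 4, 3, 2, 1, 0, 1, 0, 2], [1, 0, 2, 3, 2, 1, 0, 4, 3, 2, 1, 3], [1, 0, 2, 3, 2, 1, 0, 4, 3, 2, 1, 3, 2], [1, 2, 3, 2, 1, 4, 3, 2, 1, 0, 1, 0], [1, 2, 3, 2, 1, 4, 3, 2, 1, 0, 1, 2], [1, 0, 2, 3, 2, 1, 0, 4, 3, 2, 1, 0, 3, 2], [1, 0,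 2, 3, 2, 1, 0, 4, 3, 2, 1, 0, 3], [1, 2, 3, 2, 1, 4, 3, 2, 1, 0, 1], [1, 0, 2, 3, 2, 1, 0, 4, 3, 2, 1, 3, 4], [1, 0, 2, 1, 0, 3, 2, 4, 3], [1, 0, 2, 1, 0, 3, 2, 4, 3, 2], [1, 0, 2, 1, 3, 2, 3, 4, 3, 2, 1, 0, 1, 3], [1, 2, 3, 2, 1, 0, 1, 4, 3, 2, 1, 0, 1], [1, 0, 2, 1, 3, 2, 1, 3, 4, 3, 2, 1, 3, 2], [1, 0, 2, 1, 3, 2, 1, 3, 4, 3, 2, 1, 3], [1, 0, 2, 3, 2, 1, 4, 3, 2, 1, 0, 1, 0], [1, 0, 2, 3, 2, 1, 4, 3, 2, 1, 0, 1, 2], [1, 0, 2, 1, 3, 2, 1, 3, 4, 3, 2, 1, 0, 3], [1, 0, 2, 1, 3, 2, 1, 3, 4, 3, 2, 1, 0, 3, 2], [1, 0, 2, 3, 2, 1, 4, 3, 2, 1, 0, 1], [1, 0, 2, 3, 2, 1, 0, 4, 3, 2, 1, 0, 3, 4], [1, 0, 2, 1, 3, 2, 4, 3, 2], [1, 0, 2, 1, 3, 2, 4, 3], [1, 0, 2, 1, 3, 2, 4, 3, 2, 1, 0, 1, 2, 3], [1, 0, 2, 3, 2, 1, 0, 4, 3, 2, 1, 0], [1, 0, 1, 0, 2, 3, 2, 4, 3, 2, 1, 0],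 [1, 0, 2, 1, 0, 3, 2, 4, 3, 2, 1, 0], [1, 0, 2, 1, 3, 2, 3, 2, 4, 3, 2, 1, 0], [1, 0, 2, 3, 2, 1, 4, 3, 2, 1, 0, 1, 3], [1, 0, 1, 2, 1, 3], [1, 0, 1, 2, 1, 3, 2], [1, 2, 3, 2, 4, 3, 2, 1, 0, 1, 0, 2, 3], [1, 0, 2, 3, 2, 1, 0, 4, 3, 2, 1], [1, 0, 2, 1, 0, 3, 2, 4, 3, 2, 1], [1, 0, 1, 0, 2, 3, 2, 4, 3, 2, 1], [1, 0, 2, 1, 3, 2, 3, 2, 4, 3, 2, 1], [1, 2, 3, 2, 4, 3, 2, 1, 0, 1, 2, 3, 2], [1, 2, 3, 2, 1, 0, 1], [1, 0, 1, 2, 1, 0, 3], [1, 2, 3, 2, 4, 3, 2, 1, 0, 1, 2, 3], [1, 0, 1, 2, 1, 3, 2, 1], [1, 0, 2, 1, 3, 2, 1, 0, 1, 4, 3, 2, 1], [1, 2], [1, 0, 1, 2, 1, 3, 2, 1, 4], [1, 0, 1, 2, 3, 2, 1, 4], [1], [1, 0, 2, 1, 3, 2, 1, 0, 4, 3, 2, 1], [1, 0, 1, 2, 3, 2, 1], [1, 2, 3, 2, 1, 0, 4, 3, 2, 1, 3, 4], [1, 0, 2, 3, 2, 1, 4, 3, 2, 3, 2, 1, 4], [1, 2, 3, 2, 1, 0, 4, 3,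 2, 1, 0, 3], [1, 0, 2, 3, 2, 4, 3], [1, 0, 2, 3, 2, 4, 3, 2], [1, 2, 3, 2, 1, 0, 4, 3, 2, 1, 0, 3, 2], [1, 0, 2, 3, 2, 1, 4, 3, 2, 3, 2, 1, 0], [1, 2, 3, 2, 1, 0, 4, 3, 2, 1, 3, 2, 4], [1, 2, 3, 2, 1, 0, 4, 3, 2, 1, 0, 3, 4], [1, 0, 2, 3, 2, 1, 4, 3, 2, 3, 2, 1], [1, 2, 3, 2, 1, 0, 4, 3, 2, 1, 3], [1, 2, 3, 2, 4, 3, 2], [1, 2, 3, 2, 4, 3], [1, 2, 3, 2, 1, 0, 4, 3, 2, 1, 3, 2], [1, 0, 2, 3, 2, 1, 4, 3, 2, 1, 3, 2, 1], [1, 2, 3, 2, 1, 0, 4, 3, 2, 1, 0, 3, 2, 4], [1, 0, 2], [1, 0, 2, 1, 3, 2, 3, 4], [1, 0, 2, 1, 3, 2, 3, 2], [1, 0, 2, 1, 3, 2, 1, 0, 4, 3, 2, 1, 0], [1, 0, 2, 1, 3, 2, 1, 0, 1, 4, 3, 2, 1, 0], [1, 0, 2, 1, 3, 2, 3], [1, 0, 2, 1, 3, 2, 3, 2, 4], [1, 0], [1, 0, 1, 0, 2, 1], [], [1, 2, 3, 2, 1], [1, 0, 2, 1, 3, 2, 1, 0, 1, 4, 3, 2, 3], [1, 0, 2, 1, 3,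 2, 1, 3, 4, 3, 2, 3, 4], [1, 0, 2, 3, 2, 1, 4, 3, 2, 3, 2, 4, 3], [1, 0, 2, 1, 3, 2, 1, 3, 4, 3, 2, 3], [1, 2, 3, 2, 1, 0], [1, 0, 2, 1, 0, 1], [1, 2, 3, 2, 1, 0, 4], [1, 2, 3, 2, 1, 4]]

/-- the test of the words -/
noncomputable def orbChk : Bool := allBelow (fun i => Nat.beq (applyT 9 512 (tw (expand (orbW.getD i []))) 305) i) 315

theorem orb_chk : orbChk = true := by decide +kernel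

theorem gw_zero : gw [0] = ρ 305 := by
  rw [gw_cons, gw_nil, mul_one]
  rfl

/-- the image of a listed reflection in the group -/
noncomputable def ρJ (i : ℕ) : J2 := QuotientGroup.mk (⟨ρ i, ρ_mem i⟩ : twoJ2)

theorem ρJ_mem_range {i : ℕ} (hi : i < 315) : ρJ i ∈ toJ2.range := by
  have h1 := allBelow_sound _ _ orb_chk i hi
  rw [Nat.beq_eq] at h1
  set W := orbW.getD i [] with hW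
  have hs := sem_word (expand W) (expand_lt W)
  have h2 := hs.conj 305 (by norm_num)
  rw [h1] at h2
  have h3 : ρJ i = (toJ2 (eP W))⁻¹ * toJ2 (eP [0]) * toJ2 (eP W) := by
    rw [toJ2_eP, toJ2_eP]
    unfold ρJ gJ
    rw [← QuotientGroup.mk_inv, ← QuotientGroup.mk_mul, ← QuotientGroup.mk_mul]
    congr 1
    apply Subtype.ext
    show ρ i = (gw (expand W))⁻¹ * gw (expand [0]) * gw (expand W)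
    rw [← h2]
    have : expand [0] = [0] := rfl
    rw [this, gw_zero]
  rw [h3]
  exact Subgroup.mul_mem _ (Subgroup.mul_mem _ (Subgroup.inv_mem _ ⟨_, rfl⟩) ⟨_, rfl⟩) ⟨_, rfl⟩

theorem toJ2_surjective : Function.Surjective toJ2 := by
  rw [← MonoidHom.range_eq_top]
  rw [eq_top_iff]
  intro x _
  obtain ⟨⟨k, hk⟩, rfl⟩ := QuotientGroup.mk_surjective x
  have key : ∀ (k : Equiv.Perm icoLeech) (hk : k ∈ twoJ2),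
      (QuotientGroup.mk (⟨k, hk⟩ : twoJ2) : J2) ∈ toJ2.range := by
    intro k hk
    have hk' := hk
    rw [twoJ2_eq_closure'] at hk'
    induction hk' using Subgroup.closure_induction with
    | mem x hx =>
      obtain ⟨i, hi, rfl⟩ := hx
      exact ρJ_mem_range hi
    | one => exact Subgroup.one_mem _
    | mul x y hx hy ihx ihy =>
      have hx' : x ∈ twoJ2 := by rw [twoJ2_eq_closure']; exact hx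
      have hy' : y ∈ twoJ2 := by rw [twoJ2_eq_closure']; exact hy
      have := Subgroup.mul_mem _ (ihx hx') (ihy hy')
      exact this
    | inv x hx ihx =>
      have hx' : x ∈ twoJ2 := by rw [twoJ2_eq_closure']; exact hx
      have := Subgroup.inv_mem _ (ihx hx')
      exact this
  exact key k hk

/-! ### injectivity -/

theorem ρ_ne : ρ 94 ≠ ρ 52 := by
  intro h
  have := ρ_eq_imp h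
  revert this
  decide

theorem fJ_a_ne_one : fJ Cfsg.Agent.Lib.H17.J2Pres.Gen.a ≠ 1 := by
  intro h
  have h0 : gJ [0] = 1 := h
  unfold gJ at h0
  rw [QuotientGroup.eq_one_iff, Subgroup.mem_center_iff] at h0
  have h1 := h0 ⟨ρ 52, ρ_mem 52⟩
  have h2 : ρ 52 * ρ 305 = ρ 305 * ρ 52 := by
    have := congrArg Subtype.val h1
    simpa [gT, gw_zero] using this
  have hs := sem_word [0] (by decide)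
  have h3 := hs.conj 52 (by norm_num)
  rw [gw_zero] at h3
  have h4 : applyT 9 512 (tw [0]) 52 = 94 := by decide +kernel
  rw [h4, mul_assoc, h2, ← mul_assoc, inv_mul_cancel, one_mul] at h3
  exact ρ_ne h3.symm

theorem toJ2_injective : Function.Injective toJ2 := by
  haveI := Cfsg.Agent.Lib.H17.J2PSimple.simple
  rw [← MonoidHom.ker_eq_bot_iff]
  rcases (toJ2.normal_ker).eq_bot_or_eq_top with h | h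
  · exact h
  · exfalso
    have : PresentedGroup.of Cfsg.Agent.Lib.H17.J2Pres.Gen.a ∈ toJ2.ker := by rw [h]; exact Subgroup.mem_top _
    rw [MonoidHom.mem_ker, toJ2_of] at this
    exact fJ_a_ne_one this

/-- **The bridge**: the presented group is the Hall-Janko group of the icosian Leech lattice. -/
noncomputable def presEquivJ2 : Cfsg.Agent.Lib.H17.J2Pres.Grp ≃* J2 :=
  MulEquiv.ofBijective toJ2 ⟨toJ2_injective, toJ2_surjective⟩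

end Cfsg.Agent.Lib.H3.J2
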