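/-
helper3 library (J2 icosian family): all reflections of the icosian Leech lattice are conjugate.
-/
import Cfsg.Agent.Lib.H3.J2.Bridge

set_option autoImplicit false
set_option maxRecDepth 100000

namespace Cfsg.Agent.Lib.H3.J2

open Quaternion Cfsg.Spor
open Cfsg.Agent.Lib.H17.CosetCert (applyT)

/-- every listed reflection is conjugate to the reflection number `305` -/
theorem conj_orb {i : ℕ} (hi : i < 315) :
    (gw (expand (orbW.getD i [])))⁻¹ * ρ 305 * gw (expand (orbW.getD i [])) = ρ i := by
  have h1 := allBelow_sound _ _ orb_chk i hi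
  rw [Nat.beq_eq] at h1
  have hs := sem_word (expand (orbW.getD i [])) (expand_lt _)
  have h2 := hs.conj 305 (by norm_num)
  rw [h1] at h2
  exact h2

/-- **all reflections are conjugate** -/
theorem refl_conj {f f' : Equiv.Perm icoLeech} (hf : IsIcoReflection f) (hf' : IsIcoReflection f') :
    ∃ g ∈ twoJ2, g * f * g⁻¹ = f' := by
  obtain ⟨i, hi, rfl⟩ := exists_ρ_of_isIcoReflection hf
  obtain ⟨j, hj, rfl⟩ := exists_ρ_of_isIcoReflection hf'
  have h1 := conj_orb hi
  have h2 := conj_orb hj
  set gi := gw (expand (orbW.getD i [])) with hgi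
  set gj := gw (expand (orbW.getD j [])) with hgj
  refine ⟨gj⁻¹ * gi, Subgroup.mul_mem _ (Subgroup.inv_mem _ (gw_mem _)) (gw_mem _), ?_⟩
  rw [← h1, ← h2]
  simp only [mul_inv_rev, inv_inv, mul_assoc, mul_inv_cancel_left, mul_inv_cancel, mul_one]

end Cfsg.Agent.Lib.H3.J2
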