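/-
helper3 library (J2 icosian family): the `315` listed reflections are pairwise distinct.
-/
import Cfsg.Agent.Lib.H3.J2.Conj

set_option autoImplicit false
set_option maxRecDepth 100000

namespace Cfsg.Agent.Lib.H3.J2

open Quaternion Cfsg.Spor

/-- no two of the listed vectors are proportional: test -/
def sepChk : Bool :=
  allBelow (fun i => forceV (getV repsN i) fun R =>
    allBelow (fun j => forceV (getV repsN j) fun R' => !(Nat.beq (nPN (qipN R R')) 256)) i) 315

theorem sep_chk : sepChk = true := by decide +kernel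

theorem ρ_inj_aux {i j : ℕ} (hi : i < 315) (hj : j < i) : ρ i ≠ ρ j := by
  intro h
  have h1 := allBelow_sound _ _ sep_chk i hi
  rw [forceV_eq] at h1
  have h2 := allBelow_sound _ _ h1 j hj
  rw [forceV_eq, getV_repsN, getV_repsN, qipN_enc, nPN_enc, (ρ_eq_imp h).1] at h2
  revert h2
  decide

/-- **the listed reflections are pairwise distinct** -/
theorem ρ_inj {i j : ℕ} (hi : i < 315) (hj : j < 315) (h : ρ i = ρ j) : i = j := by
  rcases Nat.lt_trichotomy i j with hlt | heq | hgt
  · exact absurd h.symm (ρ_inj_aux hj hlt)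
  · exact heq
  · exact absurd h (ρ_inj_aux hi hgt)

end Cfsg.Agent.Lib.H3.J2
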