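/-
helper3 library (J2 icosian family): the centre of the reflection group of the icosian Leech lattice
is `{1, -1}`.
-/
import Cfsg.Agent.Lib.H3.J2.Sep

set_option autoImplicit false
set_option maxRecDepth 100000

namespace Cfsg.Agent.Lib.H3.J2

open Quaternion Cfsg.Spor

/-! ### some of the listed vectors -/

theorem repV_304 : repV 304 = ⟨twoM, Q.zero, Q.zero⟩ := by decide
theorem repV_313 : repV 313 = ⟨Q.zero, twoM, Q.zero⟩ := by decide
theorem repV_314 : repV 314 = ⟨Q.zero, Q.zero, twoM⟩ := by decide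
theorem repV_84 : repV 84 = ⟨oneM, oneM.neg, Hb⟩ := by decide
theorem repV_32 : repV 32 = ⟨oneM, Hb, oneM.neg⟩ := by decide
theorem repV_88 : repV 88 = ⟨oneM, gI.neg, (repV 88).z⟩ := by decide
theorem repV_96 : repV 96 = ⟨oneM, ⟨0, 0, 0, 0, -2, 0, 0, 0⟩, (repV 96).z⟩ := by decide

theorem rv_304 : (rv 304 : Fin 3 → ℍ[ℝ]) = ![2, 0, 0] := by
  show valV (repV 304) = _
  rw [repV_304]
  simp only [valV, val_twoM, val_zero]

theorem rv_313 : (rv 313 : Fin 3 → ℍ[ℝ]) = ![0, 2, 0] := by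
  show valV (repV 313) = _
  rw [repV_313]
  simp only [valV, val_twoM, val_zero]

theorem rv_314 : (rv 314 : Fin 3 → ℍ[ℝ]) = ![0, 0, 2] := by
  show valV (repV 314) = _
  rw [repV_314]
  simp only [valV, val_twoM, val_zero]

/-! ### minus one -/

/-- the map `x ↦ -x` -/
noncomputable def negP : Equiv.Perm icoLeech where
  toFun x := ⟨-(x : Fin 3 → ℍ[ℝ]), leech_neg x.2⟩
  invFun x := ⟨-(x : Fin 3 → ℍ[ℝ]), leech_neg x.2⟩
  left_inv x := Subtype.ext (neg_neg _)
  right_inv x := Subtype.ext (neg_neg _)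

theorem negP_apply (x : icoLeech) : ((negP x : icoLeech) : Fin 3 → ℍ[ℝ]) = -(x : Fin 3 → ℍ[ℝ]) := rfl

theorem half_smul_mul_two (a : ℍ[ℝ]) : ((1 / 2 : ℝ) • (a * 2)) = a := by
  rw [mul_two, ← two_smul ℝ a, smul_smul]
  norm_num

theorem star_two : star (2 : ℍ[ℝ]) = 2 := by
  have e2 : (2 : ℍ[ℝ]) = ((2 : ℝ) : ℍ[ℝ]) := by norm_cast
  rw [e2, Quaternion.star_coe]

theorem qrefl_frame0 (x : Fin 3 → ℍ[ℝ]) : qrefl ![2, 0, 0] x = ![-x 0, x 1, x 2] := by
  have hq : qip x ![2, 0, 0] = x 0 * 2 := by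
    rw [qip_three]
    simp [star_two]
  funext t
  unfold qrefl
  rw [hq, half_smul_mul_two]
  fin_cases t
  · simp [mul_two]
  · simp
  · simp

theorem qrefl_frame1 (x : Fin 3 → ℍ[ℝ]) : qrefl ![0, 2, 0] x = ![x 0, -x 1, x 2] := by
  have hq : qip x ![0, 2, 0] = x 1 * 2 := by
    rw [qip_three]
    simp [star_two]
  funext t
  unfold qrefl
  rw [hq, half_smul_mul_two]
  fin_cases t
  · simp
  · simp [mul_two]
  · simp

theorem qrefl_frame2 (x : Fin 3 → ℍ[ℝ]) : qrefl ![0, 0, 2] x = ![x 0, x 1, -x 2] := by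
  have hq : qip x ![0, 0, 2] = x 2 * 2 := by
    rw [qip_three]
    simp [star_two]
  funext t
  unfold qrefl
  rw [hq, half_smul_mul_two]
  fin_cases t
  · simp
  · simp
  · simp [mul_two]

theorem negP_eq : negP = ρ 304 * ρ 313 * ρ 314 := by
  ext x : 1
  apply Subtype.ext
  rw [Equiv.Perm.mul_apply, Equiv.Perm.mul_apply, negP_apply]
  unfold ρ
  rw [reflPerm_apply, reflPerm_apply, reflPerm_apply, rv_304, rv_313, rv_314, qrefl_frame2, qrefl_frame1,
    qrefl_frame0]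
  funext t
  fin_cases t <;> simp

theorem negP_mem : negP ∈ twoJ2 := by
  rw [negP_eq]
  exact Subgroup.mul_mem _ (Subgroup.mul_mem _ (ρ_mem _) (ρ_mem _)) (ρ_mem _)

theorem neg_one_mem : (-1 : ℍ[ℝ]) ∈ icosians := Subring.neg_mem _ (Subring.one_mem _)

theorem IsLin.map_neg {g : Equiv.Perm icoLeech} (hg : IsLin g) (x : icoLeech) :
    ((g (negP x) : icoLeech) : Fin 3 → ℍ[ℝ]) = -((g x : icoLeech) : Fin 3 → ℍ[ℝ]) := by
  have h1 : negP x = lmul ⟨-1, neg_one_mem⟩ x := by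
    apply Subtype.ext
    funext t
    simp [negP_apply, lmul, lsm]
  rw [h1, hg.mul]
  funext t
  simp [lmul, lsm]

theorem negP_comm {g : Equiv.Perm icoLeech} (hg : IsLin g) : g * negP = negP * g := by
  ext x : 1
  apply Subtype.ext
  rw [Equiv.Perm.mul_apply, Equiv.Perm.mul_apply, hg.map_neg, negP_apply]

/-- minus one as an element of the group -/
noncomputable def negT : twoJ2 := ⟨negP, negP_mem⟩

theorem negT_mem_center : negT ∈ Subgroup.center twoJ2 := by
  rw [Subgroup.mem_center_iff]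
  rintro ⟨g, hg⟩
  apply Subtype.ext
  exact negP_comm (isLin_of_mem hg)

theorem negT_ne_one : negT ≠ 1 := by
  intro h
  have h1 : negP = 1 := congrArg Subtype.val h
  have h2 := congrArg (fun f : Equiv.Perm icoLeech => ((f (rv 304) : icoLeech) : Fin 3 → ℍ[ℝ]) 0) h1
  simp only [negP_apply, Equiv.Perm.coe_one, id_eq, rv_304, Pi.neg_apply] at h2
  have e2 : (2 : ℍ[ℝ]) = ((2 : ℝ) : ℍ[ℝ]) := by norm_cast
  have h3 : -(2 : ℍ[ℝ]) = 2 := h2
  rw [e2] at h3
  have := congrArg QuaternionAlgebra.re h3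
  simp at this
  linarith

/-! ### central elements -/

/-- a central element maps every listed vector to a unit multiple of itself -/
theorem central_rv {z : Equiv.Perm icoLeech} (hz : z ∈ twoJ2) (hc : ∀ g ∈ twoJ2, g * z = z * g)
    {i : ℕ} (hi : i < 315) :
    ∃ U ∈ unitL, ((z (rv i) : icoLeech) : Fin 3 → ℍ[ℝ]) = lsm (val U) (rv i) := by
  have zl := isLin_of_mem hz
  obtain ⟨U, hU, R, hR, e⟩ := classify_val (z (rv i)).2 (zl.ip_self (rv i) (rv_four i))
  obtain ⟨j, hj, rfl⟩ := exists_repV hR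
  have e' : ((z (rv i) : icoLeech) : Fin 3 → ℍ[ℝ]) = lsm (val U) (rv j) := e
  have h1 := conj_ρ zl hU e'
  have h2 : z * ρ i * z⁻¹ = ρ i := by
    rw [← hc _ (ρ_mem i), mul_assoc, mul_inv_cancel, mul_one]
  rw [h2] at h1
  have h3 := ρ_inj hi hj h1
  subst h3
  exact ⟨U, hU, e'⟩

theorem add_self_cancel {a b : ℍ[ℝ]} (h : a + a = b + b) : a = b := by
  rw [← two_smul ℝ a, ← two_smul ℝ b] at h
  exact smul_right_injective _ (two_ne_zero : (2 : ℝ) ≠ 0) h

/-- a central element multiplies the coordinates by units on the right -/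
theorem central_coord {z : Equiv.Perm icoLeech} (hz : z ∈ twoJ2) (hc : ∀ g ∈ twoJ2, g * z = z * g) :
    ∃ U₁ ∈ unitL, ∃ U₂ ∈ unitL, ∃ U₃ ∈ unitL, ∀ x : icoLeech,
      ((z x : icoLeech) : Fin 3 → ℍ[ℝ]) 0 = (x : Fin 3 → ℍ[ℝ]) 0 * val U₁ ∧
      ((z x : icoLeech) : Fin 3 → ℍ[ℝ]) 1 = (x : Fin 3 → ℍ[ℝ]) 1 * val U₂ ∧
      ((z x : icoLeech) : Fin 3 → ℍ[ℝ]) 2 = (x : Fin 3 → ℍ[ℝ]) 2 * val U₃ := by
  have zl := isLin_of_mem hz
  obtain ⟨U₁, hU₁, e₁⟩ := central_rv hz hc (i := 304) (by norm_num)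
  obtain ⟨U₂, hU₂, e₂⟩ := central_rv hz hc (i := 313) (by norm_num)
  obtain ⟨U₃, hU₃, e₃⟩ := central_rv hz hc (i := 314) (by norm_num)
  rw [rv_304] at e₁
  rw [rv_313] at e₂
  rw [rv_314] at e₃
  refine ⟨U₁, hU₁, U₂, hU₂, U₃, hU₃, fun x => ?_⟩
  have hx : ladd x x = ladd (ladd (lmul ⟨(x : Fin 3 → ℍ[ℝ]) 0, x.2.1 0⟩ (rv 304))
      (lmul ⟨(x : Fin 3 → ℍ[ℝ]) 1, x.2.1 1⟩ (rv 313))) (lmul ⟨(x : Fin 3 → ℍ[ℝ]) 2, x.2.1 2⟩ (rv 314)) := by
    apply Subtype.ext
    funext t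
    simp only [ladd, lmul, lsm, Pi.add_apply, rv_304, rv_313, rv_314]
    fin_cases t <;> simp [mul_two]
  have h := congrArg (fun y : icoLeech => ((z y : icoLeech) : Fin 3 → ℍ[ℝ])) hx
  simp only [zl.add, zl.mul] at h
  have h0 := congrFun h 0
  have h1 := congrFun h 1
  have h2 := congrFun h 2
  simp only [ladd, lmul, lsm, Pi.add_apply, e₁, e₂, e₃] at h0 h1 h2
  refine ⟨add_self_cancel ?_, add_self_cancel ?_, add_self_cancel ?_⟩
  · rw [h0]
    simp [mul_two, mul_add]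
  · rw [h1]
    simp [mul_two, mul_add]
  · rw [h2]
    simp [mul_two, mul_add]

/-- equal products of values give equal products in the model -/
theorem mul_eq_mul_of_val {a b c d : Q} (h : val a * val b = val c * val d) : a.mul b = c.mul d := by
  apply φ_injective
  rw [φ_mul, φ_mul]
  unfold val at h
  rw [smul_mul_smul_comm, smul_mul_smul_comm] at h
  have := congrArg (fun q => (4 : ℝ) • q) h
  simp only [smul_smul] at this
  norm_num at this
  exact this

theorem comm_units : ∀ U ∈ unitL, gI.neg.mul U = U.mul gI.neg →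
    (⟨0, 0, 0, 0, -2, 0, 0, 0⟩ : Q).mul U = U.mul ⟨0, 0, 0, 0, -2, 0, 0, 0⟩ →
    U = oneM ∨ U = oneM.neg := by decide

theorem val_one_neg : val oneM.neg = -1 := by rw [val_neg, val_oneM]

/-- **a central element is `1` or `-1`** -/
theorem central_eq {z : Equiv.Perm icoLeech} (hz : z ∈ twoJ2) (hc : ∀ g ∈ twoJ2, g * z = z * g) :
    z = 1 ∨ z = negP := by
  obtain ⟨U₁, hU₁, U₂, hU₂, U₃, hU₃, hco⟩ := central_coord hz hc
  -- the vector (1, -1, h̄)
  obtain ⟨Ue, -, ee⟩ := central_rv hz hc (i := 84) (by norm_num)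
  have r84 : (rv 84 : Fin 3 → ℍ[ℝ]) = ![1, -1, star icoH] := by
    show valV (repV 84) = _
    rw [repV_84]
    simp only [valV, val_oneM, val_one_neg, val_Hb]
  have a0 := (hco (rv 84)).1
  have a1 := (hco (rv 84)).2.1
  rw [ee, r84] at a0 a1
  simp only [lsm, Matrix.cons_val_zero, Matrix.cons_val_one, one_mul, mul_one, neg_mul, mul_neg,
    neg_inj] at a0 a1
  have h12 : val U₂ = val U₁ := by rw [← a0, ← a1]
  -- the vector (1, h̄, -1)
  obtain ⟨Ue', -, ee'⟩ := central_rv hz hc (i := 32) (by norm_num)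
  have r32 : (rv 32 : Fin 3 → ℍ[ℝ]) = ![1, star icoH, -1] := by
    show valV (repV 32) = _
    rw [repV_32]
    simp only [valV, val_oneM, val_one_neg, val_Hb]
  have b0 := (hco (rv 32)).1
  have b2 := (hco (rv 32)).2.2
  rw [ee', r32] at b0 b2
  simp only [lsm, Matrix.cons_val_zero, Matrix.cons_val_two, Matrix.tail_cons, Matrix.head_cons, one_mul,
    mul_one, neg_mul, mul_neg, neg_inj] at b0 b2
  have h13 : val U₃ = val U₁ := by rw [← b0, ← b2]
  -- the vectors (1, -i, ..) and (1, -j, ..)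
  have hcomm : ∀ i < 315, (repV i).x = oneM → (repV i).y.mul U₁ = U₁.mul (repV i).y := by
    intro i hi hx
    obtain ⟨Ui, -, ei⟩ := central_rv hz hc hi
    have c0 := (hco (rv i)).1
    have c1 := (hco (rv i)).2.1
    rw [ei] at c0 c1
    have rx : (rv i : Fin 3 → ℍ[ℝ]) 0 = 1 := by
      show val (repV i).x = 1
      rw [hx, val_oneM]
    have ry : (rv i : Fin 3 → ℍ[ℝ]) 1 = val (repV i).y := rfl
    simp only [lsm, rx, ry, mul_one, one_mul] at c0 c1
    rw [c0, h12] at c1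
    exact mul_eq_mul_of_val c1.symm
  have k1 := hcomm 88 (by norm_num) (by rw [repV_88])
  have k2 := hcomm 96 (by norm_num) (by rw [repV_96])
  rw [repV_88] at k1
  rw [repV_96] at k2
  have hU := comm_units U₁ hU₁ k1 k2
  have hall : ∀ x : icoLeech, ∀ t, ((z x : icoLeech) : Fin 3 → ℍ[ℝ]) t = (x : Fin 3 → ℍ[ℝ]) t * val U₁ := by
    intro x t
    obtain ⟨c0, c1, c2⟩ := hco x
    rw [h12] at c1
    rw [h13] at c2
    fin_cases t
    · exact c0
    · exact c1
    · exact c2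
  rcases hU with h | h
  · left
    ext x : 1
    apply Subtype.ext
    funext t
    rw [hall x t, h, val_oneM, mul_one]
    rfl
  · right
    ext x : 1
    apply Subtype.ext
    funext t
    rw [hall x t, h, val_one_neg, negP_apply]
    simp

/-- the centre consists of `1` and `-1` -/
theorem center_eq (z : twoJ2) : z ∈ Subgroup.center twoJ2 ↔ z = 1 ∨ z = negT := by
  constructor
  · intro hz
    rw [Subgroup.mem_center_iff] at hz
    have hc : ∀ g ∈ twoJ2, g * (z : Equiv.Perm icoLeech) = z * g := by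
      intro g hg
      exact congrArg Subtype.val (hz ⟨g, hg⟩)
    rcases central_eq z.2 hc with h | h
    · exact Or.inl (Subtype.ext h)
    · exact Or.inr (Subtype.ext h)
  · rintro (rfl | rfl)
    · exact Subgroup.one_mem _
    · exact negT_mem_center

theorem card_center : Nat.card (Subgroup.center twoJ2) = 2 := by
  rw [Nat.card_eq_two_iff]
  refine ⟨⟨1, Subgroup.one_mem _⟩, ⟨negT, negT_mem_center⟩, ?_, ?_⟩
  · intro h
    exact negT_ne_one (congrArg Subtype.val h).symm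
  · ext ⟨z, hz⟩
    simp only [Set.mem_insert_iff, Set.mem_singleton_iff, Set.mem_univ, iff_true, Subtype.mk.injEq]
    exact (center_eq z).mp hz

end Cfsg.Agent.Lib.H3.J2
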