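/-
helper3 library (J2 icosian family): a computable model of the quaternions over `ℤ[τ]`
(`τ` the golden ratio) and its evaluation in the real quaternions.
-/
import Mathlib
import Cfsg.Prelude.Def_Spor_J2

set_option autoImplicit false

namespace Cfsg.Agent.Lib.H3.J2

open Quaternion

/-- eight integers: the quaternion `(a0 + b0 τ) + (a1 + b1 τ) i + (a2 + b2 τ) j + (a3 + b3 τ) k` -/
structure Q where
  /-- coordinate -/ a0 : ℤ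
  /-- coordinate -/ b0 : ℤ
  /-- coordinate -/ a1 : ℤ
  /-- coordinate -/ b1 : ℤ
  /-- coordinate -/ a2 : ℤ
  /-- coordinate -/ b2 : ℤ
  /-- coordinate -/ a3 : ℤ
  /-- coordinate -/ b3 : ℤ
deriving DecidableEq

namespace Q

/-- sum -/
def add (x y : Q) : Q :=
  ⟨x.a0 + y.a0, x.b0 + y.b0, x.a1 + y.a1, x.b1 + y.b1, x.a2 + y.a2, x.b2 + y.b2, x.a3 + y.a3,
    x.b3 + y.b3⟩

/-- difference -/
def sub (x y : Q) : Q :=
  ⟨x.a0 - y.a0, x.b0 - y.b0, x.a1 - y.a1, x.b1 - y.b1, x.a2 - y.a2, x.b2 - y.b2, x.a3 - y.a3,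
    x.b3 - y.b3⟩

/-- negative -/
def neg (x : Q) : Q := ⟨-x.a0, -x.b0, -x.a1, -x.b1, -x.a2, -x.b2, -x.a3, -x.b3⟩

/-- conjugate -/
def conj (x : Q) : Q := ⟨x.a0, x.b0, -x.a1, -x.b1, -x.a2, -x.b2, -x.a3, -x.b3⟩

/-- zero -/
def zero : Q := ⟨0, 0, 0, 0, 0, 0, 0, 0⟩

/-- integer multiple -/
def smul (n : ℤ) (x : Q) : Q :=
  ⟨n * x.a0, n * x.b0, n * x.a1, n * x.b1, n * x.a2, n * x.b2, n * x.a3, n * x.b3⟩

/-- product -/
def mul (x y : Q) : Q where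
    a0 := (x.a0*y.a0 + x.b0*y.b0) - (x.a1*y.a1 + x.b1*y.b1) - (x.a2*y.a2 + x.b2*y.b2) - (x.a3*y.a3 + x.b3*y.b3)
    b0 := (x.a0*y.b0 + x.b0*y.a0 + x.b0*y.b0) - (x.a1*y.b1 + x.b1*y.a1 + x.b1*y.b1) - (x.a2*y.b2 + x.b2*y.a2 + x.b2*y.b2) - (x.a3*y.b3 + x.b3*y.a3 + x.b3*y.b3)
    a1 := (x.a0*y.a1 + x.b0*y.b1) + (x.a1*y.a0 + x.b1*y.b0) + (x.a2*y.a3 + x.b2*y.b3) - (x.a3*y.a2 + x.b3*y.b2)
    b1 := (x.a0*y.b1 + x.b0*y.a1 + x.b0*y.b1) + (x.a1*y.b0 + x.b1*y.a0 + x.b1*y.b0) + (x.a2*y.b3 + x.b2*y.a3 + x.b2*y.b3) - (x.a3*y.b2 + x.b3*y.a2 + x.b3*y.b2)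
    a2 := (x.a0*y.a2 + x.b0*y.b2) - (x.a1*y.a3 + x.b1*y.b3) + (x.a2*y.a0 + x.b2*y.b0) + (x.a3*y.a1 + x.b3*y.b1)
    b2 := (x.a0*y.b2 + x.b0*y.a2 + x.b0*y.b2) - (x.a1*y.b3 + x.b1*y.a3 + x.b1*y.b3) + (x.a2*y.b0 + x.b2*y.a0 + x.b2*y.b0) + (x.a3*y.b1 + x.b3*y.a1 + x.b3*y.b1)
    a3 := (x.a0*y.a3 + x.b0*y.b3) + (x.a1*y.a2 + x.b1*y.b2) - (x.a2*y.a1 + x.b2*y.b1) + (x.a3*y.a0 + x.b3*y.b0)
    b3 := (x.a0*y.b3 + x.b0*y.a3 + x.b0*y.b3) + (x.a1*y.b2 + x.b1*y.a2 + x.b1*y.b2) - (x.a2*y.b1 + x.b2*y.a1 + x.b2*y.b1) + (x.a3*y.b0 + x.b3*y.a0 + x.b3*y.b0)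

end Q

/-- the golden ratio, as in the definitions -/
noncomputable abbrev τ : ℝ := Cfsg.Spor.tau

theorem tau_sq : τ ^ 2 = τ + 1 := by
  have h5 : Real.sqrt 5 ^ 2 = 5 := Real.sq_sqrt (by norm_num)
  unfold τ Cfsg.Spor.tau
  nlinarith [h5]

theorem tau_irrational : Irrational τ := by
  have h : τ = Real.goldenRatio := by
    unfold τ Cfsg.Spor.tau Real.goldenRatio
    rfl
  rw [h]
  exact Real.goldenRatio_irrational

/-- `a + b τ = 0` for integers only if both vanish -/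
theorem zt_eq_zero {a b : ℤ} (h : (a : ℝ) + b * τ = 0) : a = 0 ∧ b = 0 := by
  by_cases hb : b = 0
  · subst hb
    simp at h
    exact ⟨by exact_mod_cast h, rfl⟩
  · exfalso
    have hb' : (b : ℝ) ≠ 0 := by exact_mod_cast hb
    have h1 : τ = ((-a / b : ℚ) : ℝ) := by
      push_cast
      field_simp
      linarith
    exact tau_irrational ⟨_, h1.symm⟩

theorem zt_eq {a b c d : ℤ} (h : (a : ℝ) + b * τ = c + d * τ) : a = c ∧ b = d := by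
  have h1 : ((a - c : ℤ) : ℝ) + ((b - d : ℤ) : ℝ) * τ = 0 := by
    push_cast
    linarith
  obtain ⟨h2, h3⟩ := zt_eq_zero h1
  exact ⟨by omega, by omega⟩

/-- the value of the model quaternion in the real quaternions -/
noncomputable def φ (x : Q) : ℍ[ℝ] :=
  ⟨x.a0 + x.b0 * τ, x.a1 + x.b1 * τ, x.a2 + x.b2 * τ, x.a3 + x.b3 * τ⟩

@[simp] theorem φ_re (x : Q) : (φ x).re = x.a0 + x.b0 * τ := rfl

@[simp] theorem φ_imI (x : Q) : (φ x).imI = x.a1 + x.b1 * τ := rfl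

@[simp] theorem φ_imJ (x : Q) : (φ x).imJ = x.a2 + x.b2 * τ := rfl

@[simp] theorem φ_imK (x : Q) : (φ x).imK = x.a3 + x.b3 * τ := rfl

theorem φ_injective : Function.Injective φ := by
  intro x y h
  have h0 := congrArg QuaternionAlgebra.re h
  have h1 := congrArg QuaternionAlgebra.imI h
  have h2 := congrArg QuaternionAlgebra.imJ h
  have h3 := congrArg QuaternionAlgebra.imK h
  simp only [φ] at h0 h1 h2 h3
  obtain ⟨e0, f0⟩ := zt_eq h0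
  obtain ⟨e1, f1⟩ := zt_eq h1
  obtain ⟨e2, f2⟩ := zt_eq h2
  obtain ⟨e3, f3⟩ := zt_eq h3
  cases x; cases y
  simp_all

theorem φ_add (x y : Q) : φ (x.add y) = φ x + φ y := by
  ext <;> simp only [re_add, imI_add, imJ_add, imK_add] <;> simp only [φ, Q.add] <;> push_cast <;> ring

theorem φ_sub (x y : Q) : φ (x.sub y) = φ x - φ y := by
  ext <;> simp only [re_sub, imI_sub, imJ_sub, imK_sub] <;> simp only [φ, Q.sub] <;> push_cast <;> ring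

theorem φ_neg (x : Q) : φ x.neg = -φ x := by
  ext <;> simp only [re_neg, imI_neg, imJ_neg, imK_neg] <;> simp only [φ, Q.neg] <;> push_cast <;> ring

theorem φ_zero : φ Q.zero = 0 := by
  ext <;> simp [φ, Q.zero]

theorem φ_conj (x : Q) : φ x.conj = star (φ x) := by
  ext <;> simp only [re_star, imI_star, imJ_star, imK_star] <;> simp only [φ, Q.conj] <;> push_cast <;> ring

theorem φ_smul (n : ℤ) (x : Q) : φ (Q.smul n x) = (n : ℝ) • φ x := by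
  ext <;> simp only [re_smul, imI_smul, imJ_smul, imK_smul, smul_eq_mul] <;> simp only [φ, Q.smul] <;> push_cast <;> ring

theorem φ_mul (x y : Q) : φ (x.mul y) = φ x * φ y := by
  have ht := tau_sq
  ext
  · simp only [re_mul]
    simp only [φ, Q.mul]
    push_cast
    linear_combination (0 + (x.b0:ℝ)*y.b0 - (x.b1:ℝ)*y.b1 - (x.b2:ℝ)*y.b2 - (x.b3:ℝ)*y.b3) * ht * (-1)
  · simp only [imI_mul]
    simp only [φ, Q.mul]
    push_cast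
    linear_combination (0 + (x.b0:ℝ)*y.b1 + (x.b1:ℝ)*y.b0 + (x.b2:ℝ)*y.b3 - (x.b3:ℝ)*y.b2) * ht * (-1)
  · simp only [imJ_mul]
    simp only [φ, Q.mul]
    push_cast
    linear_combination (0 + (x.b0:ℝ)*y.b2 - (x.b1:ℝ)*y.b3 + (x.b2:ℝ)*y.b0 + (x.b3:ℝ)*y.b1) * ht * (-1)
  · simp only [imK_mul]
    simp only [φ, Q.mul]
    push_cast
    linear_combination (0 + (x.b0:ℝ)*y.b3 + (x.b1:ℝ)*y.b2 - (x.b2:ℝ)*y.b1 + (x.b3:ℝ)*y.b0) * ht * (-1)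

end Cfsg.Agent.Lib.H3.J2
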