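/-
helper3 library (J2 icosian family): the icosian ring in the computable model.
An icosian `x` is represented by the model quaternion `X` with `x = val X = φ X / 2`.
-/
import Cfsg.Agent.Lib.H3.J2.Model

set_option autoImplicit false
set_option maxRecDepth 100000

namespace Cfsg.Agent.Lib.H3.J2

open Quaternion

/-- the real quaternion represented in doubled coordinates -/
noncomputable def val (x : Q) : ℍ[ℝ] := (1 / 2 : ℝ) • φ x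

namespace Q

/-- the double -/
def dbl (x : Q) : Q := x.add x

/-- the parities of the coordinates -/
def kap (x : Q) : Q :=
  ⟨x.a0 % 2, x.b0 % 2, x.a1 % 2, x.b1 % 2, x.a2 % 2, x.b2 % 2, x.a3 % 2, x.b3 % 2⟩

/-- the halves of the coordinates, rounded down -/
def hlf (x : Q) : Q :=
  ⟨x.a0 / 2, x.b0 / 2, x.a1 / 2, x.b1 / 2, x.a2 / 2, x.b2 / 2, x.a3 / 2, x.b3 / 2⟩

theorem kap_add_dbl_hlf (x : Q) : (kap x).add (dbl (hlf x)) = x := by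
  cases x
  simp only [kap, hlf, dbl, add, Q.mk.injEq]
  refine ⟨?_, ?_, ?_, ?_, ?_, ?_, ?_, ?_⟩ <;> omega

theorem kap_add (x y : Q) : kap (x.add y) = kap ((kap x).add (kap y)) := by
  cases x; cases y
  simp only [kap, add, Q.mk.injEq]
  refine ⟨?_, ?_, ?_, ?_, ?_, ?_, ?_, ?_⟩ <;> omega

theorem kap_neg (x : Q) : kap x.neg = kap x := by
  cases x
  simp only [kap, neg, Q.mk.injEq]
  refine ⟨?_, ?_, ?_, ?_, ?_, ?_, ?_, ?_⟩ <;> omega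

theorem kap_kap (x : Q) : kap (kap x) = kap x := by
  cases x
  simp only [kap, Q.mk.injEq]
  refine ⟨?_, ?_, ?_, ?_, ?_, ?_, ?_, ?_⟩ <;> omega

end Q

theorem val_add (x y : Q) : val (x.add y) = val x + val y := by
  unfold val
  rw [φ_add, smul_add]

theorem val_sub (x y : Q) : val (x.sub y) = val x - val y := by
  unfold val
  rw [φ_sub, smul_sub]

theorem val_neg (x : Q) : val x.neg = -val x := by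
  unfold val
  rw [φ_neg, smul_neg]

theorem val_zero : val Q.zero = 0 := by
  unfold val
  rw [φ_zero, smul_zero]

theorem val_conj (x : Q) : val x.conj = star (val x) := by
  unfold val
  rw [φ_conj, Quaternion.star_smul]

theorem val_smul (n : ℤ) (x : Q) : val (Q.smul n x) = n • val x := by
  unfold val
  rw [φ_smul, smul_comm, ← Int.cast_smul_eq_zsmul ℝ]

theorem val_dbl (x : Q) : val x.dbl = φ x := by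
  unfold val Q.dbl
  rw [φ_add, ← two_smul ℝ, smul_smul]
  norm_num

theorem val_injective : Function.Injective val := by
  intro x y h
  apply φ_injective
  unfold val at h
  have h2 := congrArg (fun q => (2 : ℝ) • q) h
  simpa [smul_smul] using h2

theorem val_mul {x y z : Q} (h : x.mul y = z.dbl) : val x * val y = val z := by
  have h1 : φ x * φ y = φ z.dbl := by rw [← φ_mul, h]
  have h2 : φ z.dbl = (2 : ℝ) • φ z := by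
    unfold Q.dbl
    rw [φ_add, two_smul]
  unfold val
  rw [smul_mul_smul_comm, h1, h2, smul_smul]
  norm_num

/-- the 120 units of the icosian ring (doubled coordinates), in breadth-first order -/

def unitL : List Q := [
  ⟨2, 0, 0, 0, 0, 0, 0, 0⟩,
  ⟨0, 0, 2, 0, 0, 0, 0, 0⟩,
  ⟨1, 0, 1, -1, 0, 0, 0, 1⟩,
  ⟨-2, 0, 0, 0, 0, 0, 0, 0⟩,
  ⟨-1, 1, 1, 0, 0, 1, 0, 0⟩,
  ⟨-1, 1, 1, 0, 0, -1, 0, 0⟩,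
  ⟨-1, 0, 1, -1, 0, 0, 0, 1⟩,
  ⟨0, 0, -2, 0, 0, 0, 0, 0⟩,
  ⟨-1, 0, -1, 1, 0, 0, 0, -1⟩,
  ⟨-1, 0, -1, 1, 0, 0, 0, 1⟩,
  ⟨-1, 1, -1, 0, 0, 1, 0, 0⟩,
  ⟨-1, 1, 0, 1, 0, 0, 1, 0⟩,
  ⟨-1, 1, -1, 0, 0, -1, 0, 0⟩,
  ⟨1, -1, -1, 0, 0, -1, 0, 0⟩,
  ⟨1, -1, -1, 0, 0, 1, 0, 0⟩,
  ⟨1, 0, -1, 1, 0, 0, 0, -1⟩,
  ⟨0, -1, -1, 1, 1, 0, 0, 0⟩,
  ⟨1, 0, -1, 1, 0, 0, 0, 1⟩,
  ⟨0, -1, -1, 1, -1, 0, 0, 0⟩,
  ⟨0, 0, -1, 1, 0, 1, 1, 0⟩,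
  ⟨0, 0, -1, 1, 0, -1, 1, 0⟩,
  ⟨1, 0, 1, -1, 0, 0, 0, -1⟩,
  ⟨1, -1, 1, 0, 0, -1, 0, 0⟩,
  ⟨1, -1, 0, -1, 0, 0, -1, 0⟩,
  ⟨1, -1, 1, 0, 0, 1, 0, 0⟩,
  ⟨1, -1, 0, -1, 0, 0, 1, 0⟩,
  ⟨1, -1, 0, 0, 1, 0, 0, -1⟩,
  ⟨1, -1, 0, 0, 1, 0, 0, 1⟩,
  ⟨1, -1, 0, 1, 0, 0, -1, 0⟩,
  ⟨1, -1, 0, 0, -1, 0, 0, 1⟩,
  ⟨1, -1, 0, 0, -1, 0, 0, -1⟩,
  ⟨1, -1, 0, 1, 0, 0, 1, 0⟩,
  ⟨0, 1, 1, -1, -1, 0, 0, 0⟩,
  ⟨-1, 0, 1, -1, 0, 0, 0, -1⟩,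
  ⟨0, 1, 1, -1, 1, 0, 0, 0⟩,
  ⟨0, 0, 1, -1, 0, -1, -1, 0⟩,
  ⟨0, 0, 1, -1, 0, 1, -1, 0⟩,
  ⟨0, -1, 1, -1, -1, 0, 0, 0⟩,
  ⟨0, 0, 1, -1, 0, 1, 1, 0⟩,
  ⟨0, 0, 1, -1, 0, -1, 1, 0⟩,
  ⟨0, -1, 1, -1, 1, 0, 0, 0⟩,
  ⟨1, 0, 1, 0, 1, 0, -1, 0⟩,
  ⟨0, -1, 1, 0, 0, 0, -1, 1⟩,
  ⟨1, 0, 1, 0, -1, 0, -1, 0⟩,
  ⟨-1, 1, 0, 1, 0, 0, -1, 0⟩,
  ⟨-1, 1, 0, 0, -1, 0, 0, 1⟩,
  ⟨-1, 1, 0, 0, -1, 0, 0, -1⟩,
  ⟨-1, 1, 0, -1, 0, 0, 1, 0⟩,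
  ⟨-1, 1, 0, 0, 1, 0, 0, -1⟩,
  ⟨-1, 1, 0, 0, 1, 0, 0, 1⟩,
  ⟨-1, 1, 0, -1, 0, 0, -1, 0⟩,
  ⟨-1, 0, 1, 0, -1, 0, -1, 0⟩,
  ⟨-1, 0, 0, -1, -1, 1, 0, 0⟩,
  ⟨-1, 0, 1, 0, -1, 0, 1, 0⟩,
  ⟨-1, 0, 1, 0, 1, 0, 1, 0⟩,
  ⟨-1, 0, 0, -1, 1, -1, 0, 0⟩,
  ⟨-1, 0, 1, 0, 1, 0, -1, 0⟩,
  ⟨0, 1, 1, 0, 0, 0, -1, 1⟩,
  ⟨0, 1, -1, 1, 1, 0, 0, 0⟩,
  ⟨0, 0, -1, 1, 0, -1, -1, 0⟩,
  ⟨0, 0, -1, 1, 0, 1, -1, 0⟩,
  ⟨0, 1, -1, 1, -1, 0, 0, 0⟩,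
  ⟨-1, 0, -1, 0, -1, 0, 1, 0⟩,
  ⟨0, 1, -1, 0, 0, 0, 1, -1⟩,
  ⟨-1, 0, -1, 0, 1, 0, 1, 0⟩,
  ⟨-1, 0, -1, 0, 1, 0, -1, 0⟩,
  ⟨0, 1, -1, 0, 0, 0, -1, 1⟩,
  ⟨-1, 0, -1, 0, -1, 0, -1, 0⟩,
  ⟨-1, 0, 0, 1, -1, 1, 0, 0⟩,
  ⟨-1, 0, 0, 0, 0, 1, 1, -1⟩,
  ⟨-1, 0, 0, 0, 0, -1, 1, -1⟩,
  ⟨-1, 0, 0, 1, 1, -1, 0, 0⟩,
  ⟨1, 0, -1, 0, 1, 0, 1, 0⟩,
  ⟨1, 0, 0, 1, 1, -1, 0, 0⟩,
  ⟨1, 0, -1, 0, 1, 0, -1, 0⟩,
  ⟨1, 0, -1, 0, -1, 0, -1, 0⟩,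
  ⟨1, 0, 0, 1, -1, 1, 0, 0⟩,
  ⟨1, 0, -1, 0, -1, 0, 1, 0⟩,
  ⟨0, -1, -1, 0, 0, 0, 1, -1⟩,
  ⟨0, 0, -1, 0, 1, -1, 0, -1⟩,
  ⟨0, 0, -1, 0, 1, -1, 0, 1⟩,
  ⟨0, -1, -1, 0, 0, 0, -1, 1⟩,
  ⟨0, 0, -1, 0, -1, 1, 0, 1⟩,
  ⟨0, 0, -1, 0, -1, 1, 0, -1⟩,
  ⟨0, 0, 0, 1, -1, 0, 1, -1⟩,
  ⟨0, 0, 0, 1, 1, 0, 1, -1⟩,
  ⟨1, 0, 1, 0, -1, 0, 1, 0⟩,
  ⟨0, -1, 1, 0, 0, 0, 1, -1⟩,
  ⟨1, 0, 1, 0, 1, 0, 1, 0⟩,
  ⟨1, 0, 0, -1, 1, -1, 0, 0⟩,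
  ⟨1, 0, 0, 0, 0, -1, -1, 1⟩,
  ⟨1, 0, 0, 0, 0, 1, -1, 1⟩,
  ⟨1, 0, 0, -1, -1, 1, 0, 0⟩,
  ⟨1, 0, 0, 0, 0, 1, 1, -1⟩,
  ⟨1, 0, 0, 0, 0, -1, 1, -1⟩,
  ⟨0, -1, 0, 0, 1, -1, 1, 0⟩,
  ⟨0, -1, 0, 0, 1, -1, -1, 0⟩,
  ⟨0, -1, 0, 0, -1, 1, -1, 0⟩,
  ⟨0, -1, 0, 0, -1, 1, 1, 0⟩,
  ⟨0, 0, 1, 0, -1, 1, 0, 1⟩,
  ⟨0, 0, 1, 0, -1, 1, 0, -1⟩,
  ⟨0, 1, 1, 0, 0, 0, 1, -1⟩,
  ⟨0, 0, 1, 0, 1, -1, 0, -1⟩,
  ⟨0, 0, 1, 0, 1, -1, 0, 1⟩,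
  ⟨0, 0, 0, -1, 1, 0, -1, 1⟩,
  ⟨0, 0, 0, -1, -1, 0, -1, 1⟩,
  ⟨0, 0, 0, -1, -1, 0, 1, -1⟩,
  ⟨0, 0, 0, -1, 1, 0, 1, -1⟩,
  ⟨0, 0, 0, 0, 0, 0, -2, 0⟩,
  ⟨-1, 0, 0, 0, 0, -1, -1, 1⟩,
  ⟨-1, 0, 0, 0, 0, 1, -1, 1⟩,
  ⟨0, 1, 0, 0, -1, 1, -1, 0⟩,
  ⟨0, 1, 0, 0, -1, 1, 1, 0⟩,
  ⟨0, 1, 0, 0, 1, -1, 1, 0⟩,
  ⟨0, 1, 0, 0, 1, -1, -1, 0⟩,
  ⟨0, 0, 0, 0, -2, 0, 0, 0⟩,
  ⟨0, 0, 0, 0, 2, 0, 0, 0⟩,
  ⟨0, 0, 0, 1, 1, 0, -1, 1⟩,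
  ⟨0, 0, 0, 1, -1, 0, -1, 1⟩,
  ⟨0, 0, 0, 0, 0, 0, 2, 0⟩]

/-- for each unit: a generator (0 for `i`, 1 for `ω`) and an earlier unit whose product it is -/

def uPar : List (ℕ × ℕ) := [(0, 0), (0, 0), (1, 0), (0, 1), (1, 1), (0, 2), (1, 2), (0, 3), (1, 3), (0, 4), (1, 4), (1, 5), (0, 6), (1, 7), (0, 8), (1, 8), (1, 9), (0, 10), (0, 11), (1, 11), (1, 12), (0, 13), (1, 13), (1, 14), (0, 15), (0, 16), (1, 16), (1, 17), (1, 18), (0, 19), (0, 20), (1, 20), (1, 21), (0, 22), (0, 23), (1, 23), (1, 24), (1, 25), (0, 26), (0, 27), (1, 27), (1, 28), (1, 29), (1, 30), (0, 32), (1, 32), (1, 33), (1, 34), (0, 35), (0, 36), (1, 36), (1, 37), (1, 38), (1, 39), (0, 41), (0, 42), (1, 42), (1, 43), (1, 44), (0, 45), (0, 46), (1, 46), (1, 47), (1, 48), (1, 49), (0, 51), (0, 52), (1, 52), (1, 53),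 (1, 54), (1, 55), (0, 57), (1, 58), (1, 59), (1, 60), (0, 62), (0, 63), (1, 63), (1, 64), (1, 65), (1, 66), (0, 68), (0, 69), (1, 69), (1, 70), (1, 71), (0, 72), (0, 73), (1, 73), (1, 74), (1, 75), (1, 76), (0, 78), (0, 79), (1, 79), (1, 80), (1, 81), (0, 84), (0, 85), (1, 86), (1, 87), (0, 89), (0, 90), (1, 90), (1, 91), (1, 92), (0, 95), (0, 96), (1, 97), (0, 99), (1, 99), (1, 100), (1, 101), (0, 104), (0, 105), (1, 106), (0, 108), (0, 111), (0, 112), (1, 113)]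

/-- the sixteen parity patterns of doubled icosians -/

def codeQ : List Q := [
  ⟨0, 0, 0, 0, 0, 0, 0, 0⟩,
  ⟨0, 0, 0, 1, 1, 0, 1, 1⟩,
  ⟨0, 0, 1, 0, 1, 1, 0, 1⟩,
  ⟨0, 0, 1, 1, 0, 1, 1, 0⟩,
  ⟨0, 1, 0, 0, 1, 1, 1, 0⟩,
  ⟨0, 1, 0, 1, 0, 1, 0, 1⟩,
  ⟨0, 1, 1, 0, 0, 0, 1, 1⟩,
  ⟨0, 1, 1, 1, 1, 0, 0, 0⟩,
  ⟨1, 0, 0, 0, 0, 1, 1, 1⟩,
  ⟨1, 0, 0, 1, 1, 1, 0, 0⟩,
  ⟨1, 0, 1, 0, 1, 0, 1, 0⟩,
  ⟨1, 0, 1, 1, 0, 0, 0, 1⟩,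
  ⟨1, 1, 0, 0, 1, 0, 0, 1⟩,
  ⟨1, 1, 0, 1, 0, 0, 1, 0⟩,
  ⟨1, 1, 1, 0, 0, 1, 0, 0⟩,
  ⟨1, 1, 1, 1, 1, 1, 1, 1⟩]

/-- eight units forming a basis -/

def basisU : List Q := [⟨1, 0, -1, 0, 1, 0, -1, 0⟩, ⟨0, 1, 0, 0, 1, -1, -1, 0⟩, ⟨0, 0, 0, 0, 2, 0, 0, 0⟩, ⟨1, -1, 0, 0, 1, 0, 0, 1⟩, ⟨-1, 0, -1, 0, 1, 0, 1, 0⟩, ⟨1, 0, -1, 1, 0, 0, 0, 1⟩, ⟨0, 0, 1, -1, 0, 1, -1, 0⟩, ⟨0, -1, 0, 0, 1, -1, -1, 0⟩]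

/-- the parity patterns and the doubled coordinate vectors as combinations of the basis -/

def decompL : List (Q × List ℤ) := [
  (⟨0, 0, 0, 1, 1, 0, 1, 1⟩, [-1, 0, 1, 0, 0, 1, 0, 0]),
  (⟨0, 0, 1, 0, 1, 1, 0, 1⟩, [-1, 0, 1, 0, 0, 1, 1, 0]),
  (⟨0, 0, 1, 1, 0, 1, 1, 0⟩, [-1, -1, 2, -1, -1, 1, 0, 0]),
  (⟨0, 1, 0, 0, 1, 1, 1, 0⟩, [0, 0, 1, 0, 0, 0, 0, -1]),
  (⟨0, 1, 0, 1, 0, 1, 0, 1⟩, [-1, 0, 1, -1, 0, 2, 1, 0]),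
  (⟨0, 1, 1, 0, 0, 0, 1, 1⟩, [-1, 1, 0, 1, 0, 0, 0, -1]),
  (⟨0, 1, 1, 1, 1, 0, 0, 0⟩, [-1, 0, 2, -1, -1, 1, 0, 0]),
  (⟨1, 0, 0, 0, 0, 1, 1, 1⟩, [0, 0, 0, 1, 0, 0, 0, -1]),
  (⟨1, 0, 0, 1, 1, 1, 0, 0⟩, [0, -1, 2, -1, -1, 1, 0, 0]),
  (⟨1, 0, 1, 0, 1, 0, 1, 0⟩, [0, 0, 1, 1, -1, -1, -1, -1]),
  (⟨1, 0, 1, 1, 0, 0, 0, 1⟩, [-1, 0, 1, 0, -1, 1, 0, 0]),
  (⟨1, 1, 0, 0, 1, 0, 0, 1⟩, [0, 1, 0, 1, 0, 0, 0, -1]),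
  (⟨1, 1, 0, 1, 0, 0, 1, 0⟩, [0, 0, 1, 0, -1, 0, -1, -1]),
  (⟨1, 1, 1, 0, 0, 1, 0, 0⟩, [0, 0, 1, 0, -1, 0, 0, -1]),
  (⟨1, 1, 1, 1, 1, 1, 1, 1⟩, [-1, 0, 2, 0, -1, 1, 0, -1]),
  (⟨2, 0, 0, 0, 0, 0, 0, 0⟩, [1, 0, 0, 1, -1, -1, -1, -1]),
  (⟨0, 2, 0, 0, 0, 0, 0, 0⟩, [0, 1, 0, 0, 0, 0, 0, -1]),
  (⟨0, 0, 2, 0, 0, 0, 0, 0⟩, [-1, 0, 1, 0, -1, 0, 0, 0]),
  (⟨0, 0, 0, 2, 0, 0, 0, 0⟩, [-1, -1, 2, -2, -1, 2, 0, 1]),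
  (⟨0, 0, 0, 0, 2, 0, 0, 0⟩, [0, 0, 1, 0, 0, 0, 0, 0]),
  (⟨0, 0, 0, 0, 0, 2, 0, 0⟩, [0, -1, 1, -1, 0, 1, 1, 0]),
  (⟨0, 0, 0, 0, 0, 0, 2, 0⟩, [0, 0, 0, 1, 0, -1, -1, -1]),
  (⟨0, 0, 0, 0, 0, 0, 0, 2⟩, [-1, 1, -1, 1, 1, 1, 1, 0])]

/-- the positions of the basis units in the list of units -/

def basisIdx : List ℕ := [74, 114, 116, 27, 64, 17, 36, 96]

/-- the generator `i` -/
def gI : Q := ⟨0, 0, 2, 0, 0, 0, 0, 0⟩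

/-- the generator `ω = (1 + σ i + τ k)/2` -/
def gW : Q := ⟨1, 0, 1, -1, 0, 0, 0, 1⟩

/-- the two generators -/
def gens2 : List Q := [gI, gW]

theorem val_gI : val gI = Cfsg.Spor.qI := by
  unfold val
  ext <;> simp [gI, Cfsg.Spor.qI]

theorem val_gW : val gW = ⟨1 / 2, Cfsg.Spor.sig / 2, 0, Cfsg.Spor.tau / 2⟩ := by
  have hs : Cfsg.Spor.sig = 1 - τ := by
    unfold Cfsg.Spor.sig τ Cfsg.Spor.tau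
    ring
  unfold val
  ext <;> simp [gW, hs] <;> ring

/-- membership in the doubled icosians: the parity pattern is one of the sixteen -/
def inL2 (x : Q) : Bool := codeQ.contains x.kap

theorem inL2_iff (x : Q) : inL2 x = true ↔ x.kap ∈ codeQ := by
  unfold inL2
  rw [List.contains_iff_mem]

theorem code_add : ∀ c ∈ codeQ, ∀ d ∈ codeQ, (c.add d).kap ∈ codeQ := by decide

theorem code_kap : ∀ c ∈ codeQ, c.kap = c := by decide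

theorem inL2_add {x y : Q} (hx : inL2 x = true) (hy : inL2 y = true) : inL2 (x.add y) = true := by
  rw [inL2_iff] at *
  rw [Q.kap_add]
  exact code_add _ hx _ hy

theorem inL2_neg {x : Q} (hx : inL2 x = true) : inL2 x.neg = true := by
  rw [inL2_iff] at *
  rw [Q.kap_neg]
  exact hx

theorem inL2_zero : inL2 Q.zero = true := by decide

theorem inL2_unit : ∀ u ∈ unitL, inL2 u = true := by decide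

theorem inL2_dbl (x : Q) : inL2 x.dbl = true := by
  rw [inL2_iff]
  have : x.dbl.kap = Q.zero := by
    cases x
    simp only [Q.kap, Q.dbl, Q.add, Q.zero, Q.mk.injEq]
    refine ⟨?_, ?_, ?_, ?_, ?_, ?_, ?_, ?_⟩ <;> omega
  rw [this]
  decide

/-! ### the units lie in the icosian ring -/

theorem gen_mem : ∀ g ∈ gens2, val g ∈ Cfsg.Spor.icosians := by
  intro g hg
  simp only [gens2, List.mem_cons, List.not_mem_nil, or_false] at hg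
  rcases hg with rfl | rfl
  · rw [val_gI]
    exact Subring.subset_closure (Set.mem_insert _ _)
  · rw [val_gW]
    exact Subring.subset_closure (Set.mem_insert_of_mem _ (Set.mem_singleton _))

theorem uPar_ok : ∀ n < 120, n = 0 ∨
    ((uPar.getD n (0, 0)).2 < n ∧
      (gens2.getD (uPar.getD n (0, 0)).1 Q.zero).mul (unitL.getD (uPar.getD n (0, 0)).2 Q.zero) =
        (unitL.getD n Q.zero).dbl) := by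
  decide +kernel

theorem unit_one : unitL.getD 0 Q.zero = ⟨2, 0, 0, 0, 0, 0, 0, 0⟩ := rfl

theorem val_one : val ⟨2, 0, 0, 0, 0, 0, 0, 0⟩ = 1 := by
  unfold val
  ext <;> simp

theorem unit_getD_mem (n : ℕ) (hn : n < 120) : val (unitL.getD n Q.zero) ∈ Cfsg.Spor.icosians := by
  induction n using Nat.strong_induction_on with
  | _ n ih =>
    rcases uPar_ok n hn with rfl | ⟨h1, h2⟩
    · rw [unit_one, val_one]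
      exact Subring.one_mem _
    · rw [← val_mul h2]
      refine Subring.mul_mem _ (gen_mem _ ?_) (ih _ h1 (by omega))
      have hlt : (uPar.getD n (0, 0)).1 < 2 := by
        have : ∀ m < 120, (uPar.getD m (0, 0)).1 < 2 := by decide +kernel
        exact this n hn
      rw [List.getD_eq_getElem _ _ (by simpa [gens2] using hlt)]
      exact List.getElem_mem _

theorem unit_mem : ∀ u ∈ unitL, val u ∈ Cfsg.Spor.icosians := by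
  intro u hu
  obtain ⟨n, hn, rfl⟩ := List.getElem_of_mem hu
  have hn' : n < 120 := by simpa [unitL] using hn
  have := unit_getD_mem n hn'
  rwa [List.getD_eq_getElem _ _ hn] at this

theorem basis_sub : ∀ u ∈ basisU, u ∈ unitL := by decide

/-! ### the doubled icosians are the span of the units -/

/-- an integer combination -/
def comb : List ℤ → List Q → Q
  | n :: ns, u :: us => (Q.smul n u).add (comb ns us)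
  | _, _ => Q.zero

theorem val_comb_mem (us : List Q) (hus : ∀ u ∈ us, val u ∈ Cfsg.Spor.icosians) (ns : List ℤ) :
    val (comb ns us) ∈ Cfsg.Spor.icosians := by
  induction us generalizing ns with
  | nil =>
    cases ns <;> simp only [comb] <;> rw [val_zero] <;> exact Subring.zero_mem _
  | cons u us ih =>
    cases ns with
    | nil =>
      simp only [comb]
      rw [val_zero]
      exact Subring.zero_mem _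
    | cons n ns =>
      simp only [comb]
      rw [val_add, val_smul]
      refine Subring.add_mem _ (Subring.zsmul_mem _ (hus u List.mem_cons_self) n)
        (ih (fun v hv => hus v (List.mem_cons_of_mem _ hv)) ns)

theorem decomp_ok : ∀ p ∈ decompL, p.1 = comb p.2 basisU := by decide

theorem val_decomp_mem : ∀ p ∈ decompL, val p.1 ∈ Cfsg.Spor.icosians := by
  intro p hp
  rw [decomp_ok p hp]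
  exact val_comb_mem _ (fun u hu => unit_mem u (basis_sub u hu)) _

theorem code_mem_decomp : ∀ c ∈ codeQ, c = Q.zero ∨ ∃ p ∈ decompL, p.1 = c := by decide

theorem val_code_mem : ∀ c ∈ codeQ, val c ∈ Cfsg.Spor.icosians := by
  intro c hc
  rcases code_mem_decomp c hc with rfl | ⟨p, hp, rfl⟩
  · rw [val_zero]
    exact Subring.zero_mem _
  · exact val_decomp_mem p hp

/-- the coordinate vectors -/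
def eV (j : ℕ) : Q :=
  match j with
  | 0 => ⟨1, 0, 0, 0, 0, 0, 0, 0⟩
  | 1 => ⟨0, 1, 0, 0, 0, 0, 0, 0⟩
  | 2 => ⟨0, 0, 1, 0, 0, 0, 0, 0⟩
  | 3 => ⟨0, 0, 0, 1, 0, 0, 0, 0⟩
  | 4 => ⟨0, 0, 0, 0, 1, 0, 0, 0⟩
  | 5 => ⟨0, 0, 0, 0, 0, 1, 0, 0⟩
  | 6 => ⟨0, 0, 0, 0, 0, 0, 1, 0⟩
  | _ => ⟨0, 0, 0, 0, 0, 0, 0, 1⟩

theorem eV_mem_decomp : ∀ j < 8, ∃ p ∈ decompL, p.1 = (eV j).dbl := by decide

theorem φ_eV_mem (j : ℕ) (hj : j < 8) : φ (eV j) ∈ Cfsg.Spor.icosians := by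
  obtain ⟨p, hp, h⟩ := eV_mem_decomp j hj
  rw [← val_dbl, ← h]
  exact val_decomp_mem p hp

theorem φ_eq_sum (x : Q) : φ x = x.a0 • φ (eV 0) + x.b0 • φ (eV 1) + x.a1 • φ (eV 2) + x.b1 • φ (eV 3) +
    x.a2 • φ (eV 4) + x.b2 • φ (eV 5) + x.a3 • φ (eV 6) + x.b3 • φ (eV 7) := by
  simp only [← Int.cast_smul_eq_zsmul ℝ]
  ext <;> simp [eV]

theorem φ_mem (x : Q) : φ x ∈ Cfsg.Spor.icosians := by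
  rw [φ_eq_sum]
  have h := fun j hj => φ_eV_mem j hj
  refine Subring.add_mem _ (Subring.add_mem _ (Subring.add_mem _ (Subring.add_mem _ (Subring.add_mem _
    (Subring.add_mem _ (Subring.add_mem _ ?_ ?_) ?_) ?_) ?_) ?_) ?_) ?_ <;>
    exact Subring.zsmul_mem _ (h _ (by norm_num)) _

theorem val_mem_of_inL2 {x : Q} (hx : inL2 x = true) : val x ∈ Cfsg.Spor.icosians := by
  rw [inL2_iff] at hx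
  rw [← Q.kap_add_dbl_hlf x, val_add, val_dbl]
  exact Subring.add_mem _ (val_code_mem _ hx) (φ_mem _)

/-! ### every icosian is represented -/

theorem units_closed : ∀ g ∈ gens2, ∀ u ∈ unitL, ∃ w ∈ unitL, g.mul u = w.dbl := by
  decide +kernel

theorem submonoid_le (x : ℍ[ℝ])
    (hx : x ∈ Submonoid.closure ({Cfsg.Spor.qI, ⟨1 / 2, Cfsg.Spor.sig / 2, 0, Cfsg.Spor.tau / 2⟩} : Set ℍ[ℝ])) :
    ∃ u ∈ unitL, x = val u := by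
  induction hx using Submonoid.closure_induction_left with
  | one => exact ⟨_, by decide, val_one.symm⟩
  | mul_left g hg y _ ih =>
    obtain ⟨u, hu, rfl⟩ := ih
    have hg' : ∃ g' ∈ gens2, g = val g' := by
      rcases hg with rfl | rfl
      · exact ⟨gI, by decide, val_gI.symm⟩
      · exact ⟨gW, by decide, val_gW.symm⟩
    obtain ⟨g', hg'm, rfl⟩ := hg'
    obtain ⟨w, hw, hgw⟩ := units_closed g' hg'm u hu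
    exact ⟨w, hw, val_mul hgw⟩

theorem exists_of_mem_icosians {x : ℍ[ℝ]} (hx : x ∈ Cfsg.Spor.icosians) :
    ∃ X : Q, inL2 X = true ∧ x = val X := by
  unfold Cfsg.Spor.icosians at hx
  rw [Subring.mem_closure_iff] at hx
  induction hx using AddSubgroup.closure_induction with
  | mem y hy =>
    obtain ⟨u, hu, rfl⟩ := submonoid_le y hy
    exact ⟨u, inL2_unit u hu, rfl⟩
  | zero => exact ⟨Q.zero, inL2_zero, val_zero.symm⟩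
  | add y z _ _ ihy ihz =>
    obtain ⟨Y, hY, rfl⟩ := ihy
    obtain ⟨Z, hZ, rfl⟩ := ihz
    exact ⟨Y.add Z, inL2_add hY hZ, (val_add Y Z).symm⟩
  | neg y _ ih =>
    obtain ⟨Y, hY, rfl⟩ := ih
    exact ⟨Y.neg, inL2_neg hY, (val_neg Y).symm⟩

/-- **The icosian ring in the model.** -/
theorem mem_icosians_iff (x : ℍ[ℝ]) :
    x ∈ Cfsg.Spor.icosians ↔ ∃ X : Q, inL2 X = true ∧ x = val X :=
  ⟨exists_of_mem_icosians, fun ⟨_, hX, h⟩ => h ▸ val_mem_of_inL2 hX⟩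

end Cfsg.Agent.Lib.H3.J2
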