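/-
helper3 library (J2 icosian family): the icosian Leech lattice: closure properties, the three
generators `e, f, g` over the icosian ring, integrality of the Hermitian product.
-/
import Cfsg.Agent.Lib.H3.J2.Ico

set_option autoImplicit false
set_option maxRecDepth 100000

namespace Cfsg.Agent.Lib.H3.J2

open Quaternion Cfsg.Spor

/-- the model of `h` -/
def Hm : Q := ⟨1, -2, 1, 0, 1, 0, 1, 0⟩

/-- the model of the conjugate of `h` -/
def Hb : Q := ⟨1, -2, -1, 0, -1, 0, -1, 0⟩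

/-- the model of the icosian `w₀` with `1 + h̄ = w₀ h` -/
def W0m : Q := ⟨1, -1, -1, 1, -1, 1, -1, 1⟩

/-- the model of `√5` -/
def S5m : Q := ⟨-2, 4, 0, 0, 0, 0, 0, 0⟩

/-- the model of `2` -/
def twoM : Q := ⟨4, 0, 0, 0, 0, 0, 0, 0⟩

/-- the model of `1` -/
def oneM : Q := ⟨2, 0, 0, 0, 0, 0, 0, 0⟩

theorem sqrt5_eq : Real.sqrt 5 = 2 * τ - 1 := by
  unfold τ Cfsg.Spor.tau
  ring

theorem val_Hm : val Hm = icoH := by
  unfold val
  ext <;> simp [Hm, icoH, sqrt5_eq] <;> ring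

theorem val_Hb : val Hb = star icoH := by
  rw [← val_Hm, ← val_conj]
  rfl

theorem val_twoM : val twoM = 2 := by
  unfold val
  ext
  · simp [twoM]
    show (2 : ℝ)⁻¹ * 4 = 2
    norm_num
  · simp [twoM]
    rfl
  · simp [twoM]
    rfl
  · simp [twoM]
    rfl

theorem val_oneM : val oneM = 1 := val_one

theorem val_S5m : val S5m = ((Real.sqrt 5 : ℝ) : ℍ[ℝ]) := by
  unfold val
  ext <;> simp [S5m, sqrt5_eq] <;> ring

theorem h_mem : icoH ∈ icosians := by
  rw [← val_Hm]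
  exact val_mem_of_inL2 (by decide)

theorem star_h_mem : star icoH ∈ icosians := by
  rw [← val_Hb]
  exact val_mem_of_inL2 (by decide)

theorem h_mul_star : icoH * star icoH = 2 := by
  rw [← val_Hb, ← val_Hm, val_mul (z := twoM) (by decide), val_twoM]

theorem star_mul_h : star icoH * icoH = 2 := by
  rw [← val_Hb, ← val_Hm, val_mul (z := twoM) (by decide), val_twoM]

theorem h_add_star : icoH + star icoH = (-(Real.sqrt 5) : ℝ) • (1 : ℍ[ℝ]) := by
  rw [← val_Hb, ← val_Hm, ← val_add, show Hm.add Hb = S5m.neg by decide, val_neg, val_S5m, neg_smul,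
    ← Quaternion.coe_mul_eq_smul, mul_one]

theorem sqrt5_smul_mem {x : ℍ[ℝ]} (hx : x ∈ icosians) : (Real.sqrt 5 : ℝ) • x ∈ icosians := by
  rw [← Quaternion.coe_mul_eq_smul, ← val_S5m]
  exact Subring.mul_mem _ (val_mem_of_inL2 (by decide)) hx

theorem two_mem : (2 : ℍ[ℝ]) ∈ icosians := by
  rw [← val_twoM]
  exact val_mem_of_inL2 (by decide)

theorem star_mem {x : ℍ[ℝ]} (hx : x ∈ icosians) : star x ∈ icosians := by
  obtain ⟨X, hX, rfl⟩ := exists_of_mem_icosians hx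
  rw [← val_conj]
  apply val_mem_of_inL2
  rw [inL2_iff] at *
  have : X.conj.kap = X.kap := by
    cases X
    simp only [Q.kap, Q.conj, Q.mk.injEq]
    refine ⟨trivial, trivial, ?_, ?_, ?_, ?_, ?_, ?_⟩ <;> omega
  rw [this]
  exact hX

/-! ### left ideals -/

theorem leftIdeal_zero (q : ℍ[ℝ]) : (0 : ℍ[ℝ]) ∈ leftIdeal q :=
  ⟨0, Subring.zero_mem _, by simp⟩

theorem leftIdeal_add {q x y : ℍ[ℝ]} (hx : x ∈ leftIdeal q) (hy : y ∈ leftIdeal q) :
    x + y ∈ leftIdeal q := by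
  obtain ⟨a, ha, rfl⟩ := hx
  obtain ⟨b, hb, rfl⟩ := hy
  exact ⟨a + b, Subring.add_mem _ ha hb, by rw [add_mul]⟩

theorem leftIdeal_neg {q x : ℍ[ℝ]} (hx : x ∈ leftIdeal q) : -x ∈ leftIdeal q := by
  obtain ⟨a, ha, rfl⟩ := hx
  exact ⟨-a, Subring.neg_mem _ ha, by rw [neg_mul]⟩

theorem leftIdeal_sub {q x y : ℍ[ℝ]} (hx : x ∈ leftIdeal q) (hy : y ∈ leftIdeal q) :
    x - y ∈ leftIdeal q := by
  rw [sub_eq_add_neg]
  exact leftIdeal_add hx (leftIdeal_neg hy)

theorem leftIdeal_mul {q x a : ℍ[ℝ]} (ha : a ∈ icosians) (hx : x ∈ leftIdeal q) :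
    a * x ∈ leftIdeal q := by
  obtain ⟨b, hb, rfl⟩ := hx
  exact ⟨a * b, Subring.mul_mem _ ha hb, by rw [mul_assoc]⟩

theorem leftIdeal_self_mem {q a : ℍ[ℝ]} (ha : a ∈ icosians) : a * q ∈ leftIdeal q :=
  ⟨a, ha, rfl⟩

/-! ### the lattice is a module over the icosians -/

/-- left multiplication of a vector by a quaternion -/
noncomputable def lsm (a : ℍ[ℝ]) (v : Fin 3 → ℍ[ℝ]) : Fin 3 → ℍ[ℝ] := fun t => a * v t

theorem leech_add {v w : Fin 3 → ℍ[ℝ]} (hv : v ∈ icoLeech) (hw : w ∈ icoLeech) :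
    v + w ∈ icoLeech := by
  obtain ⟨h1, h2, h3, h4⟩ := hv
  obtain ⟨k1, k2, k3, k4⟩ := hw
  refine ⟨fun t => Subring.add_mem _ (h1 t) (k1 t), ?_, ?_, ?_⟩
  · have : (v + w) 0 - (v + w) 1 = (v 0 - v 1) + (w 0 - w 1) := by simp only [Pi.add_apply]; abel
    rw [this]
    exact leftIdeal_add h2 k2
  · have : (v + w) 1 - (v + w) 2 = (v 1 - v 2) + (w 1 - w 2) := by simp only [Pi.add_apply]; abel
    rw [this]
    exact leftIdeal_add h3 k3
  · have : (v + w) 0 + (v + w) 1 + (v + w) 2 = (v 0 + v 1 + v 2) + (w 0 + w 1 + w 2) := by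
      simp only [Pi.add_apply]; abel
    rw [this]
    exact leftIdeal_add h4 k4

theorem leech_neg {v : Fin 3 → ℍ[ℝ]} (hv : v ∈ icoLeech) : -v ∈ icoLeech := by
  obtain ⟨h1, h2, h3, h4⟩ := hv
  refine ⟨fun t => Subring.neg_mem _ (h1 t), ?_, ?_, ?_⟩
  · have : (-v) 0 - (-v) 1 = -(v 0 - v 1) := by simp only [Pi.neg_apply]; abel
    rw [this]
    exact leftIdeal_neg h2
  · have : (-v) 1 - (-v) 2 = -(v 1 - v 2) := by simp only [Pi.neg_apply]; abel
    rw [this]
    exact leftIdeal_neg h3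
  · have : (-v) 0 + (-v) 1 + (-v) 2 = -(v 0 + v 1 + v 2) := by simp only [Pi.neg_apply]; abel
    rw [this]
    exact leftIdeal_neg h4

theorem leech_sub {v w : Fin 3 → ℍ[ℝ]} (hv : v ∈ icoLeech) (hw : w ∈ icoLeech) :
    v - w ∈ icoLeech := by
  rw [sub_eq_add_neg]
  exact leech_add hv (leech_neg hw)

theorem leech_zero : (0 : Fin 3 → ℍ[ℝ]) ∈ icoLeech := by
  refine ⟨fun t => Subring.zero_mem _, ?_, ?_, ?_⟩ <;> simp only [Pi.zero_apply, sub_zero, add_zero] <;>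
    exact leftIdeal_zero _

theorem leech_lsm {a : ℍ[ℝ]} (ha : a ∈ icosians) {v : Fin 3 → ℍ[ℝ]} (hv : v ∈ icoLeech) :
    lsm a v ∈ icoLeech := by
  obtain ⟨h1, h2, h3, h4⟩ := hv
  refine ⟨fun t => Subring.mul_mem _ ha (h1 t), ?_, ?_, ?_⟩
  · have : lsm a v 0 - lsm a v 1 = a * (v 0 - v 1) := by simp only [lsm]; rw [mul_sub]
    rw [this]
    exact leftIdeal_mul ha h2
  · have : lsm a v 1 - lsm a v 2 = a * (v 1 - v 2) := by simp only [lsm]; rw [mul_sub]
    rw [this]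
    exact leftIdeal_mul ha h3
  · have : lsm a v 0 + lsm a v 1 + lsm a v 2 = a * (v 0 + v 1 + v 2) := by
      simp only [lsm]; rw [mul_add, mul_add]
    rw [this]
    exact leftIdeal_mul ha h4

/-! ### the three generators -/

/-- `e = (1, -1, h̄)` -/
noncomputable def eV3 : Fin 3 → ℍ[ℝ] := ![1, -1, star icoH]

/-- `f = (0, h, -h)` -/
noncomputable def fV3 : Fin 3 → ℍ[ℝ] := ![0, icoH, -icoH]

/-- `g = (0, 0, 2)` -/
noncomputable def gV3 : Fin 3 → ℍ[ℝ] := ![0, 0, 2]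

theorem val_W0m_mul : val W0m * icoH = 1 + star icoH := by
  rw [← val_Hb, ← val_Hm, val_mul (z := oneM.add Hb) (by decide), val_add, val_oneM]

theorem W0m_mem : val W0m ∈ icosians := val_mem_of_inL2 (by decide)

theorem eV3_mem : eV3 ∈ icoLeech := by
  refine ⟨?_, ?_, ?_, ?_⟩
  · intro t
    fin_cases t
    · exact Subring.one_mem _
    · exact Subring.neg_mem _ (Subring.one_mem _)
    · exact star_h_mem
  · refine ⟨star icoH, star_h_mem, ?_⟩
    rw [star_mul_h]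
    simp [eV3]
    norm_num
  · refine ⟨-val W0m, Subring.neg_mem _ W0m_mem, ?_⟩
    rw [neg_mul, val_W0m_mul]
    simp [eV3]
    abel
  · refine ⟨1, Subring.one_mem _, ?_⟩
    simp [eV3]

theorem fV3_mem : fV3 ∈ icoLeech := by
  refine ⟨?_, ?_, ?_, ?_⟩
  · intro t
    fin_cases t
    · exact Subring.zero_mem _
    · exact h_mem
    · exact Subring.neg_mem _ h_mem
  · refine ⟨-1, Subring.neg_mem _ (Subring.one_mem _), ?_⟩
    simp [fV3]
  · refine ⟨2, two_mem, ?_⟩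
    simp [fV3]
    rw [two_mul]
  · refine ⟨0, Subring.zero_mem _, ?_⟩
    simp [fV3]

theorem gV3_mem : gV3 ∈ icoLeech := by
  refine ⟨?_, ?_, ?_, ?_⟩
  · intro t
    fin_cases t
    · exact Subring.zero_mem _
    · exact Subring.zero_mem _
    · exact two_mem
  · refine ⟨0, Subring.zero_mem _, ?_⟩
    simp [gV3]
  · refine ⟨-star icoH, Subring.neg_mem _ star_h_mem, ?_⟩
    rw [neg_mul, star_mul_h]
    simp [gV3]
  · refine ⟨icoH, h_mem, ?_⟩
    rw [h_mul_star]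
    simp [gV3]

/-- if `m h ∈ I h̄` then `m ∈ I h̄` -/
theorem exists_of_mul_h {m d : ℍ[ℝ]} (hm : m ∈ icosians) (hd : d ∈ icosians)
    (h : m * icoH = d * star icoH) : ∃ c ∈ icosians, m = c * star icoH := by
  refine ⟨(-(Real.sqrt 5) : ℝ) • (d + m) - (2 : ℝ) • (m * icoH), ?_, ?_⟩
  · refine Subring.sub_mem _ ?_ ?_
    · rw [neg_smul]
      exact Subring.neg_mem _ (sqrt5_smul_mem (Subring.add_mem _ hd hm))
    · rw [two_smul]
      exact Subring.add_mem _ (Subring.mul_mem _ hm h_mem) (Subring.mul_mem _ hm h_mem)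
  · have h5 : Real.sqrt 5 * Real.sqrt 5 = 5 := Real.mul_self_sqrt (by norm_num)
    have e1 : (d + m) * star icoH = m * (icoH + star icoH) := by
      rw [add_mul, mul_add, h]
    have e2 : m * icoH * star icoH = (2 : ℝ) • m := by
      rw [mul_assoc, h_mul_star, two_smul, mul_two]
    rw [sub_mul, smul_mul_assoc, smul_mul_assoc, e1, e2, h_add_star, mul_smul_comm, mul_one,
      smul_smul, smul_smul]
    have : -Real.sqrt 5 * -Real.sqrt 5 = 5 := by rw [neg_mul_neg, h5]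
    rw [this, ← sub_smul]
    norm_num

/-- **The lattice is generated by `e, f, g` over the icosians.** -/
theorem exists_efg {v : Fin 3 → ℍ[ℝ]} (hv : v ∈ icoLeech) :
    ∃ a ∈ icosians, ∃ b ∈ icosians, ∃ c ∈ icosians, v = lsm a eV3 + lsm b fV3 + lsm c gV3 := by
  obtain ⟨h1, ⟨p, hp, h2⟩, ⟨q, hq, h3⟩, ⟨r, hr, h4⟩⟩ := hv
  -- b
  have hb : v 0 * star icoH - p ∈ icosians :=
    Subring.sub_mem _ (Subring.mul_mem _ (h1 0) star_h_mem) hp
  have hy : v 1 + v 0 = (v 0 * star icoH - p) * icoH := by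
    rw [sub_mul, mul_assoc, star_mul_h, ← h2]
    rw [mul_two]
    abel
  -- b'
  have hb' : v 0 * star icoH - p - q - v 0 * val W0m ∈ icosians :=
    Subring.sub_mem _ (Subring.sub_mem _ hb hq) (Subring.mul_mem _ (h1 0) W0m_mem)
  have hz : v 2 - v 0 * star icoH = (v 0 * star icoH - p - q - v 0 * val W0m) * icoH := by
    rw [sub_mul, sub_mul, ← hy, ← h3, mul_assoc, val_W0m_mul, mul_add, mul_one]
    abel
  -- sum
  have hsum : ((v 0 * star icoH - p) + (v 0 * star icoH - p - q - v 0 * val W0m)) * icoH =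
      (r - v 0) * star icoH := by
    rw [add_mul, ← hy, ← hz, sub_mul, ← h4]
    abel
  obtain ⟨c, hc, hc2⟩ := exists_of_mul_h (Subring.add_mem _ hb hb') (Subring.sub_mem _ hr (h1 0)) hsum
  refine ⟨v 0, h1 0, _, hb, c, hc, ?_⟩
  funext t
  fin_cases t
  · simp [lsm, eV3, fV3, gV3]
  · simp only [lsm, eV3, fV3, gV3, Pi.add_apply]
    simp
    rw [← hy]
    abel
  · simp only [lsm, eV3, fV3, gV3, Pi.add_apply]
    simp
    have h2c : c * 2 = ((v 0 * star icoH - p) + (v 0 * star icoH - p - q - v 0 * val W0m)) * icoH := by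
      rw [hc2, mul_assoc, star_mul_h]
    rw [h2c, add_mul, ← hz, ← hy]
    abel

end Cfsg.Agent.Lib.H3.J2
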