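/-
helper3 library (J2 icosian family): vectors with three coordinates in the model, the Hermitian
product, and the real-quaternion algebra of the quaternionic reflections.
-/
import Cfsg.Agent.Lib.H3.J2.Leech

set_option autoImplicit false
set_option maxRecDepth 100000

namespace Cfsg.Agent.Lib.H3.J2

open Quaternion Cfsg.Spor

/-- three model quaternions -/
structure V3 where
  /-- coordinate -/ x : Q
  /-- coordinate -/ y : Q
  /-- coordinate -/ z : Q
deriving DecidableEq

/-- the real vector of a model vector (doubled coordinates) -/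
noncomputable def valV (V : V3) : Fin 3 → ℍ[ℝ] := ![val V.x, val V.y, val V.z]

@[simp] theorem valV_zero (V : V3) : valV V 0 = val V.x := rfl

@[simp] theorem valV_one (V : V3) : valV V 1 = val V.y := rfl

@[simp] theorem valV_two (V : V3) : valV V 2 = val V.z := rfl

theorem valV_injective : Function.Injective valV := by
  intro V W h
  have h0 := congrFun h 0
  have h1 := congrFun h 1
  have h2 := congrFun h 2
  simp only [valV_zero, valV_one, valV_two] at h0 h1 h2
  cases V; cases W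
  simp only [V3.mk.injEq]
  exact ⟨val_injective h0, val_injective h1, val_injective h2⟩

namespace V3

/-- sum -/
def add (V W : V3) : V3 := ⟨V.x.add W.x, V.y.add W.y, V.z.add W.z⟩

/-- difference -/
def sub (V W : V3) : V3 := ⟨V.x.sub W.x, V.y.sub W.y, V.z.sub W.z⟩

/-- negative -/
def neg (V : V3) : V3 := ⟨V.x.neg, V.y.neg, V.z.neg⟩

end V3

/-- the Hermitian product in the model (four times the real one) -/
def qipM (V W : V3) : Q := ((V.x.mul W.x.conj).add (V.y.mul W.y.conj)).add (V.z.mul W.z.conj)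

theorem val_mul_star (x y : Q) : val x * star (val y) = (1 / 4 : ℝ) • φ (x.mul y.conj) := by
  unfold val
  rw [φ_mul, φ_conj, Quaternion.star_smul, smul_mul_smul_comm]
  norm_num

theorem qip_valV (V W : V3) : qip (valV V) (valV W) = (1 / 4 : ℝ) • φ (qipM V W) := by
  unfold qip qipM
  rw [Fin.sum_univ_three, φ_add, φ_add, smul_add, smul_add, ← val_mul_star, ← val_mul_star,
    ← val_mul_star]
  rfl

/-! ### algebra of the Hermitian product -/

theorem qip_add_left (x y r : Fin 3 → ℍ[ℝ]) : qip (x + y) r = qip x r + qip y r := by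
  unfold qip
  rw [← Finset.sum_add_distrib]
  refine Finset.sum_congr rfl fun t _ => ?_
  rw [Pi.add_apply, add_mul]

theorem qip_add_right (x r s : Fin 3 → ℍ[ℝ]) : qip x (r + s) = qip x r + qip x s := by
  unfold qip
  rw [← Finset.sum_add_distrib]
  refine Finset.sum_congr rfl fun t _ => ?_
  rw [Pi.add_apply, star_add, mul_add]

theorem qip_neg_left (x r : Fin 3 → ℍ[ℝ]) : qip (-x) r = -qip x r := by
  unfold qip
  rw [← Finset.sum_neg_distrib]
  refine Finset.sum_congr rfl fun t _ => ?_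
  rw [Pi.neg_apply, neg_mul]

theorem qip_neg_right (x r : Fin 3 → ℍ[ℝ]) : qip x (-r) = -qip x r := by
  unfold qip
  rw [← Finset.sum_neg_distrib]
  refine Finset.sum_congr rfl fun t _ => ?_
  rw [Pi.neg_apply, star_neg, mul_neg]

theorem qip_sub_left (x y r : Fin 3 → ℍ[ℝ]) : qip (x - y) r = qip x r - qip y r := by
  rw [sub_eq_add_neg, qip_add_left, qip_neg_left, sub_eq_add_neg]

theorem qip_sub_right (x r s : Fin 3 → ℍ[ℝ]) : qip x (r - s) = qip x r - qip x s := by
  rw [sub_eq_add_neg, qip_add_right, qip_neg_right, sub_eq_add_neg]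

theorem qip_lsm_left (a : ℍ[ℝ]) (x r : Fin 3 → ℍ[ℝ]) : qip (lsm a x) r = a * qip x r := by
  unfold qip lsm
  rw [Finset.mul_sum]
  refine Finset.sum_congr rfl fun t _ => ?_
  rw [mul_assoc]

theorem qip_lsm_right (a : ℍ[ℝ]) (x r : Fin 3 → ℍ[ℝ]) : qip x (lsm a r) = qip x r * star a := by
  unfold qip lsm
  rw [Finset.sum_mul]
  refine Finset.sum_congr rfl fun t _ => ?_
  rw [star_mul, mul_assoc]

theorem star_qip (x r : Fin 3 → ℍ[ℝ]) : star (qip x r) = qip r x := by
  unfold qip
  rw [star_sum]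
  refine Finset.sum_congr rfl fun t _ => ?_
  rw [star_mul, star_star]

theorem lsm_add (a : ℍ[ℝ]) (x y : Fin 3 → ℍ[ℝ]) : lsm a (x + y) = lsm a x + lsm a y := by
  funext t
  simp only [lsm, Pi.add_apply, mul_add]

theorem lsm_sub (a : ℍ[ℝ]) (x y : Fin 3 → ℍ[ℝ]) : lsm a (x - y) = lsm a x - lsm a y := by
  funext t
  simp only [lsm, Pi.sub_apply, mul_sub]

theorem lsm_lsm (a b : ℍ[ℝ]) (x : Fin 3 → ℍ[ℝ]) : lsm a (lsm b x) = lsm (a * b) x := by
  funext t
  simp only [lsm, mul_assoc]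

theorem lsm_one (x : Fin 3 → ℍ[ℝ]) : lsm 1 x = x := by
  funext t
  simp only [lsm, one_mul]

theorem add_lsm (a b : ℍ[ℝ]) (x : Fin 3 → ℍ[ℝ]) : lsm (a + b) x = lsm a x + lsm b x := by
  funext t
  simp only [lsm, Pi.add_apply, add_mul]

/-- the reflection as: subtract a multiple of `r` -/
theorem qrefl_eq (r x : Fin 3 → ℍ[ℝ]) : qrefl r x = x - lsm ((1 / 2 : ℝ) • qip x r) r := by
  funext t
  simp only [qrefl, lsm, Pi.sub_apply]

theorem qrefl_add (r x y : Fin 3 → ℍ[ℝ]) : qrefl r (x + y) = qrefl r x + qrefl r y := by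
  rw [qrefl_eq, qrefl_eq, qrefl_eq, qip_add_left, smul_add, add_lsm]
  abel

theorem qrefl_lsm (a : ℍ[ℝ]) (r x : Fin 3 → ℍ[ℝ]) : qrefl r (lsm a x) = lsm a (qrefl r x) := by
  rw [qrefl_eq, qrefl_eq, qip_lsm_left, lsm_sub, lsm_lsm, mul_smul_comm]

/-- the Hermitian product with the mirror vector changes sign -/
theorem qip_qrefl_self {r : Fin 3 → ℍ[ℝ]} (hr : qip r r = 4) (x : Fin 3 → ℍ[ℝ]) :
    qip (qrefl r x) r = -qip x r := by
  rw [qrefl_eq, qip_sub_left, qip_lsm_left, hr, smul_mul_assoc]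
  have : qip x r * 4 = (4 : ℝ) • qip x r := by
    rw [show (4 : ℍ[ℝ]) = ((4 : ℝ) : ℍ[ℝ]) by norm_cast, Quaternion.mul_coe_eq_smul]
  rw [this, smul_smul]
  norm_num
  rw [two_smul]
  abel

theorem qrefl_qrefl {r : Fin 3 → ℍ[ℝ]} (hr : qip r r = 4) (x : Fin 3 → ℍ[ℝ]) :
    qrefl r (qrefl r x) = x := by
  rw [qrefl_eq r (qrefl r x), qip_qrefl_self hr, smul_neg, qrefl_eq]
  funext t
  simp only [lsm, Pi.sub_apply, neg_mul]
  abel

/-- reflections preserve the Hermitian product -/
theorem qip_qrefl {r : Fin 3 → ℍ[ℝ]} (hr : qip r r = 4) (x y : Fin 3 → ℍ[ℝ]) :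
    qip (qrefl r x) (qrefl r y) = qip x y := by
  rw [qrefl_eq r y, qip_sub_right, qip_lsm_right, qip_qrefl_self hr, qrefl_eq r x, qip_sub_left,
    qip_lsm_left, Quaternion.star_smul, star_qip, smul_mul_assoc, mul_smul_comm, neg_mul, smul_neg]
  abel

end Cfsg.Agent.Lib.H3.J2
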