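/-
helper3 library (J2 icosian family): integrality of the Hermitian product on the icosian Leech
lattice, the reflections as permutations of the lattice, linear isometries, conjugation formula.
-/
import Cfsg.Agent.Lib.H3.J2.Vec

set_option autoImplicit false
set_option maxRecDepth 100000

namespace Cfsg.Agent.Lib.H3.J2

open Quaternion Cfsg.Spor

/-- the model of `e` -/
def eM : V3 := ⟨oneM, oneM.neg, Hb⟩

/-- the model of `f` -/
def fM : V3 := ⟨Q.zero, Hm, Hm.neg⟩

/-- the model of `g` -/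
def gM : V3 := ⟨Q.zero, Q.zero, twoM⟩

theorem valV_eM : valV eM = eV3 := by
  funext t
  fin_cases t
  · exact val_oneM
  · show val oneM.neg = -1
    rw [val_neg, val_oneM]
  · exact val_Hb

theorem valV_fM : valV fM = fV3 := by
  funext t
  fin_cases t
  · exact val_zero
  · exact val_Hm
  · show val Hm.neg = -icoH
    rw [val_neg, val_Hm]

theorem valV_gM : valV gM = gV3 := by
  funext t
  fin_cases t
  · exact val_zero
  · exact val_zero
  · exact val_twoM

/-- the three generators -/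
def gens3 : List V3 := [eM, fM, gM]

theorem gram_ok : ∀ B ∈ gens3, ∀ B' ∈ gens3,
    inL2 (qipM B B').hlf.hlf = true ∧ (qipM B B').hlf.hlf.dbl.dbl = qipM B B' := by decide

/-- the Hermitian product of two vectors is twice an icosian -/
def Even2 (v w : Fin 3 → ℍ[ℝ]) : Prop := ∃ c ∈ icosians, qip v w = c + c

theorem even2_gens : ∀ B ∈ gens3, ∀ B' ∈ gens3, Even2 (valV B) (valV B') := by
  intro B hB B' hB'
  obtain ⟨h1, h2⟩ := gram_ok B hB B' hB'
  refine ⟨val (qipM B B').hlf.hlf, val_mem_of_inL2 h1, ?_⟩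
  have e1 : φ (qipM B B') = (4 : ℝ) • φ (qipM B B').hlf.hlf := by
    conv_lhs => rw [← h2]
    rw [Q.dbl, φ_add, Q.dbl, φ_add, ← two_smul ℝ, ← two_smul ℝ, smul_smul]
    norm_num
  rw [qip_valV, e1, smul_smul]
  unfold val
  rw [← add_smul]
  norm_num

theorem even2_add_left {v v' w : Fin 3 → ℍ[ℝ]} (h : Even2 v w) (h' : Even2 v' w) :
    Even2 (v + v') w := by
  obtain ⟨c, hc, e⟩ := h
  obtain ⟨c', hc', e'⟩ := h'
  refine ⟨c + c', Subring.add_mem _ hc hc', ?_⟩
  rw [qip_add_left, e, e']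
  abel

theorem even2_add_right {v w w' : Fin 3 → ℍ[ℝ]} (h : Even2 v w) (h' : Even2 v w') :
    Even2 v (w + w') := by
  obtain ⟨c, hc, e⟩ := h
  obtain ⟨c', hc', e'⟩ := h'
  refine ⟨c + c', Subring.add_mem _ hc hc', ?_⟩
  rw [qip_add_right, e, e']
  abel

theorem even2_lsm_left {a : ℍ[ℝ]} (ha : a ∈ icosians) {v w : Fin 3 → ℍ[ℝ]} (h : Even2 v w) :
    Even2 (lsm a v) w := by
  obtain ⟨c, hc, e⟩ := h
  exact ⟨a * c, Subring.mul_mem _ ha hc, by rw [qip_lsm_left, e, mul_add]⟩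

theorem even2_lsm_right {a : ℍ[ℝ]} (ha : a ∈ icosians) {v w : Fin 3 → ℍ[ℝ]} (h : Even2 v w) :
    Even2 v (lsm a w) := by
  obtain ⟨c, hc, e⟩ := h
  exact ⟨c * star a, Subring.mul_mem _ hc (star_mem ha), by rw [qip_lsm_right, e, add_mul]⟩

theorem gens3_vals : ∀ B ∈ gens3, valV B = eV3 ∨ valV B = fV3 ∨ valV B = gV3 := by
  intro B hB
  simp only [gens3, List.mem_cons, List.not_mem_nil, or_false] at hB
  rcases hB with rfl | rfl | rfl
  · exact Or.inl valV_eM
  · exact Or.inr (Or.inl valV_fM)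
  · exact Or.inr (Or.inr valV_gM)

/-- **Integrality.** -/
theorem even2_of_mem {v w : Fin 3 → ℍ[ℝ]} (hv : v ∈ icoLeech) (hw : w ∈ icoLeech) : Even2 v w := by
  have hbase : ∀ B ∈ gens3, ∀ v ∈ icoLeech, Even2 v (valV B) := by
    intro B hB v hv
    obtain ⟨a, ha, b, hb, c, hc, rfl⟩ := exists_efg hv
    refine even2_add_left (even2_add_left ?_ ?_) ?_
    · rw [← valV_eM]
      exact even2_lsm_left ha (even2_gens _ (by decide) _ hB)
    · rw [← valV_fM]
      exact even2_lsm_left hb (even2_gens _ (by decide) _ hB)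
    · rw [← valV_gM]
      exact even2_lsm_left hc (even2_gens _ (by decide) _ hB)
  obtain ⟨a, ha, b, hb, c, hc, rfl⟩ := exists_efg hw
  refine even2_add_right (even2_add_right ?_ ?_) ?_
  · rw [← valV_eM]
    exact even2_lsm_right ha (hbase _ (by decide) v hv)
  · rw [← valV_fM]
    exact even2_lsm_right hb (hbase _ (by decide) v hv)
  · rw [← valV_gM]
    exact even2_lsm_right hc (hbase _ (by decide) v hv)

/-- the reflection maps the lattice to itself -/
theorem qrefl_mem {r x : Fin 3 → ℍ[ℝ]} (hr : r ∈ icoLeech) (hx : x ∈ icoLeech) :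
    qrefl r x ∈ icoLeech := by
  obtain ⟨c, hc, e⟩ := even2_of_mem hx hr
  rw [qrefl_eq, e, ← two_smul ℝ, smul_smul]
  norm_num
  exact leech_sub hx (leech_lsm hc hr)

/-- the reflection in a minimal vector, as a permutation of the lattice -/
noncomputable def reflPerm (r : Fin 3 → ℍ[ℝ]) (hr : r ∈ icoLeech) (h4 : qip r r = 4) :
    Equiv.Perm icoLeech where
  toFun x := ⟨qrefl r x, qrefl_mem hr x.2⟩
  invFun x := ⟨qrefl r x, qrefl_mem hr x.2⟩
  left_inv x := Subtype.ext (qrefl_qrefl h4 x)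
  right_inv x := Subtype.ext (qrefl_qrefl h4 x)

theorem reflPerm_apply (r : Fin 3 → ℍ[ℝ]) (hr : r ∈ icoLeech) (h4 : qip r r = 4) (x : icoLeech) :
    ((reflPerm r hr h4 x : icoLeech) : Fin 3 → ℍ[ℝ]) = qrefl r x := rfl

theorem isIcoReflection_reflPerm (r : Fin 3 → ℍ[ℝ]) (hr : r ∈ icoLeech) (h4 : qip r r = 4) :
    IsIcoReflection (reflPerm r hr h4) :=
  ⟨⟨r, hr⟩, h4, fun _ => rfl⟩

theorem exists_reflPerm_of_isIcoReflection {f : Equiv.Perm icoLeech} (hf : IsIcoReflection f) :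
    ∃ (r : Fin 3 → ℍ[ℝ]) (hr : r ∈ icoLeech) (h4 : qip r r = 4), f = reflPerm r hr h4 := by
  obtain ⟨r, h4, h⟩ := hf
  refine ⟨r, r.2, h4, ?_⟩
  ext x : 1
  apply Subtype.ext
  rw [h x, reflPerm_apply]

theorem reflPerm_mul_self (r : Fin 3 → ℍ[ℝ]) (hr : r ∈ icoLeech) (h4 : qip r r = 4) :
    reflPerm r hr h4 * reflPerm r hr h4 = 1 := by
  ext x : 1
  apply Subtype.ext
  rw [Equiv.Perm.mul_apply, reflPerm_apply, reflPerm_apply, qrefl_qrefl h4]
  rfl

theorem reflPerm_inv (r : Fin 3 → ℍ[ℝ]) (hr : r ∈ icoLeech) (h4 : qip r r = 4) :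
    (reflPerm r hr h4)⁻¹ = reflPerm r hr h4 :=
  inv_eq_of_mul_eq_one_left (reflPerm_mul_self r hr h4)

theorem reflPerm_mem (r : Fin 3 → ℍ[ℝ]) (hr : r ∈ icoLeech) (h4 : qip r r = 4) :
    reflPerm r hr h4 ∈ twoJ2 :=
  Subgroup.subset_closure (isIcoReflection_reflPerm r hr h4)

/-! ### linear isometries of the lattice -/

/-- sum of lattice vectors -/
noncomputable def ladd (x y : icoLeech) : icoLeech := ⟨x + y, leech_add x.2 y.2⟩

/-- multiple of a lattice vector by an icosian -/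
noncomputable def lmul (a : icosians) (x : icoLeech) : icoLeech := ⟨lsm a x, leech_lsm a.2 x.2⟩

/-- a permutation of the lattice which is additive, linear over the icosians and preserves the
Hermitian product -/
structure IsLin (g : Equiv.Perm icoLeech) : Prop where
  /-- additive -/
  add : ∀ x y, g (ladd x y) = ladd (g x) (g y)
  /-- linear -/
  mul : ∀ a x, g (lmul a x) = lmul a (g x)
  /-- isometry -/
  ip : ∀ x y : icoLeech, qip (g x : Fin 3 → ℍ[ℝ]) (g y) = qip (x : Fin 3 → ℍ[ℝ]) y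

theorem isLin_one : IsLin 1 := ⟨fun _ _ => rfl, fun _ _ => rfl, fun _ _ => rfl⟩

theorem IsLin.mul' {g k : Equiv.Perm icoLeech} (hg : IsLin g) (hk : IsLin k) : IsLin (g * k) := by
  refine ⟨fun x y => ?_, fun a x => ?_, fun x y => ?_⟩
  · rw [Equiv.Perm.mul_apply, hk.add, hg.add]
    rfl
  · rw [Equiv.Perm.mul_apply, hk.mul, hg.mul]
    rfl
  · rw [Equiv.Perm.mul_apply, Equiv.Perm.mul_apply, hg.ip, hk.ip]

theorem IsLin.inv {g : Equiv.Perm icoLeech} (hg : IsLin g) : IsLin g⁻¹ := by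
  refine ⟨fun x y => ?_, fun a x => ?_, fun x y => ?_⟩
  · apply g.injective
    rw [hg.add]
    simp
  · apply g.injective
    rw [hg.mul]
    simp
  · have := hg.ip (g⁻¹ x) (g⁻¹ y)
    simp at this
    exact this.symm

theorem isLin_reflPerm (r : Fin 3 → ℍ[ℝ]) (hr : r ∈ icoLeech) (h4 : qip r r = 4) :
    IsLin (reflPerm r hr h4) := by
  refine ⟨fun x y => ?_, fun a x => ?_, fun x y => ?_⟩
  · apply Subtype.ext
    exact qrefl_add r x y
  · apply Subtype.ext
    exact qrefl_lsm a r x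
  · exact qip_qrefl h4 x y

theorem isLin_of_mem {g : Equiv.Perm icoLeech} (hg : g ∈ twoJ2) : IsLin g := by
  unfold twoJ2 at hg
  induction hg using Subgroup.closure_induction with
  | mem f hf =>
    obtain ⟨r, hr, h4, rfl⟩ := exists_reflPerm_of_isIcoReflection hf
    exact isLin_reflPerm r hr h4
  | one => exact isLin_one
  | mul x y _ _ hx hy => exact hx.mul' hy
  | inv x _ hx => exact hx.inv

/-- the image of a minimal vector under a linear isometry -/
theorem IsLin.ip_self {g : Equiv.Perm icoLeech} (hg : IsLin g) (r : icoLeech)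
    (h4 : qip (r : Fin 3 → ℍ[ℝ]) r = 4) : qip (g r : Fin 3 → ℍ[ℝ]) (g r) = 4 := by
  rw [hg.ip, h4]

theorem lsm_half_qip_mem {x r : Fin 3 → ℍ[ℝ]} (hx : x ∈ icoLeech) (hr : r ∈ icoLeech) :
    (1 / 2 : ℝ) • qip x r ∈ icosians := by
  obtain ⟨c, hc, e⟩ := even2_of_mem hx hr
  rw [e, ← two_smul ℝ, smul_smul]
  norm_num
  exact hc

/-- **Conjugation formula.** -/
theorem IsLin.conj_reflPerm {g : Equiv.Perm icoLeech} (hg : IsLin g) (r : icoLeech)
    (h4 : qip (r : Fin 3 → ℍ[ℝ]) r = 4) :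
    g * reflPerm r r.2 h4 * g⁻¹ = reflPerm (g r) (g r).2 (hg.ip_self r h4) := by
  ext x : 1
  apply Subtype.ext
  rw [Equiv.Perm.mul_apply, Equiv.Perm.mul_apply, reflPerm_apply]
  -- the reflection of g⁻¹ x
  set y := g⁻¹ x with hy
  have hxy : x = g y := by rw [hy]; simp
  have h1 : (reflPerm r r.2 h4 y : icoLeech) =
      ladd y (lmul ⟨-((1 / 2 : ℝ) • qip (y : Fin 3 → ℍ[ℝ]) r), Subring.neg_mem _ (lsm_half_qip_mem y.2 r.2)⟩ r) := by
    apply Subtype.ext
    rw [reflPerm_apply, qrefl_eq]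
    funext t
    simp only [ladd, lmul, lsm, Pi.add_apply, Pi.sub_apply, neg_mul]
    abel
  rw [h1, hg.add, hg.mul, hxy, qrefl_eq, hg.ip]
  funext t
  simp only [ladd, lmul, lsm, Pi.add_apply, Pi.sub_apply, neg_mul]
  abel

end Cfsg.Agent.Lib.H3.J2
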