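/-
helper3 library (J2 icosian family): decidable description of the minimal vectors of the icosian
Leech lattice in the model.
-/
import Cfsg.Agent.Lib.H3.J2.Refl

set_option autoImplicit false
set_option maxRecDepth 100000

namespace Cfsg.Agent.Lib.H3.J2

open Quaternion Cfsg.Spor

namespace Q

/-- rational part of four times the norm -/
def nP (x : Q) : ℤ :=
  x.a0 * x.a0 + x.b0 * x.b0 + x.a1 * x.a1 + x.b1 * x.b1 + x.a2 * x.a2 + x.b2 * x.b2 + x.a3 * x.a3 +
    x.b3 * x.b3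

/-- `τ`-part of four times the norm -/
def nT (x : Q) : ℤ :=
  (x.b0 * x.b0 + 2 * x.a0 * x.b0) + (x.b1 * x.b1 + 2 * x.a1 * x.b1) + (x.b2 * x.b2 + 2 * x.a2 * x.b2) +
    (x.b3 * x.b3 + 2 * x.a3 * x.b3)

theorem mul_conj_self (x : Q) : x.mul x.conj = ⟨x.nP, x.nT, 0, 0, 0, 0, 0, 0⟩ := by
  cases x
  simp only [mul, conj, nP, nT, Q.mk.injEq]
  refine ⟨?_, ?_, ?_, ?_, ?_, ?_, ?_, ?_⟩ <;> ring

theorem dbl_dbl_hlf_hlf (x : Q) : x.dbl.dbl.hlf.hlf = x := by
  cases x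
  simp only [dbl, add, hlf, Q.mk.injEq]
  refine ⟨?_, ?_, ?_, ?_, ?_, ?_, ?_, ?_⟩ <;> omega

theorem dbl_hlf (x : Q) : x.dbl.hlf = x := by
  cases x
  simp only [dbl, add, hlf, Q.mk.injEq]
  refine ⟨?_, ?_, ?_, ?_, ?_, ?_, ?_, ?_⟩ <;> omega

theorem nP_nonneg (x : Q) : 0 ≤ x.nP := by
  unfold nP
  nlinarith [mul_self_nonneg x.a0, mul_self_nonneg x.b0, mul_self_nonneg x.a1, mul_self_nonneg x.b1,
    mul_self_nonneg x.a2, mul_self_nonneg x.b2, mul_self_nonneg x.a3, mul_self_nonneg x.b3]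

theorem eq_zero_of_nP (x : Q) (h : x.nP = 0) : x = zero := by
  cases x with
  | mk a0 b0 a1 b1 a2 b2 a3 b3 =>
    simp only [nP] at h
    simp only [zero, Q.mk.injEq]
    refine ⟨?_, ?_, ?_, ?_, ?_, ?_, ?_, ?_⟩ <;> nlinarith [mul_self_nonneg a0, mul_self_nonneg b0,
      mul_self_nonneg a1, mul_self_nonneg b1, mul_self_nonneg a2, mul_self_nonneg b2,
      mul_self_nonneg a3, mul_self_nonneg b3]

end Q

theorem φ_dbl (x : Q) : φ x.dbl = (2 : ℝ) • φ x := by
  unfold Q.dbl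
  rw [φ_add, two_smul]

/-- the model of `8` (as the product `h̄ h`) -/
theorem Hb_mul_Hm : Hb.mul Hm = ⟨8, 0, 0, 0, 0, 0, 0, 0⟩ := by decide

theorem Hm_mul_Hb : Hm.mul Hb = ⟨8, 0, 0, 0, 0, 0, 0, 0⟩ := by decide

theorem φ_eight : φ ⟨8, 0, 0, 0, 0, 0, 0, 0⟩ = 8 := by
  ext
  · simp
    rfl
  · simp
    rfl
  · simp
    rfl
  · simp
    rfl

/-- membership of a doubled icosian in the left ideal generated by `h` -/
def inIh (W : Q) : Bool :=
  decide ((W.mul Hb).hlf.hlf.dbl.dbl = W.mul Hb) && inL2 (W.mul Hb).hlf.hlf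

/-- membership of a doubled icosian in the left ideal generated by `h̄` -/
def inIhb (W : Q) : Bool :=
  decide ((W.mul Hm).hlf.hlf.dbl.dbl = W.mul Hm) && inL2 (W.mul Hm).hlf.hlf

theorem eight_smul_eq (q : ℍ[ℝ]) : q * 8 = (8 : ℝ) • q := by
  rw [show (8 : ℍ[ℝ]) = ((8 : ℝ) : ℍ[ℝ]) by norm_cast, Quaternion.mul_coe_eq_smul]

/-- general form: `W ∈ I k` where `k k' = 8` in the model -/
theorem ideal_iff_aux (K K' : Q) (hKK' : K'.mul K = ⟨8, 0, 0, 0, 0, 0, 0, 0⟩)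
    (hK'K : K.mul K' = ⟨8, 0, 0, 0, 0, 0, 0, 0⟩) (W : Q) :
    (decide ((W.mul K').hlf.hlf.dbl.dbl = W.mul K') && inL2 (W.mul K').hlf.hlf) = true ↔
      val W ∈ leftIdeal (val K) := by
  rw [Bool.and_eq_true, decide_eq_true_eq]
  constructor
  · rintro ⟨h1, h2⟩
    refine ⟨val (W.mul K').hlf.hlf, val_mem_of_inL2 h2, ?_⟩
    have e1 : φ (W.mul K') = (4 : ℝ) • φ (W.mul K').hlf.hlf := by
      conv_lhs => rw [← h1]
      rw [φ_dbl, φ_dbl, smul_smul]
      norm_num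
    have e2 : φ W * φ K' * φ K = (8 : ℝ) • φ W := by
      rw [mul_assoc, ← φ_mul K' K, hKK', φ_eight, eight_smul_eq]
    rw [← φ_mul, e1, smul_mul_assoc] at e2
    unfold val
    rw [smul_mul_smul_comm]
    have e3 : φ (W.mul K').hlf.hlf * φ K = (2 : ℝ) • φ W := by
      have := congrArg (fun q => (1 / 4 : ℝ) • q) e2
      simp only [smul_smul] at this
      norm_num at this
      exact this
    rw [e3, smul_smul]
    norm_num
  · rintro ⟨a, ha, e⟩
    obtain ⟨A, hA, rfl⟩ := exists_of_mem_icosians ha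
    have e1 : W.mul K' = A.dbl.dbl := by
      apply φ_injective
      rw [φ_mul, φ_dbl, φ_dbl, smul_smul]
      unfold val at e
      rw [smul_mul_smul_comm] at e
      have e2 : φ W = (1 / 2 : ℝ) • (φ A * φ K) := by
        have := congrArg (fun q => (2 : ℝ) • q) e
        simp only [smul_smul] at this
        norm_num at this
        rw [this]
      rw [e2, smul_mul_assoc, mul_assoc, ← φ_mul K K', hK'K, φ_eight, eight_smul_eq, smul_smul]
      norm_num
    rw [e1, Q.dbl_dbl_hlf_hlf]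
    exact ⟨rfl, hA⟩

theorem inIh_iff (W : Q) : inIh W = true ↔ val W ∈ leftIdeal icoH := by
  rw [← val_Hm]
  exact ideal_iff_aux Hm Hb Hb_mul_Hm Hm_mul_Hb W

theorem inIhb_iff (W : Q) : inIhb W = true ↔ val W ∈ leftIdeal (star icoH) := by
  rw [← val_Hb]
  exact ideal_iff_aux Hb Hm Hm_mul_Hb Hb_mul_Hm W

/-- membership in the lattice, in the model -/
def inLeech (V : V3) : Bool :=
  inL2 V.x && inL2 V.y && inL2 V.z && inIh (V.x.sub V.y) && inIh (V.y.sub V.z) &&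
    inIhb ((V.x.add V.y).add V.z)

theorem inLeech_iff (V : V3) : inLeech V = true ↔ valV V ∈ icoLeech := by
  unfold inLeech icoLeech
  simp only [Bool.and_eq_true, Set.mem_ofPred_eq, inIh_iff, inIhb_iff, val_sub, val_add, valV_zero,
    valV_one, valV_two]
  constructor
  · rintro ⟨⟨⟨⟨⟨h1, h2⟩, h3⟩, h4⟩, h5⟩, h6⟩
    refine ⟨?_, h4, h5, h6⟩
    intro t
    fin_cases t
    · exact val_mem_of_inL2 h1
    · exact val_mem_of_inL2 h2
    · exact val_mem_of_inL2 h3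
  · rintro ⟨h1, h4, h5, h6⟩
    have key : ∀ X : Q, val X ∈ icosians → inL2 X = true := by
      intro X hX
      obtain ⟨Y, hY, e⟩ := exists_of_mem_icosians hX
      rw [val_injective e]
      exact hY
    exact ⟨⟨⟨⟨⟨key _ (h1 0), key _ (h1 1)⟩, key _ (h1 2)⟩, h4⟩, h5⟩, h6⟩

theorem exists_model_of_mem {v : Fin 3 → ℍ[ℝ]} (hv : v ∈ icoLeech) : ∃ V : V3, v = valV V := by
  obtain ⟨X, -, hX⟩ := exists_of_mem_icosians (hv.1 0)
  obtain ⟨Y, -, hY⟩ := exists_of_mem_icosians (hv.1 1)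
  obtain ⟨Z, -, hZ⟩ := exists_of_mem_icosians (hv.1 2)
  refine ⟨⟨X, Y, Z⟩, ?_⟩
  funext t
  fin_cases t
  · exact hX
  · exact hY
  · exact hZ

namespace V3

/-- the rational part of four times the norm -/
def nP (V : V3) : ℤ := V.x.nP + V.y.nP + V.z.nP

/-- the `τ`-part of four times the norm -/
def nT (V : V3) : ℤ := V.x.nT + V.y.nT + V.z.nT

end V3

theorem qipM_self (V : V3) : qipM V V = ⟨V.nP, V.nT, 0, 0, 0, 0, 0, 0⟩ := by
  unfold qipM
  rw [Q.mul_conj_self, Q.mul_conj_self, Q.mul_conj_self]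
  simp only [Q.add, V3.nP, V3.nT, add_zero]

theorem qip_self_eq_four_iff (V : V3) : qip (valV V) (valV V) = 4 ↔ V.nP = 16 ∧ V.nT = 0 := by
  rw [qip_valV, qipM_self]
  constructor
  · intro h
    have h1 : φ ⟨V.nP, V.nT, 0, 0, 0, 0, 0, 0⟩ = φ ⟨16, 0, 0, 0, 0, 0, 0, 0⟩ := by
      have := congrArg (fun q => (4 : ℝ) • q) h
      simp only [smul_smul] at this
      norm_num at this
      rw [this]
      ext
      · simp
        show (4 : ℝ) * 4 = 16
        norm_num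
      · simp
        rfl
      · simp
        rfl
      · simp
        rfl
    have h2 := φ_injective h1
    simp only [Q.mk.injEq] at h2
    exact ⟨h2.1, h2.2.1⟩
  · rintro ⟨h1, h2⟩
    rw [h1, h2]
    ext
    · simp
      show (4 : ℝ)⁻¹ * 16 = 4
      norm_num
    · simp
      rfl
    · simp
      rfl
    · simp
      rfl

/-- a minimal vector of the lattice, in the model -/
def Valid (V : V3) : Prop := inLeech V = true ∧ V.nP = 16 ∧ V.nT = 0

instance (V : V3) : Decidable (Valid V) := by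
  unfold Valid
  infer_instance

theorem valid_iff (V : V3) : Valid V ↔ valV V ∈ icoLeech ∧ qip (valV V) (valV V) = 4 := by
  unfold Valid
  rw [inLeech_iff, qip_self_eq_four_iff]

theorem exists_valid {v : Fin 3 → ℍ[ℝ]} (hv : v ∈ icoLeech) (h4 : qip v v = 4) :
    ∃ V : V3, Valid V ∧ v = valV V := by
  obtain ⟨V, rfl⟩ := exists_model_of_mem hv
  exact ⟨V, (valid_iff V).mpr ⟨hv, h4⟩, rfl⟩

end Cfsg.Agent.Lib.H3.J2
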