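/-
helper3 library (J2 icosian family): complete lists of the doubled icosians of given small norm,
by a search which is complete by construction.
-/
import Cfsg.Agent.Lib.H3.J2.Valid

set_option autoImplicit false
set_option maxRecDepth 100000

namespace Cfsg.Agent.Lib.H3.J2

/-- the possible coordinates -/
def cs9 : List ℤ := [-4, -3, -2, -1, 0, 1, 2, 3, 4]

/-- integer lists with prescribed parities and prescribed sum of squares -/
def sqsP : List ℤ → ℤ → List (List ℤ)
  | [], rem => if rem = 0 then [[]] else []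
  | π :: πs, rem =>
    cs9.flatMap fun c =>
      if c % 2 = π ∧ c * c ≤ rem then (sqsP πs (rem - c * c)).map (c :: ·) else []

/-- sum of squares -/
def ssq : List ℤ → ℤ
  | [] => 0
  | c :: l => c * c + ssq l

theorem ssq_nonneg : ∀ l : List ℤ, 0 ≤ ssq l
  | [] => le_refl _
  | c :: l => by
    have := ssq_nonneg l
    simp only [ssq]
    nlinarith [mul_self_nonneg c]

theorem mem_cs9 {c : ℤ} (h : c * c ≤ 16) : c ∈ cs9 := by
  have h1 : -4 ≤ c := by nlinarith
  have h2 : c ≤ 4 := by nlinarith
  simp only [cs9, List.mem_cons, List.not_mem_nil, or_false]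
  omega

theorem mem_sqsP : ∀ (πs l : List ℤ) (rem : ℤ), rem ≤ 16 →
    List.Forall₂ (fun c π => c % 2 = π) l πs → ssq l = rem → l ∈ sqsP πs rem
  | [], l, rem, _, hf, hs => by
    cases hf
    simp only [ssq] at hs
    simp [sqsP, ← hs]
  | π :: πs, l, rem, hrem, hf, hs => by
    cases hf with
    | cons hc hl =>
      rename_i c l'
      simp only [ssq] at hs
      have hnn := ssq_nonneg l'
      have hcc : c * c ≤ rem := by linarith
      simp only [sqsP, List.mem_flatMap]
      refine ⟨c, mem_cs9 (by linarith), ?_⟩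
      rw [if_pos ⟨hc, hcc⟩]
      refine List.mem_map.mpr ⟨l', ?_, rfl⟩
      exact mem_sqsP πs l' _ (by nlinarith [mul_self_nonneg c]) hl (by linarith)

namespace Q

/-- the coordinates as a list -/
def toL (x : Q) : List ℤ := [x.a0, x.b0, x.a1, x.b1, x.a2, x.b2, x.a3, x.b3]

/-- a list of eight coordinates as a model quaternion -/
def ofL : List ℤ → Q
  | [a0, b0, a1, b1, a2, b2, a3, b3] => ⟨a0, b0, a1, b1, a2, b2, a3, b3⟩
  | _ => zero

theorem ofL_toL (x : Q) : ofL x.toL = x := rfl

theorem ssq_toL (x : Q) : ssq x.toL = x.nP := by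
  simp only [toL, ssq, nP]
  ring

end Q

/-- the doubled icosians with `nP = p` -/
def shell (p : ℤ) : List Q := codeQ.flatMap fun κ => (sqsP κ.toL p).map Q.ofL

/-- **Completeness of the shells.** -/
theorem mem_shell {x : Q} (hx : inL2 x = true) {p : ℤ} (hp : p ≤ 16) (h : x.nP = p) : x ∈ shell p := by
  rw [inL2_iff] at hx
  unfold shell
  refine List.mem_flatMap.mpr ⟨x.kap, hx, List.mem_map.mpr ⟨x.toL, ?_, Q.ofL_toL x⟩⟩
  apply mem_sqsP _ _ _ hp _ (by rw [Q.ssq_toL, h])
  simp only [Q.toL, Q.kap]
  repeat first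
    | exact List.Forall₂.nil
    | refine List.Forall₂.cons rfl ?_

end Cfsg.Agent.Lib.H3.J2
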