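/-
helper3 library (J2 icosian family): arithmetic of the model quaternions modulo `2^16` with natural
numbers (fast in the kernel), and its relation to the integer model.
-/
import Cfsg.Agent.Lib.H3.J2.Shell

set_option autoImplicit false
set_option maxRecDepth 100000

namespace Cfsg.Agent.Lib.H3.J2

/-- the modulus -/
abbrev MM : ℕ := 65536

/-- eight residues modulo `2^16` -/
structure QN where
  /-- coordinate -/ a0 : ℕ
  /-- coordinate -/ b0 : ℕ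
  /-- coordinate -/ a1 : ℕ
  /-- coordinate -/ b1 : ℕ
  /-- coordinate -/ a2 : ℕ
  /-- coordinate -/ b2 : ℕ
  /-- coordinate -/ a3 : ℕ
  /-- coordinate -/ b3 : ℕ
deriving DecidableEq

/-- residue of an integer -/
def encZ (a : ℤ) : ℕ := (a % 65536).toNat

/-- the residues of a model quaternion -/
def enc (x : Q) : QN :=
  ⟨encZ x.a0, encZ x.b0, encZ x.a1, encZ x.b1, encZ x.a2, encZ x.b2, encZ x.a3, encZ x.b3⟩

theorem cast_encZ (a : ℤ) : ((encZ a : ℕ) : ZMod 65536) = ((a : ℤ) : ZMod 65536) := by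
  unfold encZ
  have h : (0 : ℤ) ≤ a % 65536 := Int.emod_nonneg _ (by norm_num)
  have h2 : (((a % 65536).toNat : ℕ) : ℤ) = a % 65536 := Int.toNat_of_nonneg h
  rw [← Int.cast_natCast, h2]
  exact_mod_cast ZMod.intCast_mod a 65536

theorem encZ_eq_of_cast {A : ℕ} {Z : ℤ} (h : (A : ZMod 65536) = ((Z : ℤ) : ZMod 65536)) :
    A % 65536 = encZ Z := by
  unfold encZ
  have h1 : (((A : ℕ) : ℤ) : ZMod 65536) = ((Z : ℤ) : ZMod 65536) := by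
    rw [Int.cast_natCast]
    exact h
  have h2 := (ZMod.intCast_eq_intCast_iff _ _ _).mp h1
  have h3 : ((A : ℤ)) % 65536 = Z % 65536 := h2
  rw [← h3]
  omega

theorem neg_one_num : (65535 : ZMod 65536) = -1 := by
  decide

namespace QN

/-- sum -/
def add (x y : QN) : QN :=
  ⟨(x.a0 + y.a0) % 65536, (x.b0 + y.b0) % 65536, (x.a1 + y.a1) % 65536, (x.b1 + y.b1) % 65536,
    (x.a2 + y.a2) % 65536, (x.b2 + y.b2) % 65536, (x.a3 + y.a3) % 65536, (x.b3 + y.b3) % 65536⟩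

/-- negative -/
def neg (x : QN) : QN :=
  ⟨(65535 * x.a0) % 65536, (65535 * x.b0) % 65536, (65535 * x.a1) % 65536, (65535 * x.b1) % 65536,
    (65535 * x.a2) % 65536, (65535 * x.b2) % 65536, (65535 * x.a3) % 65536, (65535 * x.b3) % 65536⟩

/-- difference -/
def sub (x y : QN) : QN :=
  ⟨(x.a0 + 65535 * y.a0) % 65536, (x.b0 + 65535 * y.b0) % 65536, (x.a1 + 65535 * y.a1) % 65536,
    (x.b1 + 65535 * y.b1) % 65536, (x.a2 + 65535 * y.a2) % 65536, (x.b2 + 65535 * y.b2) % 65536,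
    (x.a3 + 65535 * y.a3) % 65536, (x.b3 + 65535 * y.b3) % 65536⟩

/-- conjugate -/
def conj (x : QN) : QN :=
  ⟨x.a0 % 65536, x.b0 % 65536, (65535 * x.a1) % 65536, (65535 * x.b1) % 65536, (65535 * x.a2) % 65536,
    (65535 * x.b2) % 65536, (65535 * x.a3) % 65536, (65535 * x.b3) % 65536⟩

/-- multiple by a natural number -/
def smul (n : ℕ) (x : QN) : QN :=
  ⟨(n * x.a0) % 65536, (n * x.b0) % 65536, (n * x.a1) % 65536, (n * x.b1) % 65536, (n * x.a2) % 65536,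
    (n * x.b2) % 65536, (n * x.a3) % 65536, (n * x.b3) % 65536⟩

/-- product -/
def mul (x y : QN) : QN where
  a0 := (((x.a0 * y.a0) + (x.b0 * y.b0)) + (65535 * ((((x.a1 * y.a1) + (x.b1 * y.b1)) + ((x.a2 * y.a2) + (x.b2 * y.b2))) + ((x.a3 * y.a3) + (x.b3 * y.b3))))) % 65536
  b0 := ((((x.a0 * y.b0) + (x.b0 * y.a0)) + (x.b0 * y.b0)) + (65535 * (((((x.a1 * y.b1) + (x.b1 * y.a1)) + (x.b1 * y.b1)) + (((x.a2 * y.b2) + (x.b2 * y.a2)) + (x.b2 * y.b2))) + (((x.a3 * y.b3) + (x.b3 * y.a3)) + (x.b3 * y.b3))))) % 65536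
  a1 := (((((x.a0 * y.a1) + (x.b0 * y.b1)) + ((x.a1 * y.a0) + (x.b1 * y.b0))) + ((x.a2 * y.a3) + (x.b2 * y.b3))) + (65535 * ((x.a3 * y.a2) + (x.b3 * y.b2)))) % 65536
  b1 := ((((((x.a0 * y.b1) + (x.b0 * y.a1)) + (x.b0 * y.b1)) + (((x.a1 * y.b0) + (x.b1 * y.a0)) + (x.b1 * y.b0))) + (((x.a2 * y.b3) + (x.b2 * y.a3)) + (x.b2 * y.b3))) + (65535 * (((x.a3 * y.b2) + (x.b3 * y.a2)) + (x.b3 * y.b2)))) % 65536
  a2 := (((((x.a0 * y.a2) + (x.b0 * y.b2)) + ((x.a2 * y.a0) + (x.b2 * y.b0))) + ((x.a3 * y.a1) + (x.b3 * y.b1))) + (65535 * ((x.a1 * y.a3) + (x.b1 * y.b3)))) % 65536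
  b2 := ((((((x.a0 * y.b2) + (x.b0 * y.a2)) + (x.b0 * y.b2)) + (((x.a2 * y.b0) + (x.b2 * y.a0)) + (x.b2 * y.b0))) + (((x.a3 * y.b1) + (x.b3 * y.a1)) + (x.b3 * y.b1))) + (65535 * (((x.a1 * y.b3) + (x.b1 * y.a3)) + (x.b1 * y.b3)))) % 65536
  a3 := (((((x.a0 * y.a3) + (x.b0 * y.b3)) + ((x.a1 * y.a2) + (x.b1 * y.b2))) + ((x.a3 * y.a0) + (x.b3 * y.b0))) + (65535 * ((x.a2 * y.a1) + (x.b2 * y.b1)))) % 65536
  b3 := ((((((x.a0 * y.b3) + (x.b0 * y.a3)) + (x.b0 * y.b3)) + (((x.a1 * y.b2) + (x.b1 * y.a2)) + (x.b1 * y.b2))) + (((x.a3 * y.b0) + (x.b3 * y.a0)) + (x.b3 * y.b0))) + (65535 * (((x.a2 * y.b1) + (x.b2 * y.a1)) + (x.b2 * y.b1)))) % 65536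

/-- product, written with the functions the kernel evaluates directly -/
def mulF (x y : QN) : QN where
  a0 := Nat.mod (Nat.add (Nat.add (Nat.mul x.a0 y.a0) (Nat.mul x.b0 y.b0)) (Nat.mul 65535 (Nat.add (Nat.add (Nat.add (Nat.mul x.a1 y.a1) (Nat.mul x.b1 y.b1)) (Nat.add (Nat.mul x.a2 y.a2) (Nat.mul x.b2 y.b2))) (Nat.add (Nat.mul x.a3 y.a3) (Nat.mul x.b3 y.b3))))) 65536
  b0 := Nat.mod (Nat.add (Nat.add (Nat.add (Nat.mul x.a0 y.b0) (Nat.mul x.b0 y.a0)) (Nat.mul x.b0 y.b0)) (Nat.mul 65535 (Nat.add (Nat.add (Nat.add (Nat.add (Nat.mul x.a1 y.b1) (Nat.mul x.b1 y.a1)) (Nat.mul x.b1 y.b1)) (Nat.add (Nat.add (Nat.mul x.a2 y.b2) (Nat.mul x.b2 y.a2)) (Nat.mul x.b2 y.b2))) (Nat.add (Nat.add (Nat.mul x.a3 y.b3) (Nat.mul x.b3 y.a3)) (Nat.mul x.b3 y.b3))))) 65536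
  a1 := Nat.mod (Nat.add (Nat.add (Nat.add (Nat.add (Nat.mul x.a0 y.a1) (Nat.mul x.b0 y.b1)) (Nat.add (Nat.mul x.a1 y.a0) (Nat.mul x.b1 y.b0))) (Nat.add (Nat.mul x.a2 y.a3) (Nat.mul x.b2 y.b3))) (Nat.mul 65535 (Nat.add (Nat.mul x.a3 y.a2) (Nat.mul x.b3 y.b2)))) 65536
  b1 := Nat.mod (Nat.add (Nat.add (Nat.add (Nat.add (Nat.add (Nat.mul x.a0 y.b1) (Nat.mul x.b0 y.a1)) (Nat.mul x.b0 y.b1)) (Nat.add (Nat.add (Nat.mul x.a1 y.b0) (Nat.mul x.b1 y.a0)) (Nat.mul x.b1 y.b0))) (Nat.add (Nat.add (Nat.mul x.a2 y.b3) (Nat.mul x.b2 y.a3)) (Nat.mul x.b2 y.b3))) (Nat.mul 65535 (Nat.add (Nat.add (Nat.mul x.a3 y.b2) (Nat.mul x.b3 y.a2)) (Nat.mul x.b3 y.b2)))) 65536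
  a2 := Nat.mod (Nat.add (Nat.add (Nat.add (Nat.add (Nat.mul x.a0 y.a2) (Nat.mul x.b0 y.b2)) (Nat.add (Nat.mul x.a2 y.a0) (Nat.mul x.b2 y.b0))) (Nat.add (Nat.mul x.a3 y.a1) (Nat.mul x.b3 y.b1))) (Nat.mul 65535 (Nat.add (Nat.mul x.a1 y.a3) (Nat.mul x.b1 y.b3)))) 65536
  b2 := Nat.mod (Nat.add (Nat.add (Nat.add (Nat.add (Nat.add (Nat.mul x.a0 y.b2) (Nat.mul x.b0 y.a2)) (Nat.mul x.b0 y.b2)) (Nat.add (Nat.add (Nat.mul x.a2 y.b0) (Nat.mul x.b2 y.a0)) (Nat.mul x.b2 y.b0))) (Nat.add (Nat.add (Nat.mul x.a3 y.b1) (Nat.mul x.b3 y.a1)) (Nat.mul x.b3 y.b1))) (Nat.mul 65535 (Nat.add (Nat.add (Nat.mul x.a1 y.b3) (Nat.mul x.b1 y.a3)) (Nat.mul x.b1 y.b3)))) 65536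
  a3 := Nat.mod (Nat.add (Nat.add (Nat.add (Nat.add (Nat.mul x.a0 y.a3) (Nat.mul x.b0 y.b3)) (Nat.add (Nat.mul x.a1 y.a2) (Nat.mul x.b1 y.b2))) (Nat.add (Nat.mul x.a3 y.a0) (Nat.mul x.b3 y.b0))) (Nat.mul 65535 (Nat.add (Nat.mul x.a2 y.a1) (Nat.mul x.b2 y.b1)))) 65536
  b3 := Nat.mod (Nat.add (Nat.add (Nat.add (Nat.add (Nat.add (Nat.mul x.a0 y.b3) (Nat.mul x.b0 y.a3)) (Nat.mul x.b0 y.b3)) (Nat.add (Nat.add (Nat.mul x.a1 y.b2) (Nat.mul x.b1 y.a2)) (Nat.mul x.b1 y.b2))) (Nat.add (Nat.add (Nat.mul x.a3 y.b0) (Nat.mul x.b3 y.a0)) (Nat.mul x.b3 y.b0))) (Nat.mul 65535 (Nat.add (Nat.add (Nat.mul x.a2 y.b1) (Nat.mul x.b2 y.a1)) (Nat.mul x.b2 y.b1)))) 65536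

theorem mulF_eq (x y : QN) : mulF x y = mul x y := rfl

/-- difference, fast form -/
def subF (x y : QN) : QN :=
  ⟨Nat.mod (Nat.add x.a0 (Nat.mul 65535 y.a0)) 65536, Nat.mod (Nat.add x.b0 (Nat.mul 65535 y.b0)) 65536,
    Nat.mod (Nat.add x.a1 (Nat.mul 65535 y.a1)) 65536, Nat.mod (Nat.add x.b1 (Nat.mul 65535 y.b1)) 65536,
    Nat.mod (Nat.add x.a2 (Nat.mul 65535 y.a2)) 65536, Nat.mod (Nat.add x.b2 (Nat.mul 65535 y.b2)) 65536,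
    Nat.mod (Nat.add x.a3 (Nat.mul 65535 y.a3)) 65536, Nat.mod (Nat.add x.b3 (Nat.mul 65535 y.b3)) 65536⟩

theorem subF_eq (x y : QN) : subF x y = sub x y := rfl

/-- sum, fast form -/
def addF (x y : QN) : QN :=
  ⟨Nat.mod (Nat.add x.a0 y.a0) 65536, Nat.mod (Nat.add x.b0 y.b0) 65536,
    Nat.mod (Nat.add x.a1 y.a1) 65536, Nat.mod (Nat.add x.b1 y.b1) 65536,
    Nat.mod (Nat.add x.a2 y.a2) 65536, Nat.mod (Nat.add x.b2 y.b2) 65536,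
    Nat.mod (Nat.add x.a3 y.a3) 65536, Nat.mod (Nat.add x.b3 y.b3) 65536⟩

theorem addF_eq (x y : QN) : addF x y = add x y := rfl

/-- conjugate, fast form -/
def conjF (x : QN) : QN :=
  ⟨Nat.mod x.a0 65536, Nat.mod x.b0 65536, Nat.mod (Nat.mul 65535 x.a1) 65536, Nat.mod (Nat.mul 65535 x.b1) 65536,
    Nat.mod (Nat.mul 65535 x.a2) 65536, Nat.mod (Nat.mul 65535 x.b2) 65536, Nat.mod (Nat.mul 65535 x.a3) 65536,
    Nat.mod (Nat.mul 65535 x.b3) 65536⟩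

theorem conjF_eq (x : QN) : conjF x = conj x := rfl

/-- multiple, fast form -/
def smulF (n : ℕ) (x : QN) : QN :=
  ⟨Nat.mod (Nat.mul n x.a0) 65536, Nat.mod (Nat.mul n x.b0) 65536, Nat.mod (Nat.mul n x.a1) 65536,
    Nat.mod (Nat.mul n x.b1) 65536, Nat.mod (Nat.mul n x.a2) 65536, Nat.mod (Nat.mul n x.b2) 65536,
    Nat.mod (Nat.mul n x.a3) 65536, Nat.mod (Nat.mul n x.b3) 65536⟩

theorem smulF_eq (n : ℕ) (x : QN) : smulF n x = smul n x := rfl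

/-- equality test, fast form -/
def beqF (x y : QN) : Bool :=
  Nat.beq x.a0 y.a0 && Nat.beq x.b0 y.b0 && Nat.beq x.a1 y.a1 && Nat.beq x.b1 y.b1 && Nat.beq x.a2 y.a2 &&
    Nat.beq x.b2 y.b2 && Nat.beq x.a3 y.a3 && Nat.beq x.b3 y.b3

theorem beqF_iff (x y : QN) : beqF x y = true ↔ x = y := by
  cases x; cases y
  simp only [beqF, Bool.and_eq_true, Nat.beq_eq, QN.mk.injEq]
  tauto

end QN

theorem enc_add (x y : Q) : enc (x.add y) = (enc x).add (enc y) := by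
  simp only [enc, Q.add, QN.add, QN.mk.injEq]
  refine ⟨?_, ?_, ?_, ?_, ?_, ?_, ?_, ?_⟩ <;>
  · symm
    apply encZ_eq_of_cast
    push_cast [cast_encZ]
    ring

theorem enc_sub (x y : Q) : enc (x.sub y) = (enc x).sub (enc y) := by
  simp only [enc, Q.sub, QN.sub, QN.mk.injEq]
  refine ⟨?_, ?_, ?_, ?_, ?_, ?_, ?_, ?_⟩ <;>
  · symm
    apply encZ_eq_of_cast
    push_cast [cast_encZ]
    simp only [neg_one_num]
    ring

theorem enc_neg (x : Q) : enc x.neg = (enc x).neg := by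
  simp only [enc, Q.neg, QN.neg, QN.mk.injEq]
  refine ⟨?_, ?_, ?_, ?_, ?_, ?_, ?_, ?_⟩ <;>
  · symm
    apply encZ_eq_of_cast
    push_cast [cast_encZ]
    simp only [neg_one_num]
    ring

theorem enc_conj (x : Q) : enc x.conj = (enc x).conj := by
  simp only [enc, Q.conj, QN.conj, QN.mk.injEq]
  refine ⟨?_, ?_, ?_, ?_, ?_, ?_, ?_, ?_⟩ <;>
  · symm
    apply encZ_eq_of_cast
    push_cast [cast_encZ]
    try simp only [neg_one_num]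
    try ring

theorem enc_smul (n : ℕ) (x : Q) : enc (Q.smul n x) = (enc x).smul n := by
  simp only [enc, Q.smul, QN.smul, QN.mk.injEq]
  refine ⟨?_, ?_, ?_, ?_, ?_, ?_, ?_, ?_⟩ <;>
  · symm
    apply encZ_eq_of_cast
    push_cast [cast_encZ]
    ring

theorem enc_mul (x y : Q) : enc (x.mul y) = (enc x).mul (enc y) := by
  simp only [enc, Q.mul, QN.mul, QN.mk.injEq]
  refine ⟨?_, ?_, ?_, ?_, ?_, ?_, ?_, ?_⟩ <;>
  · symm
    apply encZ_eq_of_cast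
    push_cast [cast_encZ]
    simp only [neg_one_num]
    ring

end Cfsg.Agent.Lib.H3.J2
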