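/-
helper3 library (J2 icosian family): bounds for the coordinates of model quaternions, and the
injectivity of the residues on bounded elements.
-/
import Cfsg.Agent.Lib.H3.J2.Fast

set_option autoImplicit false
set_option maxRecDepth 100000

namespace Cfsg.Agent.Lib.H3.J2

namespace Q

/-- all coordinates are at most `B` in absolute value -/
def bd (B : ℤ) (x : Q) : Prop :=
  (-B ≤ x.a0 ∧ x.a0 ≤ B) ∧ (-B ≤ x.b0 ∧ x.b0 ≤ B) ∧ (-B ≤ x.a1 ∧ x.a1 ≤ B) ∧ (-B ≤ x.b1 ∧ x.b1 ≤ B) ∧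
    (-B ≤ x.a2 ∧ x.a2 ≤ B) ∧ (-B ≤ x.b2 ∧ x.b2 ≤ B) ∧ (-B ≤ x.a3 ∧ x.a3 ≤ B) ∧ (-B ≤ x.b3 ∧ x.b3 ≤ B)

instance (B : ℤ) (x : Q) : Decidable (bd B x) := by
  unfold bd
  infer_instance

theorem bd_mono {B C : ℤ} (h : B ≤ C) {x : Q} (hx : x.bd B) : x.bd C := by
  unfold bd at *
  omega

theorem prod_bd {a b B C : ℤ} (ha : -B ≤ a ∧ a ≤ B) (hb : -C ≤ b ∧ b ≤ C) :
    -(B * C) ≤ a * b ∧ a * b ≤ B * C := by
  have h := abs_mul a b
  have h1 : |a| ≤ B := abs_le.mpr ha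
  have h2 : |b| ≤ C := abs_le.mpr hb
  have h3 : |a| * |b| ≤ B * C := mul_le_mul h1 h2 (abs_nonneg _) (le_trans (abs_nonneg _) h1)
  exact abs_le.mp (by rw [h]; exact h3)

theorem mul_bd {x y : Q} {B C : ℤ} (hx : x.bd B) (hy : y.bd C) : (x.mul y).bd (16 * (B * C)) := by
  obtain ⟨x0, x1, x2, x3, x4, x5, x6, x7⟩ := hx
  obtain ⟨y0, y1, y2, y3, y4, y5, y6, y7⟩ := hy

  have p00 := prod_bd x0 y0
  have p01 := prod_bd x0 y1
  have p02 := prod_bd x0 y2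
  have p03 := prod_bd x0 y3
  have p04 := prod_bd x0 y4
  have p05 := prod_bd x0 y5
  have p06 := prod_bd x0 y6
  have p07 := prod_bd x0 y7
  have p10 := prod_bd x1 y0
  have p11 := prod_bd x1 y1
  have p12 := prod_bd x1 y2
  have p13 := prod_bd x1 y3
  have p14 := prod_bd x1 y4
  have p15 := prod_bd x1 y5
  have p16 := prod_bd x1 y6
  have p17 := prod_bd x1 y7
  have p20 := prod_bd x2 y0
  have p21 := prod_bd x2 y1
  have p22 := prod_bd x2 y2
  have p23 := prod_bd x2 y3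
  have p24 := prod_bd x2 y4
  have p25 := prod_bd x2 y5
  have p26 := prod_bd x2 y6
  have p27 := prod_bd x2 y7
  have p30 := prod_bd x3 y0
  have p31 := prod_bd x3 y1
  have p32 := prod_bd x3 y2
  have p33 := prod_bd x3 y3
  have p34 := prod_bd x3 y4
  have p35 := prod_bd x3 y5
  have p36 := prod_bd x3 y6
  have p37 := prod_bd x3 y7
  have p40 := prod_bd x4 y0
  have p41 := prod_bd x4 y1
  have p42 := prod_bd x4 y2
  have p43 := prod_bd x4 y3
  have p44 := prod_bd x4 y4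
  have p45 := prod_bd x4 y5
  have p46 := prod_bd x4 y6
  have p47 := prod_bd x4 y7
  have p50 := prod_bd x5 y0
  have p51 := prod_bd x5 y1
  have p52 := prod_bd x5 y2
  have p53 := prod_bd x5 y3
  have p54 := prod_bd x5 y4
  have p55 := prod_bd x5 y5
  have p56 := prod_bd x5 y6
  have p57 := prod_bd x5 y7
  have p60 := prod_bd x6 y0
  have p61 := prod_bd x6 y1
  have p62 := prod_bd x6 y2
  have p63 := prod_bd x6 y3
  have p64 := prod_bd x6 y4
  have p65 := prod_bd x6 y5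
  have p66 := prod_bd x6 y6
  have p67 := prod_bd x6 y7
  have p70 := prod_bd x7 y0
  have p71 := prod_bd x7 y1
  have p72 := prod_bd x7 y2
  have p73 := prod_bd x7 y3
  have p74 := prod_bd x7 y4
  have p75 := prod_bd x7 y5
  have p76 := prod_bd x7 y6
  have p77 := prod_bd x7 y7
  generalize B * C = D at *
  simp only [bd, mul]
  refine ⟨⟨?_, ?_⟩, ⟨?_, ?_⟩, ⟨?_, ?_⟩, ⟨?_, ?_⟩, ⟨?_, ?_⟩, ⟨?_, ?_⟩, ⟨?_, ?_⟩, ⟨?_, ?_⟩⟩ <;> omega

theorem add_bd {x y : Q} {B C : ℤ} (hx : x.bd B) (hy : y.bd C) : (x.add y).bd (B + C) := by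
  unfold bd at *
  simp only [add]
  omega

theorem sub_bd {x y : Q} {B C : ℤ} (hx : x.bd B) (hy : y.bd C) : (x.sub y).bd (B + C) := by
  unfold bd at *
  simp only [sub]
  omega

theorem neg_bd {x : Q} {B : ℤ} (hx : x.bd B) : x.neg.bd B := by
  unfold bd at *
  simp only [neg]
  omega

theorem conj_bd {x : Q} {B : ℤ} (hx : x.bd B) : x.conj.bd B := by
  unfold bd at *
  simp only [conj]
  omega

end Q

theorem encZ_inj {a b B : ℤ} (hB : 2 * B < 65536) (ha : -B ≤ a ∧ a ≤ B) (hb : -B ≤ b ∧ b ≤ B)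
    (h : encZ a = encZ b) : a = b := by
  unfold encZ at h
  omega

/-- the residues determine a bounded element -/
theorem enc_inj {x y : Q} {B : ℤ} (hB : 2 * B < 65536) (hx : x.bd B) (hy : y.bd B) (h : enc x = enc y) :
    x = y := by
  cases x; cases y
  simp only [enc, QN.mk.injEq] at h
  obtain ⟨h0, h1, h2, h3, h4, h5, h6, h7⟩ := h
  obtain ⟨x0, x1, x2, x3, x4, x5, x6, x7⟩ := hx
  obtain ⟨y0, y1, y2, y3, y4, y5, y6, y7⟩ := hy
  simp only [Q.mk.injEq]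
  exact ⟨encZ_inj hB x0 y0 h0, encZ_inj hB x1 y1 h1, encZ_inj hB x2 y2 h2, encZ_inj hB x3 y3 h3,
    encZ_inj hB x4 y4 h4, encZ_inj hB x5 y5 h5, encZ_inj hB x6 y6 h6, encZ_inj hB x7 y7 h7⟩

end Cfsg.Agent.Lib.H3.J2
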