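/-
helper3 library (J2 icosian family): completeness of the enumeration of the minimal vectors whose
first coordinate is a chosen representative.
-/
import Cfsg.Agent.Lib.H3.J2.EnumData

set_option autoImplicit false
set_option maxRecDepth 100000

namespace Cfsg.Agent.Lib.H3.J2

open Cfsg.Agent.Lib.H17.CosetCert (force force_eq)

/-! ### residues of norms -/

theorem tN_enc (x : Q) : tN (enc x) = encZ x.nT := by
  simp only [tN, tq, enc, Q.nT]
  show (_ : ℕ) % 65536 = _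
  apply encZ_eq_of_cast
  simp only [Nat.mul_eq, Nat.add_eq]
  push_cast [cast_encZ]
  ring

theorem nPN_enc (x : Q) : nPN (enc x) = encZ x.nP := by
  simp only [nPN, enc, Q.nP]
  show (_ : ℕ) % 65536 = _
  apply encZ_eq_of_cast
  simp only [Nat.mul_eq, Nat.add_eq]
  push_cast [cast_encZ]
  ring

theorem HbN_eq : HbN = enc Hb := by decide

theorem HmN_eq : HmN = enc Hm := by decide

theorem srOf_enc (W : Q) : srOf (enc W) = ⟨enc W, enc (W.mul Hb), enc (W.mul Hm), encZ W.nT⟩ := by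
  simp only [srOf, QN.mulF_eq, HbN_eq, HmN_eq, ← enc_mul, tN_enc]

/-! ### the ideal test on residues -/

theorem mod4_encZ (p : ℤ) : Nat.mod (encZ ((p + p) + (p + p))) 4 = 0 := by
  show encZ _ % 4 = 0
  unfold encZ
  omega

theorem bit2_encZ (p : ℤ) : bit2 (encZ ((p + p) + (p + p))) = (p % 2).toNat := by
  show encZ _ / 4 % 2 = _
  unfold encZ
  omega

/-- the index of a pattern -/
def idxK (κ : Q) : ℕ :=
  idxP κ.a0.toNat κ.b0.toNat κ.a1.toNat κ.b1.toNat κ.a2.toNat κ.b2.toNat κ.a3.toNat κ.b3.toNat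

theorem mask_ok : ∀ κ ∈ codeQ, Nat.beq (Nat.land (Nat.shiftRight codeMask (idxK κ)) 1) 1 = true := by
  decide +kernel

theorem okN_of (P P' : Q) (h : P'.dbl.dbl = P) (hL : inL2 P' = true) : okN (enc P) = true := by
  rw [inL2_iff] at hL
  have hm := mask_ok _ hL
  subst h
  cases P' with
  | mk a0 b0 a1 b1 a2 b2 a3 b3 =>
    simp only [Q.dbl, Q.add, enc, okN, mod4_encZ, bit2_encZ, Bool.and_eq_true]
    refine ⟨by decide, ?_⟩
    simpa only [idxK, Q.kap] using hm

theorem okN_of_inIh {W : Q} (h : inIh W = true) : okN (enc (W.mul Hb)) = true := by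
  unfold inIh at h
  rw [Bool.and_eq_true, decide_eq_true_eq] at h
  exact okN_of _ _ h.1 h.2

theorem okN_of_inIhb {W : Q} (h : inIhb W = true) : okN (enc (W.mul Hm)) = true := by
  unfold inIhb at h
  rw [Bool.and_eq_true, decide_eq_true_eq] at h
  exact okN_of _ _ h.1 h.2

namespace Q

theorem sub_mul (x y z : Q) : (x.sub y).mul z = (x.mul z).sub (y.mul z) := by
  cases x; cases y; cases z
  simp only [mul, sub, Q.mk.injEq]
  refine ⟨?_, ?_, ?_, ?_, ?_, ?_, ?_, ?_⟩ <;> ring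

theorem add_mul (x y z : Q) : (x.add y).mul z = (x.mul z).add (y.mul z) := by
  cases x; cases y; cases z
  simp only [mul, add, Q.mk.injEq]
  refine ⟨?_, ?_, ?_, ?_, ?_, ?_, ?_, ?_⟩ <;> ring

theorem mul_add (x y z : Q) : x.mul (y.add z) = (x.mul y).add (x.mul z) := by
  cases x; cases y; cases z
  simp only [mul, add, Q.mk.injEq]
  refine ⟨?_, ?_, ?_, ?_, ?_, ?_, ?_, ?_⟩ <;> ring

theorem mul_sub (x y z : Q) : x.mul (y.sub z) = (x.mul y).sub (x.mul z) := by
  cases x; cases y; cases z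
  simp only [mul, sub, Q.mk.injEq]
  refine ⟨?_, ?_, ?_, ?_, ?_, ?_, ?_, ?_⟩ <;> ring

theorem sq_mod4 (a : ℤ) : a * a % 4 = a % 2 := by
  have h : a % 2 = 0 ∨ a % 2 = 1 := by omega
  rcases h with h | h
  · obtain ⟨k, rfl⟩ : ∃ k, a = 2 * k := ⟨a / 2, by omega⟩
    have : 2 * k * (2 * k) = 4 * (k * k) := by ring
    omega
  · obtain ⟨k, rfl⟩ : ∃ k, a = 2 * k + 1 := ⟨a / 2, by omega⟩
    have : (2 * k + 1) * (2 * k + 1) = 4 * (k * k + k) + 1 := by ring
    omega

theorem code_weight : ∀ κ ∈ codeQ,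
    (κ.a0 + κ.b0 + κ.a1 + κ.b1 + κ.a2 + κ.b2 + κ.a3 + κ.b3) % 4 = 0 := by decide

/-- four divides the norm of a doubled icosian -/
theorem nP_mod4 {x : Q} (hx : inL2 x = true) : x.nP % 4 = 0 := by
  rw [inL2_iff] at hx
  have h := code_weight _ hx
  simp only [kap] at h
  unfold nP
  have h0 := sq_mod4 x.a0
  have h1 := sq_mod4 x.b0
  have h2 := sq_mod4 x.a1
  have h3 := sq_mod4 x.b1
  have h4 := sq_mod4 x.a2
  have h5 := sq_mod4 x.b2
  have h6 := sq_mod4 x.a3
  have h7 := sq_mod4 x.b3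
  omega

end Q

/-! ### the loops -/

theorem mem_mkSD {L : List (List ℕ)} {l : List ℕ} (h : l ∈ L) : srOf (ofLr l) ∈ mkSD L := by
  unfold mkSD
  refine foldA_hit ?_ ?_ L [] h
  · intro a acc x hx
    simp only [mkRec_eq]
    exact List.mem_cons_of_mem _ hx
  · intro acc
    simp only [mkRec_eq]
    exact List.mem_cons_self

theorem monoZ (a y : SR) (ayt : ℕ) (ayhm : QN) : MonoF (stepZ a y ayt ayhm) := by
  intro z acc x hx
  unfold stepZ
  cases testZ y ayt ayhm z
  · exact hx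
  · exact List.mem_cons_of_mem _ hx

theorem monoY (a : SR) (sz : List SR) : MonoF (stepY a sz) := by
  intro y acc x hx
  unfold stepY
  cases okN (QN.subF a.hb y.hb)
  · exact hx
  · simp only [cond_true, forceQ_eq, force_eq]
    exact foldA_mono (monoZ _ _ _ _) _ _ _ hx

theorem monoQ (a : SR) (rem : ℕ) (sy : List SR) : MonoF (stepQ a rem sy) := by
  intro pz acc x hx
  unfold stepQ
  cases Nat.beq pz.1 rem
  · exact hx
  · exact foldA_mono (monoY _ _) _ _ _ hx

theorem monoP (a : SR) (pa : ℕ) (shs : List (ℕ × List SR)) : MonoF (stepP a pa shs) := by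
  intro py acc x hx
  unfold stepP
  cases Nat.ble (Nat.add pa py.1) 16
  · exact hx
  · simp only [cond_true, force_eq]
    exact foldA_mono (monoQ _ _ _) _ _ _ hx

theorem monoA (shs : List (ℕ × List SR)) : MonoF (stepA shs) := by
  intro a acc x hx
  unfold stepA
  rw [force_eq]
  exact foldA_mono (monoP _ _ _) _ _ _ hx

/-- the general form of the completeness of the loops -/
theorem mem_enumAll {shs : List (ℕ × List SR)} {ca : List SR} {a y z : SR} {py pz : ℕ × List SR}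
    (ha : a ∈ ca) (hpy : py ∈ shs) (hpz : pz ∈ shs) (hy : y ∈ py.2) (hz : z ∈ pz.2)
    (hsum : nPN a.w + py.1 + pz.1 = 16) (h1 : okN (QN.subF a.hb y.hb) = true)
    (h2 : testZ y (Nat.add a.t y.t) (QN.addF a.hm y.hm) z = true) :
    ⟨a.w, y.w, z.w⟩ ∈ enumAll shs ca := by
  unfold enumAll
  refine foldA_hit (monoA shs) ?_ ca [] ha
  intro acc
  unfold stepA
  rw [force_eq]
  refine foldA_hit (monoP _ _ _) ?_ shs acc hpy
  intro acc
  unfold stepP
  have e1 : Nat.ble (Nat.add (nPN a.w) py.1) 16 = true := by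
    rw [Nat.ble_eq]
    show nPN a.w + py.1 ≤ 16
    omega
  rw [e1, cond_true, force_eq]
  refine foldA_hit (monoQ _ _ _) ?_ shs acc hpz
  intro acc
  unfold stepQ
  have e2 : Nat.beq pz.1 (Nat.sub 16 (Nat.add (nPN a.w) py.1)) = true := by
    rw [Nat.beq_eq]
    show pz.1 = 16 - (nPN a.w + py.1)
    omega
  rw [e2, cond_true]
  refine foldA_hit (monoY _ _) ?_ _ acc hy
  intro acc
  unfold stepY
  rw [h1, cond_true, forceQ_eq, force_eq]
  refine foldA_hit (monoZ _ _ _ _) ?_ _ acc hz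
  intro acc
  unfold stepZ
  rw [h2, cond_true]
  exact List.mem_cons_self

theorem mem_shells {p : ℕ} (hp : p = 0 ∨ p = 4 ∨ p = 8 ∨ p = 12) : (p, mkSD (shellA p)) ∈ shells := by
  unfold shells
  rcases hp with rfl | rfl | rfl | rfl <;> simp

theorem encZ_of_nonneg {a : ℤ} (h0 : 0 ≤ a) (h1 : a < 65536) : encZ a = a.toNat := by
  unfold encZ
  omega

theorem mem_caL {A : Q} (hA : A ∈ caQ) : (A.toL.map encZ).reverse ∈ caL :=
  List.mem_map.mpr ⟨A, hA, rfl⟩

/-- **Completeness of the enumeration** (residues). -/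
theorem mem_found {A Y Z : Q} (hA : A ∈ caQ) (hY : inL2 Y = true) (hZ : inL2 Z = true)
    (hP : A.nP + Y.nP + Z.nP = 16) (hT : A.nT + Y.nT + Z.nT = 0) (h1 : inIh (A.sub Y) = true)
    (h2 : inIh (Y.sub Z) = true) (h3 : inIhb ((A.add Y).add Z) = true) :
    (⟨enc A, enc Y, enc Z⟩ : V3N) ∈ found := by
  unfold found
  rw [withShells_eq]
  have hA0 := Q.nP_nonneg A
  have hY0 := Q.nP_nonneg Y
  have hZ0 := Q.nP_nonneg Z
  have hY4 := Q.nP_mod4 hY
  have hZ4 := Q.nP_mod4 hZ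
  have hApos : ∀ B ∈ caQ, 4 ≤ B.nP := by decide
  have hA4 := hApos A hA
  have hpy : Y.nP.toNat = 0 ∨ Y.nP.toNat = 4 ∨ Y.nP.toNat = 8 ∨ Y.nP.toNat = 12 := by omega
  have hpz : Z.nP.toNat = 0 ∨ Z.nP.toNat = 4 ∨ Z.nP.toNat = 8 ∨ Z.nP.toNat = 12 := by omega
  have hy : srOf (enc Y) ∈ mkSD (shellA Y.nP.toNat) := by
    rw [← ofLr_enc]
    exact mem_mkSD (mem_shellA hY (by omega) (by omega))
  have hz : srOf (enc Z) ∈ mkSD (shellA Z.nP.toNat) := by
    rw [← ofLr_enc]
    exact mem_mkSD (mem_shellA hZ (by omega) (by omega))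
  have ha : srOf (enc A) ∈ mkSD caL := by
    rw [← ofLr_enc]
    exact mem_mkSD (mem_caL hA)
  have key := mem_enumAll (shs := shells) (ca := mkSD caL) (a := srOf (enc A)) (y := srOf (enc Y))
    (z := srOf (enc Z)) (py := (Y.nP.toNat, mkSD (shellA Y.nP.toNat)))
    (pz := (Z.nP.toNat, mkSD (shellA Z.nP.toNat))) ha (mem_shells hpy) (mem_shells hpz) hy hz
  simp only [srOf_enc] at key
  refine key ?_ ?_ ?_
  · rw [nPN_enc, encZ_of_nonneg hA0 (by omega)]
    omega
  · rw [QN.subF_eq, ← enc_sub, ← Q.sub_mul]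
    exact okN_of_inIh h1
  · unfold testZ
    rw [Bool.and_eq_true, Bool.and_eq_true]
    refine ⟨?_, ?_, ?_⟩
    · rw [Nat.beq_eq]
      show (encZ A.nT + encZ Y.nT + encZ Z.nT) % 65536 = 0
      unfold encZ
      omega
    · rw [QN.subF_eq, ← enc_sub, ← Q.sub_mul]
      exact okN_of_inIh h2
    · rw [QN.addF_eq, QN.addF_eq, ← enc_add, ← enc_add, ← Q.add_mul, ← Q.add_mul]
      exact okN_of_inIhb h3

end Cfsg.Agent.Lib.H3.J2
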