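/-
helper3 library (J2 icosian family): every doubled icosian of norm `1`, `τ²`, `2`, ..., `4` is a unit
times a chosen representative (verified with a table).
-/
import Cfsg.Agent.Lib.H3.J2.EnumSound
import Cfsg.Agent.Lib.H3.J2.Bd

set_option autoImplicit false
set_option maxRecDepth 100000

namespace Cfsg.Agent.Lib.H3.J2

open Cfsg.Agent.Lib.H17.CosetCert (force force_eq)

/-- residues of the units -/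
def unitNL : List QN := [⟨2, 0, 0, 0, 0, 0, 0, 0⟩, ⟨0, 0, 2, 0, 0, 0, 0, 0⟩, ⟨1, 0, 1, 65535, 0, 0, 0, 1⟩, ⟨65534, 0, 0, 0, 0, 0, 0, 0⟩, ⟨65535, 1, 1, 0, 0, 1, 0, 0⟩, ⟨65535, 1, 1, 0, 0, 65535, 0, 0⟩, ⟨65535, 0, 1, 65535, 0, 0, 0, 1⟩, ⟨0, 0, 65534, 0, 0, 0, 0, 0⟩, ⟨65535, 0, 65535, 1, 0, 0, 0, 65535⟩, ⟨65535, 0, 65535, 1, 0, 0, 0, 1⟩, ⟨65535, 1, 65535, 0, 0, 1, 0, 0⟩, ⟨65535, 1, 0, 1, 0, 0, 1, 0⟩, ⟨65535, 1, 65535, 0, 0, 65535, 0, 0⟩, ⟨1, 65535, 65535, 0, 0, 65535, 0, 0⟩, ⟨1, 65535, 65535, 0, 0, 1, 0, 0⟩, ⟨1, 0, 65535, 1, 0, 0, 0, 65535⟩, ⟨0, 65535, 65535, 1, 1, 0, 0, 0⟩, ⟨1, 0, 65535, 1, 0, 0, 0, 1⟩, ⟨0, 65535, 65535, 1, 65535, 0, 0, 0⟩, ⟨0, 0, 65535, 1, 0, 1, 1, 0⟩, ⟨0, 0, 65535, 1, 0, 65535, 1, 0⟩, ⟨1, 0, 1, 65535, 0, 0, 0, 65535⟩, ⟨1, 65535, 1, 0, 0, 65535, 0,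 0⟩, ⟨1, 65535, 0, 65535, 0, 0, 65535, 0⟩, ⟨1, 65535, 1, 0, 0, 1, 0, 0⟩, ⟨1, 65535, 0, 65535, 0, 0, 1, 0⟩, ⟨1, 65535, 0, 0, 1, 0, 0, 65535⟩, ⟨1, 65535, 0, 0, 1, 0, 0, 1⟩, ⟨1, 65535, 0, 1, 0, 0, 65535, 0⟩, ⟨1, 65535, 0, 0, 65535, 0, 0, 1⟩, ⟨1, 65535, 0, 0, 65535, 0, 0, 65535⟩, ⟨1, 65535, 0, 1, 0, 0, 1, 0⟩, ⟨0, 1, 1, 65535, 65535, 0, 0, 0⟩, ⟨65535, 0, 1, 65535, 0, 0, 0, 65535⟩, ⟨0, 1, 1, 65535, 1, 0, 0, 0⟩, ⟨0, 0, 1, 65535, 0, 65535, 65535, 0⟩, ⟨0, 0, 1, 65535, 0, 1, 65535, 0⟩, ⟨0, 65535, 1, 65535, 65535, 0, 0, 0⟩, ⟨0, 0, 1, 65535, 0, 1, 1, 0⟩, ⟨0, 0, 1, 65535, 0, 65535, 1, 0⟩, ⟨0, 65535, 1, 65535, 1, 0, 0, 0⟩, ⟨1, 0, 1, 0, 1, 0, 65535, 0⟩, ⟨0, 65535, 1, 0, 0, 0, 65535, 1⟩, ⟨1, 0, 1, 0, 65535, 0, 65535, 0⟩, ⟨65535, 1, 0, 1, 0, 0, 65535, 0⟩, ⟨65535, 1, 0, 0, 65535, 0,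 0, 1⟩, ⟨65535, 1, 0, 0, 65535, 0, 0, 65535⟩, ⟨65535, 1, 0, 65535, 0, 0, 1, 0⟩, ⟨65535, 1, 0, 0, 1, 0, 0, 65535⟩, ⟨65535, 1, 0, 0, 1, 0, 0, 1⟩, ⟨65535, 1, 0, 65535, 0, 0, 65535, 0⟩, ⟨65535, 0, 1, 0, 65535, 0, 65535, 0⟩, ⟨65535, 0, 0, 65535, 65535, 1, 0, 0⟩, ⟨65535, 0, 1, 0, 65535, 0, 1, 0⟩, ⟨65535, 0, 1, 0, 1, 0, 1, 0⟩, ⟨65535, 0, 0, 65535, 1, 65535, 0, 0⟩, ⟨65535, 0, 1, 0, 1, 0, 65535, 0⟩, ⟨0, 1, 1, 0, 0, 0, 65535, 1⟩, ⟨0, 1, 65535, 1, 1, 0, 0, 0⟩, ⟨0, 0, 65535, 1, 0, 65535, 65535, 0⟩, ⟨0, 0, 65535, 1, 0, 1, 65535, 0⟩, ⟨0, 1, 65535, 1, 65535, 0, 0, 0⟩, ⟨65535, 0, 65535, 0, 65535, 0, 1, 0⟩, ⟨0, 1, 65535, 0, 0, 0, 1, 65535⟩, ⟨65535, 0, 65535, 0, 1, 0, 1, 0⟩, ⟨65535, 0, 65535, 0, 1, 0, 65535, 0⟩, ⟨0, 1, 65535, 0, 0, 0, 65535, 1⟩, ⟨65535, 0, 65535, 0, 65535, 0, 65535,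 0⟩, ⟨65535, 0, 0, 1, 65535, 1, 0, 0⟩, ⟨65535, 0, 0, 0, 0, 1, 1, 65535⟩, ⟨65535, 0, 0, 0, 0, 65535, 1, 65535⟩, ⟨65535, 0, 0, 1, 1, 65535, 0, 0⟩, ⟨1, 0, 65535, 0, 1, 0, 1, 0⟩, ⟨1, 0, 0, 1, 1, 65535, 0, 0⟩, ⟨1, 0, 65535, 0, 1, 0, 65535, 0⟩, ⟨1, 0, 65535, 0, 65535, 0, 65535, 0⟩, ⟨1, 0, 0, 1, 65535, 1, 0, 0⟩, ⟨1, 0, 65535, 0, 65535, 0, 1, 0⟩, ⟨0, 65535, 65535, 0, 0, 0, 1, 65535⟩, ⟨0, 0, 65535, 0, 1, 65535, 0, 65535⟩, ⟨0, 0, 65535, 0, 1, 65535, 0, 1⟩, ⟨0, 65535, 65535, 0, 0, 0, 65535, 1⟩, ⟨0, 0, 65535, 0, 65535, 1, 0, 1⟩, ⟨0, 0, 65535, 0, 65535, 1, 0, 65535⟩, ⟨0, 0, 0, 1, 65535, 0, 1, 65535⟩, ⟨0, 0, 0, 1, 1, 0, 1, 65535⟩, ⟨1, 0, 1, 0, 65535, 0, 1, 0⟩, ⟨0, 65535, 1, 0, 0, 0, 1, 65535⟩, ⟨1, 0, 1, 0, 1, 0, 1, 0⟩, ⟨1, 0, 0, 65535, 1, 65535, 0, 0⟩, ⟨1, 0, 0, 0, 0, 65535, 65535,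 1⟩, ⟨1, 0, 0, 0, 0, 1, 65535, 1⟩, ⟨1, 0, 0, 65535, 65535, 1, 0, 0⟩, ⟨1, 0, 0, 0, 0, 1, 1, 65535⟩, ⟨1, 0, 0, 0, 0, 65535, 1, 65535⟩, ⟨0, 65535, 0, 0, 1, 65535, 1, 0⟩, ⟨0, 65535, 0, 0, 1, 65535, 65535, 0⟩, ⟨0, 65535, 0, 0, 65535, 1, 65535, 0⟩, ⟨0, 65535, 0, 0, 65535, 1, 1, 0⟩, ⟨0, 0, 1, 0, 65535, 1, 0, 1⟩, ⟨0, 0, 1, 0, 65535, 1, 0, 65535⟩, ⟨0, 1, 1, 0, 0, 0, 1, 65535⟩, ⟨0, 0, 1, 0, 1, 65535, 0, 65535⟩, ⟨0, 0, 1, 0, 1, 65535, 0, 1⟩, ⟨0, 0, 0, 65535, 1, 0, 65535, 1⟩, ⟨0, 0, 0, 65535, 65535, 0, 65535, 1⟩, ⟨0, 0, 0, 65535, 65535, 0, 1, 65535⟩, ⟨0, 0, 0, 65535, 1, 0, 1, 65535⟩, ⟨0, 0, 0, 0, 0, 0, 65534, 0⟩, ⟨65535, 0, 0, 0, 0, 65535, 65535, 1⟩, ⟨65535, 0, 0, 0, 0, 1, 65535, 1⟩, ⟨0, 1, 0, 0, 65535, 1, 65535, 0⟩, ⟨0, 1, 0, 0, 65535, 1, 1, 0⟩, ⟨0, 1, 0, 0, 1, 65535, 1, 0⟩,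 ⟨0, 1, 0, 0, 1, 65535, 65535, 0⟩, ⟨0, 0, 0, 0, 65534, 0, 0, 0⟩, ⟨0, 0, 0, 0, 2, 0, 0, 0⟩, ⟨0, 0, 0, 1, 1, 0, 65535, 1⟩, ⟨0, 0, 0, 1, 65535, 0, 65535, 1⟩, ⟨0, 0, 0, 0, 0, 0, 2, 0⟩]

/-- residues of the chosen representatives -/
def caNL : List QN := [⟨2, 0, 0, 0, 0, 0, 0, 0⟩, ⟨1, 1, 1, 0, 0, 1, 0, 0⟩, ⟨2, 2, 0, 0, 0, 0, 0, 0⟩, ⟨2, 1, 1, 1, 1, 0, 0, 0⟩, ⟨2, 1, 1, 1, 65535, 0, 0, 0⟩, ⟨2, 1, 1, 0, 0, 0, 1, 1⟩, ⟨2, 1, 1, 0, 0, 0, 1, 65535⟩, ⟨2, 1, 1, 0, 0, 0, 65535, 1⟩, ⟨2, 1, 1, 0, 0, 0, 65535, 65535⟩, ⟨2, 1, 1, 65535, 1, 0, 0, 0⟩, ⟨2, 1, 1, 65535, 65535, 0, 0, 0⟩, ⟨2, 1, 0, 1, 0, 1, 0, 65535⟩, ⟨2, 1, 0, 0, 1, 65535, 1, 0⟩, ⟨2, 1, 0, 0, 1, 65535, 65535, 0⟩, ⟨2, 0, 2, 0, 0, 0, 0, 0⟩, ⟨2, 0, 1, 0, 1, 65535, 0, 1⟩, ⟨2, 0, 1, 0, 1, 65535, 0, 65535⟩, ⟨2, 0, 1, 0, 65535, 1,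 0, 1⟩, ⟨2, 0, 1, 0, 65535, 1, 0, 65535⟩, ⟨2, 65535, 1, 0, 0, 0, 1, 65535⟩, ⟨4, 0, 0, 0, 0, 0, 0, 0⟩, ⟨3, 0, 2, 0, 0, 1, 1, 65535⟩, ⟨3, 0, 2, 0, 0, 1, 65535, 1⟩, ⟨3, 0, 2, 0, 0, 65535, 1, 65535⟩, ⟨3, 0, 2, 0, 0, 65535, 65535, 1⟩, ⟨3, 0, 2, 65535, 1, 1, 0, 0⟩, ⟨3, 0, 2, 65535, 65535, 65535, 0, 0⟩, ⟨3, 0, 1, 1, 0, 0, 2, 65535⟩, ⟨3, 0, 1, 1, 0, 0, 65534, 1⟩, ⟨3, 0, 1, 0, 1, 0, 65535, 2⟩, ⟨3, 0, 1, 0, 1, 65534, 65535, 0⟩, ⟨3, 0, 1, 0, 65535, 2, 1, 0⟩, ⟨3, 0, 1, 0, 65535, 0, 1, 65534⟩, ⟨3, 0, 1, 65535, 2, 0, 0, 1⟩, ⟨3, 0, 1, 65535, 2, 0, 0, 65535⟩, ⟨3, 0, 1, 65535, 65534, 0, 0, 1⟩, ⟨3, 0, 1, 65535, 65534, 0, 0, 65535⟩, ⟨3, 0, 1, 65534, 1, 0, 1, 0⟩, ⟨3, 0, 1, 65534, 65535, 0, 65535, 0⟩, ⟨3, 0, 0, 1, 1, 65535, 2, 0⟩, ⟨3, 0, 0, 1, 65535, 1, 65534, 0⟩]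

theorem unitNL_eq : unitNL = unitL.map enc := by decide

theorem caNL_eq : caNL = caQ.map enc := by decide

/-- the residues of `1` -/
def oneN : QN := ⟨2, 0, 0, 0, 0, 0, 0, 0⟩

/-- the `i`-th entry of a list (with a default) -/
def getL (d : QN) (l : List QN) (i : ℕ) : QN :=
  List.rec (motive := fun _ => ℕ → QN) (fun _ => d)
    (fun a _ ih i => Nat.rec (motive := fun _ => QN) a (fun m _ => ih m) i) l i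

theorem getL_mem (d : QN) : ∀ (l : List QN) (i : ℕ), d ∈ l → getL d l i ∈ l := by
  intro l
  have key : ∀ (l' : List QN) (i : ℕ), getL d l' i = d ∨ getL d l' i ∈ l' := by
    intro l'
    induction l' with
    | nil => intro i; exact Or.inl rfl
    | cons a l' ih =>
      intro i
      cases i with
      | zero => exact Or.inr List.mem_cons_self
      | succ m =>
        rcases ih m with h | h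
        · exact Or.inl h
        · exact Or.inr (List.mem_cons_of_mem _ h)
  intro i hd
  rcases key l i with h | h
  · rw [h]; exact hd
  · exact h

/-- the test for one element -/
def chk1 (w : QN) (c : ℕ) : Bool :=
  QN.beqF (QN.mulF (getL oneN unitNL (Nat.div c 64)) (getL oneN caNL (Nat.mod c 64))) (QN.addF w w)

/-- the test for a list of elements (with the option to skip those with nonzero `τ`-part of the norm) -/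
def chkN (flt : Bool) : List (List ℕ) → List ℕ → Bool :=
  List.rec (motive := fun _ => List ℕ → Bool) (fun _ => true)
    (fun l _ ih cs => forceQ (ofLr l) fun w =>
      cond (flt && !(Nat.beq (tN w) 0)) (ih cs)
        (List.rec (motive := fun _ => Bool) false (fun c cs' _ => cond (chk1 w c) (ih cs') false) cs))

theorem chkN_cons (flt : Bool) (l : List ℕ) (L : List (List ℕ)) (cs : List ℕ) :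
    chkN flt (l :: L) cs = cond (flt && !(Nat.beq (tN (ofLr l)) 0)) (chkN flt L cs)
      (List.rec (motive := fun _ => Bool) false
        (fun c cs' _ => cond (chk1 (ofLr l) c) (chkN flt L cs') false) cs) := by
  show forceQ (ofLr l) (fun w => cond (flt && !(Nat.beq (tN w) 0)) (chkN flt L cs)
    (List.rec (motive := fun _ => Bool) false
      (fun c cs' _ => cond (chk1 w c) (chkN flt L cs') false) cs)) = _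
  rw [forceQ_eq]

theorem chkN_sound (flt : Bool) : ∀ (L : List (List ℕ)) (cs : List ℕ), chkN flt L cs = true →
    ∀ l ∈ L, (flt = true → tN (ofLr l) = 0) →
      ∃ u ∈ unitNL, ∃ a ∈ caNL, QN.mul u a = QN.add (ofLr l) (ofLr l)
  | [], _, _, l, hl, _ => by cases hl
  | l' :: L, cs, h, l, hl, ht => by
    rw [chkN_cons] at h
    by_cases hc : (flt && !(Nat.beq (tN (ofLr l')) 0)) = true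
    · rw [hc, cond_true] at h
      rcases List.mem_cons.mp hl with rfl | hl
      · exfalso
        rw [Bool.and_eq_true] at hc
        have := ht hc.1
        rw [this] at hc
        simp at hc
      · exact chkN_sound flt L cs h l hl ht
    · rw [Bool.not_eq_true] at hc
      rw [hc, cond_false] at h
      cases cs with
      | nil => exact absurd h (by simp)
      | cons c cs' =>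
        have h' : cond (chk1 (ofLr l') c) (chkN flt L cs') false = true := h
        by_cases h1 : chk1 (ofLr l') c = true
        · rw [h1, cond_true] at h'
          rcases List.mem_cons.mp hl with rfl | hl
          · unfold chk1 at h1
            rw [QN.beqF_iff] at h1
            exact ⟨_, getL_mem _ _ _ (by decide), _, getL_mem _ _ _ (by decide), h1⟩
          · exact chkN_sound flt L cs' h' l hl ht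
        · rw [Bool.not_eq_true] at h1
          rw [h1, cond_false] at h'
          exact absurd h' (by simp)

theorem chk4 : chkN false (shellA 4) normTab4 = true := by decide +kernel

theorem chk8 : chkN false (shellA 8) normTab8 = true := by decide +kernel

theorem chk16 : chkN true (shellA 16) normTab16 = true := by decide +kernel

end Cfsg.Agent.Lib.H3.J2
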