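/-
helper3 library (J2 icosian family): the minimal vectors whose first coordinate has norm
`1`, `τ²`, `σ²`, `2` or `4` are the unit multiples of the listed vectors.
-/
import Cfsg.Agent.Lib.H3.J2.NormChk

set_option autoImplicit false
set_option maxRecDepth 100000

namespace Cfsg.Agent.Lib.H3.J2

open Quaternion Cfsg.Spor

/-! ### the result of the enumeration -/

theorem found_chk : eqV3L found foundL = true := by decide +kernel

theorem V3N.beq_iff (v w : V3N) : V3N.beq v w = true ↔ v = w := by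
  cases v; cases w
  simp only [V3N.beq, Bool.and_eq_true, QN.beqF_iff, V3N.mk.injEq]
  tauto

theorem eqV3L_sound : ∀ l l' : List V3N, eqV3L l l' = true → l = l'
  | [], [], _ => rfl
  | [], _ :: _, h => Bool.noConfusion (show false = true from h)
  | _ :: _, [], h => Bool.noConfusion (show false = true from h)
  | v :: l, w :: l', h => by
    have h' : cond (V3N.beq v w) (eqV3L l l') false = true := h
    by_cases hb : V3N.beq v w = true
    · rw [hb, cond_true] at h'
      rw [(V3N.beq_iff v w).mp hb, eqV3L_sound l l' h']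
    · rw [Bool.not_eq_true] at hb
      rw [hb, cond_false] at h'
      exact absurd h' (by decide)

theorem found_eq : found = foundL := eqV3L_sound _ _ found_chk

/-- the residues of a vector -/
def encV (V : V3) : V3N := ⟨enc V.x, enc V.y, enc V.z⟩

theorem foundL_eq : foundL = rep0.map encV := by decide

theorem rep0_bd : ∀ R ∈ rep0, R.x.bd 4 ∧ R.y.bd 4 ∧ R.z.bd 4 := by decide

theorem bd_of_nP {x : Q} (h : x.nP ≤ 16) : x.bd 4 := by
  unfold Q.nP at h
  unfold Q.bd
  refine ⟨⟨?_, ?_⟩, ⟨?_, ?_⟩, ⟨?_, ?_⟩, ⟨?_, ?_⟩, ⟨?_, ?_⟩, ⟨?_, ?_⟩, ⟨?_, ?_⟩, ⟨?_, ?_⟩⟩ <;>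
    nlinarith [mul_self_nonneg x.a0, mul_self_nonneg x.b0, mul_self_nonneg x.a1, mul_self_nonneg x.b1,
      mul_self_nonneg x.a2, mul_self_nonneg x.b2, mul_self_nonneg x.a3, mul_self_nonneg x.b3]

/-- **The enumeration**: a minimal vector whose first coordinate is a chosen representative is listed. -/
theorem mem_rep0 {V : V3} (hV : Valid V) (hA : V.x ∈ caQ) : V ∈ rep0 := by
  obtain ⟨hL, hP, hT⟩ := hV
  unfold inLeech at hL
  simp only [Bool.and_eq_true] at hL
  obtain ⟨⟨⟨⟨⟨-, hy⟩, hz⟩, h1⟩, h2⟩, h3⟩ := hL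
  have hm := mem_found hA hy hz hP hT h1 h2 h3
  rw [found_eq, foundL_eq] at hm
  obtain ⟨R, hR, e⟩ := List.mem_map.mp hm
  obtain ⟨bx, bY, bz⟩ := rep0_bd R hR
  have hx0 := Q.nP_nonneg V.x
  have hy0 := Q.nP_nonneg V.y
  have hz0 := Q.nP_nonneg V.z
  unfold V3.nP at hP
  simp only [encV, V3N.mk.injEq] at e
  have ex := enc_inj (by norm_num) bx (bd_of_nP (by omega)) e.1
  have ey := enc_inj (by norm_num) bY (bd_of_nP (by omega)) e.2.1
  have ez := enc_inj (by norm_num) bz (bd_of_nP (by omega)) e.2.2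
  have : R = V := by
    cases R; cases V
    simp only [V3.mk.injEq]
    exact ⟨ex, ey, ez⟩
  rw [← this]
  exact hR

/-! ### normalisation of the first coordinate -/

theorem unitL_bd : ∀ U ∈ unitL, U.bd 2 := by decide

theorem caQ_bd : ∀ A ∈ caQ, A.bd 4 := by decide

theorem enc_dbl (W : Q) : enc W.dbl = (enc W).add (enc W) := by
  unfold Q.dbl
  rw [enc_add]

/-- a doubled icosian of one of the listed norms is a unit times a chosen representative -/
theorem exists_unit_mul {W : Q} (hW : inL2 W = true)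
    (hn : W.nP = 4 ∨ W.nP = 8 ∨ (W.nP = 16 ∧ W.nT = 0)) :
    ∃ U ∈ unitL, ∃ A ∈ caQ, U.mul A = W.dbl := by
  have key : ∃ u ∈ unitNL, ∃ a ∈ caNL, QN.mul u a = QN.add (enc W) (enc W) := by
    rw [← ofLr_enc]
    rcases hn with h | h | ⟨h, ht⟩
    · exact chkN_sound false _ _ chk4 _ (mem_shellA hW (by norm_num) (by rw [h]; rfl)) (by simp)
    · exact chkN_sound false _ _ chk8 _ (mem_shellA hW (by norm_num) (by rw [h]; rfl)) (by simp)
    · refine chkN_sound true _ _ chk16 _ (mem_shellA hW (by norm_num) (by rw [h]; rfl)) ?_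
      intro _
      rw [ofLr_enc, tN_enc, ht]
      rfl
  obtain ⟨u, hu, a, ha, e⟩ := key
  rw [unitNL_eq] at hu
  rw [caNL_eq] at ha
  obtain ⟨U, hU, rfl⟩ := List.mem_map.mp hu
  obtain ⟨A, hA, rfl⟩ := List.mem_map.mp ha
  refine ⟨U, hU, A, hA, ?_⟩
  rw [← enc_mul, ← enc_dbl] at e
  have b1 := Q.mul_bd (unitL_bd U hU) (caQ_bd A hA)
  have hW4 : W.bd 4 := bd_of_nP (by rcases hn with h | h | ⟨h, -⟩ <;> omega)
  have b2 : W.dbl.bd 8 := by
    have := Q.add_bd hW4 hW4
    exact this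
  exact enc_inj (B := 128) (by norm_num) (Q.bd_mono (by norm_num) b1) (Q.bd_mono (by norm_num) b2) e

/-! ### units -/

theorem unit_conj_mem : ∀ U ∈ unitL, U.conj ∈ unitL := by decide

theorem unit_conj_mul : ∀ U ∈ unitL, U.conj.mul U = oneM.dbl ∧ U.mul U.conj = oneM.dbl := by decide

theorem val_unit_conj_mul {U : Q} (hU : U ∈ unitL) : val U.conj * val U = 1 := by
  rw [val_mul (unit_conj_mul U hU).1, val_oneM]

theorem val_unit_mul_conj {U : Q} (hU : U ∈ unitL) : val U * val U.conj = 1 := by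
  rw [val_mul (unit_conj_mul U hU).2, val_oneM]

theorem qip_lsm_unit {U : Q} (hU : U ∈ unitL) (v : Fin 3 → ℍ[ℝ]) (h4 : qip v v = 4) :
    qip (lsm (val U) v) (lsm (val U) v) = 4 := by
  rw [qip_lsm_left, qip_lsm_right, h4, ← val_conj]
  have h : (4 : ℍ[ℝ]) = ((4 : ℝ) : ℍ[ℝ]) := by norm_cast
  rw [h, Quaternion.coe_commutes, ← mul_assoc, val_unit_mul_conj hU, one_mul]

/-- the first coordinate is of one of the listed norms -/
def good (W : Q) : Prop := W.nP = 4 ∨ W.nP = 8 ∨ W.nP = 16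

instance (W : Q) : Decidable (good W) := by
  unfold good
  infer_instance

/-- **Classification with a good first coordinate.** -/
theorem class0 {V : V3} (hV : Valid V) (hg : good V.x) :
    ∃ U ∈ unitL, ∃ R ∈ rep0, valV V = lsm (val U) (valV R) := by
  have hV' := hV
  obtain ⟨hL, hP, hT⟩ := hV
  have hL' := hL
  unfold inLeech at hL
  simp only [Bool.and_eq_true] at hL
  obtain ⟨⟨⟨⟨⟨hx, -⟩, -⟩, -⟩, -⟩, -⟩ := hL
  have hx0 := Q.nP_nonneg V.x
  have hy0 := Q.nP_nonneg V.y
  have hz0 := Q.nP_nonneg V.z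
  unfold V3.nP at hP
  unfold V3.nT at hT
  have hn : V.x.nP = 4 ∨ V.x.nP = 8 ∨ (V.x.nP = 16 ∧ V.x.nT = 0) := by
    rcases hg with h | h | h
    · exact Or.inl h
    · exact Or.inr (Or.inl h)
    · refine Or.inr (Or.inr ⟨h, ?_⟩)
      have ey := Q.eq_zero_of_nP V.y (by omega)
      have ez := Q.eq_zero_of_nP V.z (by omega)
      rw [ey, ez] at hT
      have : Q.zero.nT = 0 := by decide
      rw [this] at hT
      omega
  obtain ⟨U, hU, A, hA, e⟩ := exists_unit_mul hx hn
  have hUc := unit_conj_mem U hU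
  have hmem : lsm (val U.conj) (valV V) ∈ icoLeech :=
    leech_lsm (unit_mem _ hUc) ((inLeech_iff V).mp hL')
  have h4 : qip (lsm (val U.conj) (valV V)) (lsm (val U.conj) (valV V)) = 4 :=
    qip_lsm_unit hUc _ ((valid_iff V).mp hV').2
  obtain ⟨V', hV'v, eV'⟩ := exists_valid hmem h4
  have ex : V'.x = A := by
    apply val_injective
    have := congrFun eV' 0
    simp only [lsm, valV_zero] at this
    rw [← this, ← val_mul e, ← mul_assoc, val_unit_conj_mul hU, one_mul]
  have hR := mem_rep0 hV'v (by rw [ex]; exact hA)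
  refine ⟨U, hU, V', hR, ?_⟩
  rw [← eV', lsm_lsm, val_unit_mul_conj hU, lsm_one]

end Cfsg.Agent.Lib.H3.J2
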