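/-
helper3 library (J2 icosian family): classification of the minimal vectors of the icosian Leech
lattice: they are the unit multiples of `315` listed vectors.
-/
import Cfsg.Agent.Lib.H3.J2.Class0

set_option autoImplicit false
set_option maxRecDepth 100000

namespace Cfsg.Agent.Lib.H3.J2

open Quaternion Cfsg.Spor

/-! ### norms of products -/

namespace Q

theorem nP_mul (x y : Q) : (x.mul y).nP = x.nP * y.nP + x.nT * y.nT := by
  cases x; cases y
  simp only [Q.nP, Q.nT, Q.mul]
  ring

theorem nT_mul (x y : Q) : (x.mul y).nT = x.nP * y.nT + x.nT * y.nP + x.nT * y.nT := by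
  cases x; cases y
  simp only [Q.nP, Q.nT, Q.mul]
  ring

theorem nP_dbl (x : Q) : x.dbl.nP = 4 * x.nP := by
  cases x
  simp only [Q.nP, Q.dbl, Q.add]
  ring

theorem nT_dbl (x : Q) : x.dbl.nT = 4 * x.nT := by
  cases x
  simp only [Q.nT, Q.dbl, Q.add]
  ring

end Q

theorem unit_norm : ∀ U ∈ unitL, U.nP = 4 ∧ U.nT = 0 := by decide

/-- the converse of `val_mul` -/
theorem mul_eq_of_val {x y z : Q} (h : val x * val y = val z) : x.mul y = z.dbl := by
  apply φ_injective
  rw [φ_mul, φ_dbl]
  unfold val at h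
  rw [smul_mul_smul_comm] at h
  have := congrArg (fun q => (4 : ℝ) • q) h
  simp only [smul_smul] at this
  norm_num at this
  exact this

theorem nP_of_unit_mul {U X Y : Q} (hU : U ∈ unitL) (h : val Y = val U * val X) : Y.nP = X.nP := by
  have e := mul_eq_of_val h.symm
  have e1 := congrArg Q.nP e
  rw [Q.nP_mul, Q.nP_dbl, (unit_norm U hU).1, (unit_norm U hU).2] at e1
  omega

/-! ### permuting the coordinates -/

namespace V3

/-- exchange the first two coordinates -/
def swap01 (V : V3) : V3 := ⟨V.y, V.x, V.z⟩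

/-- exchange the first and the last coordinate -/
def swap02 (V : V3) : V3 := ⟨V.z, V.y, V.x⟩

end V3

theorem leech_swap01 {v : Fin 3 → ℍ[ℝ]} (hv : v ∈ icoLeech) : ![v 1, v 0, v 2] ∈ icoLeech := by
  obtain ⟨h0, h1, h2, h3⟩ := hv
  refine ⟨?_, ?_, ?_, ?_⟩
  · intro t
    fin_cases t
    · exact h0 1
    · exact h0 0
    · exact h0 2
  · show v 1 - v 0 ∈ _
    have := leftIdeal_neg h1
    rwa [neg_sub] at this
  · show v 0 - v 2 ∈ _
    have := leftIdeal_add h1 h2
    rwa [sub_add_sub_cancel] at this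
  · show v 1 + v 0 + v 2 ∈ _
    rwa [add_comm (v 1) (v 0)]

theorem leech_swap02 {v : Fin 3 → ℍ[ℝ]} (hv : v ∈ icoLeech) : ![v 2, v 1, v 0] ∈ icoLeech := by
  obtain ⟨h0, h1, h2, h3⟩ := hv
  refine ⟨?_, ?_, ?_, ?_⟩
  · intro t
    fin_cases t
    · exact h0 2
    · exact h0 1
    · exact h0 0
  · show v 2 - v 1 ∈ _
    have := leftIdeal_neg h2
    rwa [neg_sub] at this
  · show v 1 - v 0 ∈ _
    have := leftIdeal_neg h1
    rwa [neg_sub] at this
  · show v 2 + v 1 + v 0 ∈ _
    have e : v 2 + v 1 + v 0 = v 0 + v 1 + v 2 := by abel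
    rwa [e]

theorem qip_three (x r : Fin 3 → ℍ[ℝ]) :
    qip x r = x 0 * star (r 0) + x 1 * star (r 1) + x 2 * star (r 2) := by
  unfold qip
  rw [Fin.sum_univ_three]

theorem valid_swap01 {V : V3} (hV : Valid V) : Valid V.swap01 := by
  rw [valid_iff] at hV ⊢
  obtain ⟨h1, h2⟩ := hV
  refine ⟨leech_swap01 h1, ?_⟩
  rw [qip_three] at h2 ⊢
  rw [← h2]
  simp only [V3.swap01, valV_zero, valV_one, valV_two]
  abel

theorem valid_swap02 {V : V3} (hV : Valid V) : Valid V.swap02 := by
  rw [valid_iff] at hV ⊢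
  obtain ⟨h1, h2⟩ := hV
  refine ⟨leech_swap02 h1, ?_⟩
  rw [qip_three] at h2 ⊢
  rw [← h2]
  simp only [V3.swap02, valV_zero, valV_one, valV_two]
  abel

theorem swap01_swap01 (V : V3) : V.swap01.swap01 = V := rfl

theorem swap02_swap02 (V : V3) : V.swap02.swap02 = V := rfl

theorem lsm_swap01 {a : ℍ[ℝ]} {V R : V3} (h : valV V.swap01 = lsm a (valV R)) :
    valV V = lsm a (valV R.swap01) := by
  funext t
  have h0 := congrFun h 0
  have h1 := congrFun h 1
  have h2 := congrFun h 2
  simp only [V3.swap01, lsm, valV_zero, valV_one, valV_two] at h0 h1 h2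
  fin_cases t
  · exact h1
  · exact h0
  · exact h2

theorem lsm_swap02 {a : ℍ[ℝ]} {V R : V3} (h : valV V.swap02 = lsm a (valV R)) :
    valV V = lsm a (valV R.swap02) := by
  funext t
  have h0 := congrFun h 0
  have h1 := congrFun h 1
  have h2 := congrFun h 2
  simp only [V3.swap02, lsm, valV_zero, valV_one, valV_two] at h0 h1 h2
  fin_cases t
  · exact h2
  · exact h1
  · exact h0

/-! ### the list of representatives -/

/-- representatives whose first coordinate is not good and whose second coordinate is good -/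
def reps1 : List V3 := (rep0.filter fun R => ¬ good R.y).map V3.swap01

/-- representatives whose first two coordinates are not good -/
def reps2 : List V3 := (rep0.filter fun R => ¬ good R.y ∧ ¬ good R.z).map V3.swap02

/-- the `315` representatives of the minimal vectors up to units -/
def reps : List V3 := rep0 ++ (reps1 ++ reps2)

theorem reps_length : reps.length = 315 := by decide

theorem good_of_eq {X Y : Q} (h : Y.nP = X.nP) : good Y ↔ good X := by
  unfold good
  rw [h]

/-- **Classification of the minimal vectors** (model). -/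
theorem classify {V : V3} (hV : Valid V) : ∃ U ∈ unitL, ∃ R ∈ reps, valV V = lsm (val U) (valV R) := by
  have hV' := hV
  obtain ⟨hL, hP, hT⟩ := hV
  unfold inLeech at hL
  simp only [Bool.and_eq_true] at hL
  obtain ⟨⟨⟨⟨⟨hx, hy⟩, hz⟩, -⟩, -⟩, -⟩ := hL
  have hx0 := Q.nP_nonneg V.x
  have hy0 := Q.nP_nonneg V.y
  have hz0 := Q.nP_nonneg V.z
  have hx4 := Q.nP_mod4 hx
  have hy4 := Q.nP_mod4 hy
  have hz4 := Q.nP_mod4 hz
  unfold V3.nP at hP
  by_cases gx : good V.x
  · obtain ⟨U, hU, R, hR, e⟩ := class0 hV' gx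
    exact ⟨U, hU, R, List.mem_append_left _ hR, e⟩
  · by_cases gy : good V.y
    · obtain ⟨U, hU, R, hR, e⟩ := class0 (valid_swap01 hV') gy
      refine ⟨U, hU, R.swap01, ?_, lsm_swap01 e⟩
      refine List.mem_append_right _ (List.mem_append_left _ ?_)
      refine List.mem_map.mpr ⟨R, List.mem_filter.mpr ⟨hR, ?_⟩, rfl⟩
      rw [decide_eq_true_eq]
      have h1 := congrFun e 1
      simp only [V3.swap01, lsm, valV_one] at h1
      rwa [← good_of_eq (nP_of_unit_mul hU h1)]
    · have gz : good V.z := by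
        unfold good at *
        omega
      obtain ⟨U, hU, R, hR, e⟩ := class0 (valid_swap02 hV') gz
      refine ⟨U, hU, R.swap02, ?_, lsm_swap02 e⟩
      refine List.mem_append_right _ (List.mem_append_right _ ?_)
      refine List.mem_map.mpr ⟨R, List.mem_filter.mpr ⟨hR, ?_⟩, rfl⟩
      rw [decide_eq_true_eq]
      have h1 := congrFun e 1
      have h2 := congrFun e 2
      simp only [V3.swap02, lsm, valV_one, valV_two] at h1 h2
      rw [← good_of_eq (nP_of_unit_mul hU h1), ← good_of_eq (nP_of_unit_mul hU h2)]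
      exact ⟨gy, gx⟩

theorem reps_valid : ∀ R ∈ reps, Valid R := by decide

/-- **Classification of the minimal vectors.** -/
theorem classify_val {v : Fin 3 → ℍ[ℝ]} (hv : v ∈ icoLeech) (h4 : qip v v = 4) :
    ∃ U ∈ unitL, ∃ R ∈ reps, v = lsm (val U) (valV R) := by
  obtain ⟨V, hV, rfl⟩ := exists_valid hv h4
  exact classify hV

end Cfsg.Agent.Lib.H3.J2
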