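/-
helper3 library (J2 icosian family): the numbers of minimal vectors and of reflections of the icosian
Leech lattice.
-/
import Cfsg.Agent.Lib.H3.J2.Sep

set_option autoImplicit false
set_option maxRecDepth 100000

namespace Cfsg.Agent.Lib.H3.J2

open Quaternion Cfsg.Spor

/-! ### the reflections -/

theorem refl_set_eq : {f : Equiv.Perm icoLeech | IsIcoReflection f} = ρ '' (Finset.range 315 : Set ℕ) := by
  ext f
  constructor
  · intro hf
    obtain ⟨i, hi, rfl⟩ := exists_ρ_of_isIcoReflection hf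
    exact ⟨i, by simpa using hi, rfl⟩
  · rintro ⟨i, -, rfl⟩
    exact isIcoReflection_reflPerm _ _ _

/-- **there are exactly `315` reflections** -/
theorem ncard_refl : {f : Equiv.Perm icoLeech | IsIcoReflection f}.ncard = 315 := by
  rw [refl_set_eq, Set.InjOn.ncard_image, Set.ncard_coe_finset, Finset.card_range]
  intro i hi j hj h
  exact ρ_inj (by simpa using hi) (by simpa using hj) h

/-! ### the minimal vectors -/

/-- the `k`-th unit -/
def unitQ (k : ℕ) : Q := unitL.getD k oneM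

theorem unitQ_mem (k : ℕ) : unitQ k ∈ unitL := unit_getD_mem' k

theorem unitL_nodup : unitL.Nodup := by decide

theorem unitL_length : unitL.length = 120 := by decide

theorem exists_unitQ {U : Q} (hU : U ∈ unitL) : ∃ k < 120, unitQ k = U := by
  obtain ⟨k, hk, e⟩ := List.getElem_of_mem hU
  refine ⟨k, by rw [← unitL_length]; exact hk, ?_⟩
  unfold unitQ
  rw [List.getD_eq_getElem _ _ hk, e]

theorem unitQ_inj {k k' : ℕ} (hk : k < 120) (hk' : k' < 120) (h : unitQ k = unitQ k') : k = k' := by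
  unfold unitQ at h
  rw [List.getD_eq_getElem _ _ (by rw [unitL_length]; exact hk),
    List.getD_eq_getElem _ _ (by rw [unitL_length]; exact hk')] at h
  exact (List.Nodup.getElem_inj_iff unitL_nodup).mp h

/-- the minimal vector with given unit and line -/
noncomputable def minV (p : ℕ × ℕ) : Fin 3 → ℍ[ℝ] := lsm (val (unitQ p.1)) (rv p.2)

theorem minV_mem (p : ℕ × ℕ) : minV p ∈ icoLeech := leech_lsm (unit_mem _ (unitQ_mem _)) (rv p.2).2

theorem minV_four (p : ℕ × ℕ) : qip (minV p) (minV p) = 4 := qip_lsm_unit (unitQ_mem _) _ (rv_four _)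

theorem rv_ne_zero (i : ℕ) : ∃ t, (rv i : Fin 3 → ℍ[ℝ]) t ≠ 0 := by
  by_contra h
  have h' : ∀ t, (rv i : Fin 3 → ℍ[ℝ]) t = 0 := by
    intro t
    by_contra ht
    exact h ⟨t, ht⟩
  have h4 := rv_four i
  rw [qip_three, h' 0, h' 1, h' 2] at h4
  have e4 : (4 : ℍ[ℝ]) = ((4 : ℝ) : ℍ[ℝ]) := by norm_cast
  rw [e4] at h4
  have := congrArg QuaternionAlgebra.re h4
  simp at this

theorem minV_inj {p p' : ℕ × ℕ} (hp : p.1 < 120 ∧ p.2 < 315) (hp' : p'.1 < 120 ∧ p'.2 < 315)
    (h : minV p = minV p') : p = p' := by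
  have h1 : ρ p.2 = ρ p'.2 := by
    have e1 := reflPerm_lsm_unit (unitQ_mem p.1) (rfl : minV p = _) (minV_mem p) (minV_four p)
      (rv p.2).2 (rv_four _)
    have e2 := reflPerm_lsm_unit (unitQ_mem p'.1) (rfl : minV p' = _) (minV_mem p') (minV_four p')
      (rv p'.2).2 (rv_four _)
    unfold ρ
    rw [← e1, ← e2]
    exact reflPerm_congr h _ _ _ _
  have h2 := ρ_inj hp.2 hp'.2 h1
  obtain ⟨t, ht⟩ := rv_ne_zero p.2
  have h3 := congrFun h t
  unfold minV lsm at h3
  rw [← h2] at h3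
  have h4 : val (unitQ p.1) = val (unitQ p'.1) := mul_right_cancel₀ ht h3
  have h5 := unitQ_inj hp.1 hp'.1 (val_injective h4)
  exact Prod.ext h5 h2

theorem min_set_eq : {r : Fin 3 → ℍ[ℝ] | r ∈ icoLeech ∧ qip r r = 4} =
    minV '' ((Finset.range 120 ×ˢ Finset.range 315 : Finset (ℕ × ℕ)) : Set (ℕ × ℕ)) := by
  ext r
  constructor
  · rintro ⟨hr, h4⟩
    obtain ⟨U, hU, R, hR, e⟩ := classify_val hr h4
    obtain ⟨k, hk, rfl⟩ := exists_unitQ hU
    obtain ⟨i, hi, rfl⟩ := exists_repV hR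
    refine ⟨(k, i), ?_, e.symm⟩
    simp [hk, hi]
  · rintro ⟨p, -, rfl⟩
    exact ⟨minV_mem p, minV_four p⟩

/-- **there are exactly `37800` minimal vectors** -/
theorem ncard_min : {r : Fin 3 → ℍ[ℝ] | r ∈ icoLeech ∧ qip r r = 4}.ncard = 37800 := by
  rw [min_set_eq, Set.InjOn.ncard_image, Set.ncard_coe_finset, Finset.card_product, Finset.card_range,
    Finset.card_range]
  intro p hp p' hp' h
  simp only [Finset.coe_product, Finset.coe_range, Set.mem_prod, Set.mem_Iio] at hp hp'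
  exact minV_inj hp hp' h

end Cfsg.Agent.Lib.H3.J2
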