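/-
helper3 library (J2 icosian family): the shells of the doubled icosians as residues, by a search
written with recursors and strict accumulators (fast in the kernel), with its completeness.
-/
import Cfsg.Agent.Lib.H3.J2.Fast
import Cfsg.Agent.Lib.H17.CosetCert

set_option autoImplicit false
set_option maxRecDepth 100000

namespace Cfsg.Agent.Lib.H3.J2

open Cfsg.Agent.Lib.H17.CosetCert (force force_eq)

/-- evaluate the head constructor of a list before continuing -/
def forceH {α β : Type} (l : List α) (k : List α → β) : β :=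
  List.rec (motive := fun _ => β) (k []) (fun a as _ => k (a :: as)) l

@[simp] theorem forceH_eq {α β : Type} (l : List α) (k : List α → β) : forceH l k = k l := by
  cases l <;> rfl

/-- one candidate coordinate `r` with square `s` and parity `q` -/
def tryC (ih : ℕ → List ℕ → List (List ℕ) → List (List ℕ)) (π rem : ℕ) (pre : List ℕ) (r s q : ℕ)
    (acc : List (List ℕ)) : List (List ℕ) :=
  cond (Nat.beq q π && Nat.ble s rem) (ih (Nat.sub rem s) (r :: pre) acc) acc

/-- all lists of residues (in reverse order) with the given parities and sum of squares -/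
def sqA (πs : List ℕ) : ℕ → List ℕ → List (List ℕ) → List (List ℕ) :=
  List.rec (motive := fun _ => ℕ → List ℕ → List (List ℕ) → List (List ℕ))
    (fun rem pre acc => cond (Nat.beq rem 0) (pre :: acc) acc)
    (fun π _ ih rem pre acc =>
      tryC ih π rem pre 65532 16 0 (tryC ih π rem pre 65533 9 1 (tryC ih π rem pre 65534 4 0
        (tryC ih π rem pre 65535 1 1 (tryC ih π rem pre 0 0 0 (tryC ih π rem pre 1 1 1
          (tryC ih π rem pre 2 4 0 (tryC ih π rem pre 3 9 1 (tryC ih π rem pre 4 16 0 acc)))))))))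
    πs

theorem sqA_nil (rem : ℕ) (pre : List ℕ) (acc : List (List ℕ)) :
    sqA [] rem pre acc = cond (Nat.beq rem 0) (pre :: acc) acc := rfl

theorem sqA_cons (π : ℕ) (πs : List ℕ) (rem : ℕ) (pre : List ℕ) (acc : List (List ℕ)) :
    sqA (π :: πs) rem pre acc =
      tryC (sqA πs) π rem pre 65532 16 0 (tryC (sqA πs) π rem pre 65533 9 1
        (tryC (sqA πs) π rem pre 65534 4 0 (tryC (sqA πs) π rem pre 65535 1 1
          (tryC (sqA πs) π rem pre 0 0 0 (tryC (sqA πs) π rem pre 1 1 1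
            (tryC (sqA πs) π rem pre 2 4 0 (tryC (sqA πs) π rem pre 3 9 1
              (tryC (sqA πs) π rem pre 4 16 0 acc)))))))) := rfl

/-- the accumulator is kept -/
def Mono (ih : ℕ → List ℕ → List (List ℕ) → List (List ℕ)) : Prop :=
  ∀ rem pre acc x, x ∈ acc → x ∈ ih rem pre acc

theorem tryC_mono {ih : ℕ → List ℕ → List (List ℕ) → List (List ℕ)} (hih : Mono ih) (π rem : ℕ)
    (pre : List ℕ) (r s q : ℕ) (acc : List (List ℕ)) (x : List ℕ) (hx : x ∈ acc) :
    x ∈ tryC ih π rem pre r s q acc := by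
  unfold tryC
  cases (Nat.beq q π && Nat.ble s rem)
  · exact hx
  · exact hih _ _ _ _ hx

theorem tryC_hit {ih : ℕ → List ℕ → List (List ℕ) → List (List ℕ)} (π rem : ℕ)
    (pre : List ℕ) (r s q : ℕ) (acc : List (List ℕ)) (x : List ℕ) (hq : q = π) (hs : s ≤ rem)
    (hx : x ∈ ih (rem - s) (r :: pre) acc) : x ∈ tryC ih π rem pre r s q acc := by
  unfold tryC
  have hb : (Nat.beq q π && Nat.ble s rem) = true := by
    rw [Bool.and_eq_true, Nat.beq_eq, Nat.ble_eq]
    exact ⟨hq, hs⟩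
  rw [hb]
  exact hx

theorem sqA_mono : ∀ πs : List ℕ, Mono (sqA πs)
  | [] => by
    intro rem pre acc x hx
    rw [sqA_nil]
    cases Nat.beq rem 0
    · exact hx
    · exact List.mem_cons_of_mem _ hx
  | π :: πs => by
    intro rem pre acc x hx
    rw [sqA_cons]
    have h := sqA_mono πs
    iterate 9 apply tryC_mono h
    exact hx

theorem mem_sqA : ∀ (πs l : List ℤ) (rem : ℤ) (pre : List ℕ) (acc : List (List ℕ)), rem ≤ 16 →
    List.Forall₂ (fun c π => c % 2 = π) l πs → ssq l = rem →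
    (l.map encZ).reverse ++ pre ∈ sqA (πs.map Int.toNat) rem.toNat pre acc
  | [], l, rem, pre, acc, _, hf, hs => by
    cases hf
    simp only [ssq] at hs
    subst hs
    simp [sqA_nil]
  | π :: πs, l, rem, pre, acc, hrem, hf, hs => by
    cases hf with
    | cons hc hl =>
      rename_i c l'
      simp only [ssq] at hs
      have hnn := ssq_nonneg l'
      have hcc : c * c ≤ rem := by linarith
      have hc0 : 0 ≤ c * c := mul_self_nonneg c
      have ih := fun acc' => mem_sqA πs l' (rem - c * c) (encZ c :: pre) acc' (by linarith) hl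
        (by linarith)
      have e1 : ((c :: l').map encZ).reverse ++ pre = (l'.map encZ).reverse ++ (encZ c :: pre) := by
        simp
      have e2 : (rem - c * c).toNat = rem.toNat - (c * c).toNat := by omega
      rw [e1, List.map_cons, sqA_cons]
      rw [e2] at ih
      have hm := sqA_mono (πs.map Int.toNat)
      have hs' : (c * c).toNat ≤ rem.toNat := by omega
      have hπ : (c % 2).toNat = π.toNat := by rw [hc]
      have h1 : -4 ≤ c := by nlinarith
      have h2 : c ≤ 4 := by nlinarith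
      clear hs hcc hnn e1 e2 hl hc hrem hc0
      interval_cases c
      · exact tryC_hit _ _ _ _ _ _ _ _ hπ hs' (ih _)
      · exact tryC_mono hm _ _ _ _ _ _ _ _ (tryC_hit _ _ _ _ _ _ _ _ hπ hs' (ih _))
      · exact tryC_mono hm _ _ _ _ _ _ _ _ (tryC_mono hm _ _ _ _ _ _ _ _
          (tryC_hit _ _ _ _ _ _ _ _ hπ hs' (ih _)))
      · exact tryC_mono hm _ _ _ _ _ _ _ _ (tryC_mono hm _ _ _ _ _ _ _ _ (tryC_mono hm _ _ _ _ _ _ _ _
          (tryC_hit _ _ _ _ _ _ _ _ hπ hs' (ih _))))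
      · exact tryC_mono hm _ _ _ _ _ _ _ _ (tryC_mono hm _ _ _ _ _ _ _ _ (tryC_mono hm _ _ _ _ _ _ _ _
          (tryC_mono hm _ _ _ _ _ _ _ _ (tryC_hit _ _ _ _ _ _ _ _ hπ hs' (ih _)))))
      · exact tryC_mono hm _ _ _ _ _ _ _ _ (tryC_mono hm _ _ _ _ _ _ _ _ (tryC_mono hm _ _ _ _ _ _ _ _
          (tryC_mono hm _ _ _ _ _ _ _ _ (tryC_mono hm _ _ _ _ _ _ _ _
            (tryC_hit _ _ _ _ _ _ _ _ hπ hs' (ih _))))))
      · exact tryC_mono hm _ _ _ _ _ _ _ _ (tryC_mono hm _ _ _ _ _ _ _ _ (tryC_mono hm _ _ _ _ _ _ _ _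
          (tryC_mono hm _ _ _ _ _ _ _ _ (tryC_mono hm _ _ _ _ _ _ _ _ (tryC_mono hm _ _ _ _ _ _ _ _
            (tryC_hit _ _ _ _ _ _ _ _ hπ hs' (ih _)))))))
      · exact tryC_mono hm _ _ _ _ _ _ _ _ (tryC_mono hm _ _ _ _ _ _ _ _ (tryC_mono hm _ _ _ _ _ _ _ _
          (tryC_mono hm _ _ _ _ _ _ _ _ (tryC_mono hm _ _ _ _ _ _ _ _ (tryC_mono hm _ _ _ _ _ _ _ _
            (tryC_mono hm _ _ _ _ _ _ _ _ (tryC_hit _ _ _ _ _ _ _ _ hπ hs' (ih _))))))))
      · exact tryC_mono hm _ _ _ _ _ _ _ _ (tryC_mono hm _ _ _ _ _ _ _ _ (tryC_mono hm _ _ _ _ _ _ _ _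
          (tryC_mono hm _ _ _ _ _ _ _ _ (tryC_mono hm _ _ _ _ _ _ _ _ (tryC_mono hm _ _ _ _ _ _ _ _
            (tryC_mono hm _ _ _ _ _ _ _ _ (tryC_mono hm _ _ _ _ _ _ _ _
              (tryC_hit _ _ _ _ _ _ _ _ hπ hs' (ih _)))))))))

/-- the parity patterns, as lists of natural numbers -/
def codeL : List (List ℕ) :=
  [[0, 0, 0, 0, 0, 0, 0, 0], [0, 0, 0, 1, 1, 0, 1, 1], [0, 0, 1, 0, 1, 1, 0, 1], [0, 0, 1, 1, 0, 1, 1, 0],
    [0, 1, 0, 0, 1, 1, 1, 0], [0, 1, 0, 1, 0, 1, 0, 1], [0, 1, 1, 0, 0, 0, 1, 1], [0, 1, 1, 1, 1, 0, 0, 0],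
    [1, 0, 0, 0, 0, 1, 1, 1], [1, 0, 0, 1, 1, 1, 0, 0], [1, 0, 1, 0, 1, 0, 1, 0], [1, 0, 1, 1, 0, 0, 0, 1],
    [1, 1, 0, 0, 1, 0, 0, 1], [1, 1, 0, 1, 0, 0, 1, 0], [1, 1, 1, 0, 0, 1, 0, 0], [1, 1, 1, 1, 1, 1, 1, 1]]

theorem codeL_eq : ∀ κ ∈ codeQ, κ.toL.map Int.toNat ∈ codeL := by decide

/-- the shell over a list of patterns -/
def shellC (p : ℕ) (cs : List (List ℕ)) : List (List ℕ) :=
  List.rec (motive := fun _ => List (List ℕ)) [] (fun κ _ ih => sqA κ p [] ih) cs

/-- the residues (in reverse order) of the doubled icosians with `nP = p` -/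
def shellA (p : ℕ) : List (List ℕ) := shellC p codeL

theorem shellC_cons (p : ℕ) (κ : List ℕ) (cs : List (List ℕ)) :
    shellC p (κ :: cs) = sqA κ p [] (shellC p cs) := rfl

theorem mem_shellC (p : ℕ) (x : List ℕ) : ∀ (cs : List (List ℕ)) (κ : List ℕ), κ ∈ cs →
    (∀ acc, x ∈ sqA κ p [] acc) → x ∈ shellC p cs
  | [], _, h, _ => by cases h
  | κ' :: cs, κ, h, hx => by
    rw [shellC_cons]
    rcases List.mem_cons.mp h with rfl | h
    · exact hx _
    · exact sqA_mono _ _ _ _ _ (mem_shellC p x cs κ h hx)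

/-- **Completeness of the shells.** -/
theorem mem_shellA {x : Q} (hx : inL2 x = true) {p : ℕ} (hp : p ≤ 16) (h : x.nP = p) :
    (x.toL.map encZ).reverse ∈ shellA p := by
  rw [inL2_iff] at hx
  refine mem_shellC p _ codeL _ (codeL_eq _ hx) ?_
  intro acc
  have := mem_sqA x.kap.toL x.toL p [] acc (by exact_mod_cast hp) ?_ (by rw [Q.ssq_toL, h])
  · simpa using this
  · simp only [Q.toL, Q.kap]
    repeat first
      | exact List.Forall₂.nil
      | refine List.Forall₂.cons rfl ?_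

end Cfsg.Agent.Lib.H3.J2
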