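/-
helper3 library (J2 icosian family): definitions for the enumeration of the minimal vectors
(written for fast evaluation in the kernel).
-/
import Cfsg.Agent.Lib.H3.J2.ShellA

set_option autoImplicit false
set_option maxRecDepth 100000

namespace Cfsg.Agent.Lib.H3.J2

open Cfsg.Agent.Lib.H17.CosetCert (force force_eq)

/-- a loop with a strictly evaluated accumulator -/
def foldA {α β : Type} (f : α → List β → List β) (l : List α) (acc : List β) : List β :=
  List.rec (motive := fun _ => List β → List β) (fun acc => acc)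
    (fun a _ ih acc => forceH (f a acc) ih) l acc

theorem foldA_nil {α β : Type} (f : α → List β → List β) (acc : List β) : foldA f [] acc = acc := rfl

theorem foldA_cons {α β : Type} (f : α → List β → List β) (a : α) (l : List α) (acc : List β) :
    foldA f (a :: l) acc = foldA f l (f a acc) := by
  show forceH (f a acc) (foldA f l) = _
  rw [forceH_eq]

/-- the step keeps the accumulator -/
def MonoF {α β : Type} (f : α → List β → List β) : Prop := ∀ a acc x, x ∈ acc → x ∈ f a acc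

theorem foldA_mono {α β : Type} {f : α → List β → List β} (hf : MonoF f) :
    ∀ (l : List α) (acc : List β) (x : β), x ∈ acc → x ∈ foldA f l acc
  | [], _, _, h => h
  | a :: l, acc, x, h => by
    rw [foldA_cons]
    exact foldA_mono hf l _ x (hf a acc x h)

theorem foldA_hit {α β : Type} {f : α → List β → List β} (hf : MonoF f) {a : α} {x : β}
    (hx : ∀ acc, x ∈ f a acc) : ∀ (l : List α) (acc : List β), a ∈ l → x ∈ foldA f l acc
  | [], _, h => by cases h
  | b :: l, acc, h => by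
    rw [foldA_cons]
    rcases List.mem_cons.mp h with rfl | h
    · exact foldA_mono hf l _ x (hx acc)
    · exact foldA_hit hf hx l _ h

/-- evaluate the coordinates before continuing -/
def forceQ {β : Type} (q : QN) (k : QN → β) : β :=
  force q.a0 fun a0 => force q.b0 fun b0 => force q.a1 fun a1 => force q.b1 fun b1 =>
  force q.a2 fun a2 => force q.b2 fun b2 => force q.a3 fun a3 => force q.b3 fun b3 =>
    k ⟨a0, b0, a1, b1, a2, b2, a3, b3⟩

@[simp] theorem forceQ_eq {β : Type} (q : QN) (k : QN → β) : forceQ q k = k q := by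
  cases q
  simp only [forceQ, force_eq]

/-- a reversed list of eight residues as an element -/
def ofLr : List ℕ → QN
  | [b3, a3, b2, a2, b1, a1, b0, a0] => ⟨a0, b0, a1, b1, a2, b2, a3, b3⟩
  | _ => ⟨0, 0, 0, 0, 0, 0, 0, 0⟩

theorem ofLr_enc (x : Q) : ofLr (x.toL.map encZ).reverse = enc x := rfl

/-- `b² + 2ab` -/
def tq (a b : ℕ) : ℕ := Nat.mul b (Nat.add b (Nat.add a a))

/-- the `τ`-part of four times the norm, as a residue -/
def tN (x : QN) : ℕ :=
  Nat.mod (Nat.add (Nat.add (tq x.a0 x.b0) (tq x.a1 x.b1)) (Nat.add (tq x.a2 x.b2) (tq x.a3 x.b3))) 65536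

/-- the rational part of four times the norm, as a residue -/
def nPN (x : QN) : ℕ :=
  Nat.mod (Nat.add (Nat.add (Nat.add (Nat.mul x.a0 x.a0) (Nat.mul x.b0 x.b0))
    (Nat.add (Nat.mul x.a1 x.a1) (Nat.mul x.b1 x.b1))) (Nat.add (Nat.add (Nat.mul x.a2 x.a2) (Nat.mul x.b2 x.b2))
    (Nat.add (Nat.mul x.a3 x.a3) (Nat.mul x.b3 x.b3)))) 65536

/-- residues of `h` -/
def HmN : QN := ⟨1, 65534, 1, 0, 1, 0, 1, 0⟩

/-- residues of `h̄` -/
def HbN : QN := ⟨1, 65534, 65535, 0, 65535, 0, 65535, 0⟩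

/-- a doubled icosian with its products with `h̄` and `h` and the `τ`-part of its norm -/
structure SR where
  /-- the element -/ w : QN
  /-- product with `h̄` -/ hb : QN
  /-- product with `h` -/ hm : QN
  /-- `τ`-part of the norm -/ t : ℕ

/-- the record of an element -/
def srOf (w : QN) : SR := ⟨w, w.mulF HbN, w.mulF HmN, tN w⟩

/-- the record of an element, evaluated -/
def mkRec {β : Type} (w : QN) (k : SR → β) : β :=
  forceQ w fun w => forceQ (w.mulF HbN) fun hb => forceQ (w.mulF HmN) fun hm =>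
    force (tN w) fun t => k ⟨w, hb, hm, t⟩

@[simp] theorem mkRec_eq {β : Type} (w : QN) (k : SR → β) : mkRec w k = k (srOf w) := by
  simp only [mkRec, forceQ_eq, force_eq, srOf]

/-- the records of a list of elements -/
def mkSD (L : List (List ℕ)) : List SR := foldA (fun l acc => mkRec (ofLr l) fun r => r :: acc) L []

/-- the mask of the parity patterns -/
def codeMask : ℕ := 57896044672683303739491374337242194723106152940323587100272175209821643997185

/-- the second bit -/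
def bit2 (c : ℕ) : ℕ := Nat.mod (Nat.div c 4) 2

/-- the index of a parity pattern -/
def idxP (b0 b1 b2 b3 b4 b5 b6 b7 : ℕ) : ℕ :=
  Nat.add b0 (Nat.mul 2 (Nat.add b1 (Nat.mul 2 (Nat.add b2 (Nat.mul 2 (Nat.add b3 (Nat.mul 2 (Nat.add b4
    (Nat.mul 2 (Nat.add b5 (Nat.mul 2 (Nat.add b6 (Nat.mul 2 b7)))))))))))))

/-- the test: is the element four times a doubled icosian? -/
def okN (p : QN) : Bool :=
  Nat.beq (Nat.add (Nat.add (Nat.add (Nat.mod p.a0 4) (Nat.mod p.b0 4)) (Nat.add (Nat.mod p.a1 4) (Nat.mod p.b1 4)))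
    (Nat.add (Nat.add (Nat.mod p.a2 4) (Nat.mod p.b2 4)) (Nat.add (Nat.mod p.a3 4) (Nat.mod p.b3 4)))) 0 &&
  Nat.beq (Nat.land (Nat.shiftRight codeMask (idxP (bit2 p.a0) (bit2 p.b0) (bit2 p.a1) (bit2 p.b1) (bit2 p.a2)
    (bit2 p.b2) (bit2 p.a3) (bit2 p.b3))) 1) 1

/-- three residues -/
structure V3N where
  /-- coordinate -/ x : QN
  /-- coordinate -/ y : QN
  /-- coordinate -/ z : QN
deriving DecidableEq

/-- the test for the last coordinate -/
def testZ (y : SR) (ayt : ℕ) (ayhm : QN) (z : SR) : Bool :=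
  Nat.beq (Nat.mod (Nat.add ayt z.t) 65536) 0 && (okN (QN.subF y.hb z.hb) && okN (QN.addF ayhm z.hm))

/-- the loop over the last coordinate -/
def stepZ (a y : SR) (ayt : ℕ) (ayhm : QN) (z : SR) (acc : List V3N) : List V3N :=
  cond (testZ y ayt ayhm z) (⟨a.w, y.w, z.w⟩ :: acc) acc

/-- the loop over the second coordinate -/
def stepY (a : SR) (sz : List SR) (y : SR) (acc : List V3N) : List V3N :=
  cond (okN (QN.subF a.hb y.hb))
    (forceQ (QN.addF a.hm y.hm) fun ayhm => force (Nat.add a.t y.t) fun ayt =>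
      foldA (stepZ a y ayt ayhm) sz acc) acc

/-- the loop over the shell of the last coordinate -/
def stepQ (a : SR) (rem : ℕ) (sy : List SR) (pz : ℕ × List SR) (acc : List V3N) : List V3N :=
  cond (Nat.beq pz.1 rem) (foldA (stepY a pz.2) sy acc) acc

/-- the loop over the shell of the second coordinate -/
def stepP (a : SR) (pa : ℕ) (shs : List (ℕ × List SR)) (py : ℕ × List SR) (acc : List V3N) : List V3N :=
  cond (Nat.ble (Nat.add pa py.1) 16)
    (force (Nat.sub 16 (Nat.add pa py.1)) fun rem => foldA (stepQ a rem py.2) shs acc) acc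

/-- the loop over the first coordinate -/
def stepA (shs : List (ℕ × List SR)) (a : SR) (acc : List V3N) : List V3N :=
  force (nPN a.w) fun pa => foldA (stepP a pa shs) shs acc

/-- all candidates -/
def enumAll (shs : List (ℕ × List SR)) (ca : List SR) : List V3N := foldA (stepA shs) ca []

/-- the chosen representatives of the doubled icosians of norm `1`, `τ²`, `2`, ... , `4` up to left
multiplication by units -/
def caQ : List Q := [⟨2, 0, 0, 0, 0, 0, 0, 0⟩, ⟨1, 1, 1, 0, 0, 1, 0, 0⟩, ⟨2, 2, 0, 0, 0, 0, 0, 0⟩, ⟨2, 1, 1, 1, 1, 0, 0, 0⟩, ⟨2, 1, 1, 1, -1, 0, 0, 0⟩, ⟨2, 1, 1, 0, 0, 0, 1, 1⟩, ⟨2, 1, 1, 0, 0, 0, 1, -1⟩, ⟨2, 1, 1, 0, 0, 0, -1, 1⟩, ⟨2, 1, 1, 0, 0, 0, -1, -1⟩, ⟨2, 1, 1, -1, 1, 0, 0, 0⟩, ⟨2, 1, 1, -1, -1, 0, 0, 0⟩, ⟨2, 1, 0, 1, 0, 1, 0, -1⟩, ⟨2, 1, 0, 0, 1, -1, 1, 0⟩, ⟨2, 1, 0, 0, 1, -1, -1, 0⟩, ⟨2, 0, 2, 0, 0, 0, 0, 0⟩, ⟨2, 0, 1, 0, 1, -1, 0, 1⟩, ⟨2, 0, 1, 0, 1, -1, 0, -1⟩, ⟨2, 0, 1, 0, -1, 1, 0, 1⟩, ⟨2, 0, 1, 0,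 -1, 1, 0, -1⟩, ⟨2, -1, 1, 0, 0, 0, 1, -1⟩, ⟨4, 0, 0, 0, 0, 0, 0, 0⟩, ⟨3, 0, 2, 0, 0, 1, 1, -1⟩, ⟨3, 0, 2, 0, 0, 1, -1, 1⟩, ⟨3, 0, 2, 0, 0, -1, 1, -1⟩, ⟨3, 0, 2, 0, 0, -1, -1, 1⟩, ⟨3, 0, 2, -1, 1, 1, 0, 0⟩, ⟨3, 0, 2, -1, -1, -1, 0, 0⟩, ⟨3, 0, 1, 1, 0, 0, 2, -1⟩, ⟨3, 0, 1, 1, 0, 0, -2, 1⟩, ⟨3, 0, 1, 0, 1, 0, -1, 2⟩, ⟨3, 0, 1, 0, 1, -2, -1, 0⟩, ⟨3, 0, 1, 0, -1, 2, 1, 0⟩, ⟨3, 0, 1, 0, -1, 0, 1, -2⟩, ⟨3, 0, 1, -1, 2, 0, 0, 1⟩, ⟨3, 0, 1, -1, 2, 0, 0, -1⟩, ⟨3, 0, 1, -1, -2, 0, 0, 1⟩, ⟨3, 0, 1, -1, -2, 0, 0, -1⟩, ⟨3, 0, 1, -2, 1, 0, 1, 0⟩, ⟨3, 0, 1, -2, -1, 0, -1, 0⟩, ⟨3, 0, 0, 1, 1, -1, 2, 0⟩, ⟨3, 0, 0, 1, -1, 1, -2, 0⟩]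

/-- their residues, reversed -/
def caL : List (List ℕ) := caQ.map fun A => (A.toL.map encZ).reverse

/-- the shells with their records -/
def withShells {β : Type} (k : List (ℕ × List SR) → β) : β :=
  forceH (mkSD (shellA 0)) fun s0 => forceH (mkSD (shellA 4)) fun s4 => forceH (mkSD (shellA 8)) fun s8 =>
    forceH (mkSD (shellA 12)) fun s12 => k [(0, s0), (4, s4), (8, s8), (12, s12)]

/-- the shells with their records -/
def shells : List (ℕ × List SR) :=
  [(0, mkSD (shellA 0)), (4, mkSD (shellA 4)), (8, mkSD (shellA 8)), (12, mkSD (shellA 12))]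

@[simp] theorem withShells_eq {β : Type} (k : List (ℕ × List SR) → β) : withShells k = k shells := by
  simp only [withShells, forceH_eq, shells]

/-- all minimal vectors whose first coordinate is a chosen representative -/
def found : List V3N := withShells fun shs => enumAll shs (mkSD caL)

/-- equality test -/
def V3N.beq (v w : V3N) : Bool := QN.beqF v.x w.x && QN.beqF v.y w.y && QN.beqF v.z w.z

/-- equality test for lists -/
def eqV3L : List V3N → List V3N → Bool :=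
  List.rec (motive := fun _ => List V3N → Bool)
    (fun l' => List.rec (motive := fun _ => Bool) true (fun _ _ _ => false) l')
    (fun v _ ih l' => List.rec (motive := fun _ => Bool) false (fun w ws _ => cond (V3N.beq v w) (ih ws) false) l')

end Cfsg.Agent.Lib.H3.J2
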