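/-
helper3 library (J2 icosian family): the `315` reflections of the icosian Leech lattice, indexed by
the representatives of the minimal vectors.
-/
import Cfsg.Agent.Lib.H3.J2.Class

set_option autoImplicit false
set_option maxRecDepth 100000

namespace Cfsg.Agent.Lib.H3.J2

open Quaternion Cfsg.Spor

/-- the vector `(2, 0, 0)` -/
def twoV : V3 := ⟨twoM, Q.zero, Q.zero⟩

theorem twoV_valid : Valid twoV := by decide

/-- the `i`-th representative -/
def repV (i : ℕ) : V3 := reps.getD i twoV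

theorem repV_mem {i : ℕ} (hi : i < 315) : repV i ∈ reps := by
  unfold repV
  rw [List.getD_eq_getElem _ _ (by rw [reps_length]; exact hi)]
  exact List.getElem_mem _

theorem repV_valid (i : ℕ) : Valid (repV i) := by
  by_cases hi : i < 315
  · exact reps_valid _ (repV_mem hi)
  · unfold repV
    rw [List.getD_eq_default _ _ (by rw [reps_length]; omega)]
    exact twoV_valid

theorem exists_repV {R : V3} (hR : R ∈ reps) : ∃ i < 315, repV i = R := by
  obtain ⟨i, hi, e⟩ := List.getElem_of_mem hR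
  refine ⟨i, by rw [← reps_length]; exact hi, ?_⟩
  unfold repV
  rw [List.getD_eq_getElem _ _ hi, e]

/-- the `i`-th representative as a lattice vector -/
noncomputable def rv (i : ℕ) : icoLeech := ⟨valV (repV i), ((valid_iff _).mp (repV_valid i)).1⟩

theorem rv_four (i : ℕ) : qip (rv i : Fin 3 → ℍ[ℝ]) (rv i) = 4 := ((valid_iff _).mp (repV_valid i)).2

/-- the `i`-th reflection -/
noncomputable def ρ (i : ℕ) : Equiv.Perm icoLeech := reflPerm (rv i) (rv i).2 (rv_four i)

theorem ρ_mem (i : ℕ) : ρ i ∈ twoJ2 := reflPerm_mem _ _ _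

theorem ρ_mul_self (i : ℕ) : ρ i * ρ i = 1 := reflPerm_mul_self _ _ _

theorem ρ_inv (i : ℕ) : (ρ i)⁻¹ = ρ i := reflPerm_inv _ _ _

theorem reflPerm_congr {r r' : Fin 3 → ℍ[ℝ]} (h : r = r') (hr : r ∈ icoLeech) (h4 : qip r r = 4)
    (hr' : r' ∈ icoLeech) (h4' : qip r' r' = 4) : reflPerm r hr h4 = reflPerm r' hr' h4' := by
  subst h
  rfl

theorem star_val_unit_mul {U : Q} (hU : U ∈ unitL) : star (val U) * val U = 1 := by
  rw [← val_conj, val_unit_conj_mul hU]

/-- the reflection only depends on the vector up to units -/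
theorem qrefl_lsm_unit {U : Q} (hU : U ∈ unitL) (r x : Fin 3 → ℍ[ℝ]) :
    qrefl (lsm (val U) r) x = qrefl r x := by
  funext t
  unfold qrefl
  rw [qip_lsm_right]
  simp only [lsm]
  rw [← smul_mul_assoc, mul_assoc ((1 / 2 : ℝ) • qip x r), ← mul_assoc (star (val U)),
    star_val_unit_mul hU, one_mul]

theorem reflPerm_lsm_unit {U : Q} (hU : U ∈ unitL) {r r' : Fin 3 → ℍ[ℝ]} (h : r = lsm (val U) r')
    (hr : r ∈ icoLeech) (h4 : qip r r = 4) (hr' : r' ∈ icoLeech) (h4' : qip r' r' = 4) :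
    reflPerm r hr h4 = reflPerm r' hr' h4' := by
  ext x : 1
  apply Subtype.ext
  rw [reflPerm_apply, reflPerm_apply, h, qrefl_lsm_unit hU]

/-- **every reflection is one of the `315` listed ones** -/
theorem exists_ρ_of_isIcoReflection {f : Equiv.Perm icoLeech} (hf : IsIcoReflection f) :
    ∃ i < 315, f = ρ i := by
  obtain ⟨r, hr, h4, rfl⟩ := exists_reflPerm_of_isIcoReflection hf
  obtain ⟨U, hU, R, hR, e⟩ := classify_val hr h4
  obtain ⟨i, hi, rfl⟩ := exists_repV hR
  exact ⟨i, hi, reflPerm_lsm_unit hU e _ _ _ _⟩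

/-- **conjugation of the listed reflections** -/
theorem conj_ρ {g : Equiv.Perm icoLeech} (hg : IsLin g) {i j : ℕ} {U : Q} (hU : U ∈ unitL)
    (h : ((g (rv i) : icoLeech) : Fin 3 → ℍ[ℝ]) = lsm (val U) (rv j)) : g * ρ i * g⁻¹ = ρ j := by
  unfold ρ
  rw [hg.conj_reflPerm (rv i) (rv_four i)]
  exact reflPerm_lsm_unit hU h _ _ _ _

/-- the group is generated by the listed reflections -/
theorem twoJ2_eq_closure : twoJ2 = Subgroup.closure (Set.range ρ) := by
  apply le_antisymm
  · unfold twoJ2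
    rw [Subgroup.closure_le]
    intro f hf
    obtain ⟨i, -, rfl⟩ := exists_ρ_of_isIcoReflection hf
    exact Subgroup.subset_closure ⟨i, rfl⟩
  · rw [Subgroup.closure_le]
    rintro _ ⟨i, rfl⟩
    exact ρ_mem i

theorem twoJ2_eq_closure' : twoJ2 = Subgroup.closure (ρ '' {i | i < 315}) := by
  apply le_antisymm
  · unfold twoJ2
    rw [Subgroup.closure_le]
    intro f hf
    obtain ⟨i, hi, rfl⟩ := exists_ρ_of_isIcoReflection hf
    exact Subgroup.subset_closure ⟨i, hi, rfl⟩
  · rw [Subgroup.closure_le]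
    rintro _ ⟨i, -, rfl⟩
    exact ρ_mem i

end Cfsg.Agent.Lib.H3.J2
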