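/-
helper3 library (J2 icosian family): the image in `J₂` of every reflection is conjugate to the image
of the generator `a` of the presented group.
-/
import Cfsg.Agent.Lib.H3.J2.Conj

set_option autoImplicit false
set_option maxRecDepth 100000

namespace Cfsg.Agent.Lib.H3.J2

open Quaternion Cfsg.Spor

theorem presEquivJ2_apply (x : Cfsg.Agent.Lib.H17.J2Pres.Grp) : presEquivJ2 x = toJ2 x := rfl

theorem presEquivJ2_a :
    presEquivJ2 (PresentedGroup.of Cfsg.Agent.Lib.H17.J2Pres.Gen.a) = ρJ 305 := by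
  rw [presEquivJ2_apply, toJ2_of]
  show gJ [0] = ρJ 305
  unfold gJ ρJ
  congr 1

/-- **the image of every reflection is conjugate to the image of the generator `a`** -/
theorem isConj_refl_image {f : Equiv.Perm icoLeech} (hf : IsIcoReflection f) (hfm : f ∈ twoJ2) :
    IsConj (presEquivJ2 (PresentedGroup.of Cfsg.Agent.Lib.H17.J2Pres.Gen.a))
      (QuotientGroup.mk (⟨f, hfm⟩ : twoJ2) : J2) := by
  obtain ⟨i, hi, rfl⟩ := exists_ρ_of_isIcoReflection hf
  rw [presEquivJ2_a, isConj_iff]
  have h := conj_orb hi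
  refine ⟨(QuotientGroup.mk ((gT (expand (orbW.getD i [])))⁻¹) : J2), ?_⟩
  unfold ρJ
  rw [← QuotientGroup.mk_inv, inv_inv, ← QuotientGroup.mk_mul, ← QuotientGroup.mk_mul]
  congr 1
  apply Subtype.ext
  exact h

end Cfsg.Agent.Lib.H3.J2
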