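/-
helper3 library (J2 icosian family): the image in `J₂` of every reflection is conjugate to the image
of the generator `b` of the presented group.
-/
import Cfsg.Agent.Lib.H3.J2.ReflClass

set_option autoImplicit false
set_option maxRecDepth 100000

namespace Cfsg.Agent.Lib.H3.J2

open Quaternion Cfsg.Spor

theorem gw_one : gw [1] = ρ 52 := by
  rw [gw_cons, gw_nil, mul_one]
  rfl

theorem presEquivJ2_b :
    presEquivJ2 (PresentedGroup.of Cfsg.Agent.Lib.H17.J2Pres.Gen.b) = ρJ 52 := by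
  rw [presEquivJ2_apply, toJ2_of]
  show gJ [1] = ρJ 52
  unfold gJ ρJ
  congr 1

/-- **the image of every reflection is a conjugate of the image of the generator `b`** -/
theorem exists_conj_refl_image {f : Equiv.Perm icoLeech} (hf : IsIcoReflection f) (hfm : f ∈ twoJ2) :
    ∃ k : J2, (QuotientGroup.mk (⟨f, hfm⟩ : twoJ2) : J2) =
      k * presEquivJ2 (PresentedGroup.of Cfsg.Agent.Lib.H17.J2Pres.Gen.b) * k⁻¹ := by
  obtain ⟨i, hi, rfl⟩ := exists_ρ_of_isIcoReflection hf
  rw [presEquivJ2_b]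
  have h1 := conj_orb hi
  have h2 := conj_orb (i := 52) (by norm_num)
  set gi := gT (expand (orbW.getD i [])) with hgi
  set gb := gT (expand (orbW.getD 52 [])) with hgb
  refine ⟨(QuotientGroup.mk (gi⁻¹ * gb) : J2), ?_⟩
  unfold ρJ
  rw [← QuotientGroup.mk_inv, ← QuotientGroup.mk_mul, ← QuotientGroup.mk_mul]
  congr 1
  apply Subtype.ext
  show ρ i = (gi : Equiv.Perm icoLeech)⁻¹ * (gb : Equiv.Perm icoLeech) * ρ 52 *
    ((gi : Equiv.Perm icoLeech)⁻¹ * (gb : Equiv.Perm icoLeech))⁻¹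
  have h1' : ((gi : Equiv.Perm icoLeech))⁻¹ * ρ 305 * (gi : Equiv.Perm icoLeech) = ρ i := h1
  have h2' : ((gb : Equiv.Perm icoLeech))⁻¹ * ρ 305 * (gb : Equiv.Perm icoLeech) = ρ 52 := h2
  rw [← h1', ← h2']
  simp only [mul_inv_rev, inv_inv, mul_assoc, mul_inv_cancel_left, mul_inv_cancel, mul_one]

end Cfsg.Agent.Lib.H3.J2
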